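/- The action of J2 on 315 points (generated). -/
import Cfsg.Agent.SPOR.A10.JFix
import Cfsg.Agent.SPOR.A10.JCore
set_option autoImplicit false
set_option Elab.async false
set_option maxRecDepth 100000

namespace CL.JM2
open CL.CE CL.K CL.Net

noncomputable def n0_o0 : ℕ := (nat_lit 0x358df0ee5bbd703fede00620e3153a510507d920358cf00f5b97703ffde0162062142a550707dd20)
noncomputable def n0_o1 : ℕ := (nat_lit 0xfdc9a1a76d78642fa9faede83db663386627a9da8eb921ee872b63c5adb0ceb9092d832b218ca8a0)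
noncomputable def n0_o2 : ℕ := (nat_lit 0x957f17b4c088a8d8f23c92c99ca79eb2c997ab9fc5f0ec9820400f8b94ef62ce4627bc03ca0664ba)
noncomputable def n0_o3 : ℕ := (nat_lit 0x5a1011e602c8e42d3ee30b0024e2076d283ba43d71e2953daadde42cb726ba181b80c33d18c3f54)
noncomputable def n0_o4 : ℕ := (nat_lit 0x2e37390af18a2f35824be83a45704fd8b68b03e0d717fa2010d82410b2a4240bb9ab62a01d0f1380)
noncomputable def n0_o5 : ℕ := (nat_lit 0x778ded0f1b15e09a1910b571a630870200fc0d854664bb2a9b2045707702d7f03a7195144de14a18)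
noncomputable def n0_m0 : ℕ := (nat_lit 0x800040108001000010000100001000010000000400000000040020000000000000001020)
noncomputable def n0_m1 : ℕ := (nat_lit 0x1021294000902120024000a0080a50002408020084a00900001400080850002020005200812940)
noncomputable def n0_m2 : ℕ := (nat_lit 0x14a4214a0294852948421004014842148421425010a401085200a409405290050148021404294a4)
noncomputable def n0_m3 : ℕ := (nat_lit 0x40848508425284a5084a1210a0294a5284a1294a4204a1284a4284a1280a5094a4284a5090a10948)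
noncomputable def n0_m4 : ℕ := (nat_lit 0xa100420280a0210a12900128084000a1210040102001425200842008429481284800902001020)
noncomputable def n0 : List (ℕ × ℕ) := [(nat_lit 160, mlo (nat_lit 320) (nat_lit 160) n0_o0),
  (nat_lit 80, mlo (nat_lit 320) (nat_lit 80) n0_o1),
  (nat_lit 40, mlo (nat_lit 320) (nat_lit 40) n0_o2),
  (nat_lit 20, mlo (nat_lit 320) (nat_lit 20) n0_o3),
  (nat_lit 10, mlo (nat_lit 320) (nat_lit 10) n0_o4),
  (nat_lit 5, mlo (nat_lit 320) (nat_lit 5) n0_o5),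
  (nat_lit 1, n0_m0),
  (nat_lit 1, n0_m1),
  (nat_lit 1, n0_m2),
  (nat_lit 1, n0_m3),
  (nat_lit 1, n0_m4),
  (nat_lit 5, mhi (nat_lit 320) (nat_lit 5) n0_o5),
  (nat_lit 10, mhi (nat_lit 320) (nat_lit 10) n0_o4),
  (nat_lit 20, mhi (nat_lit 320) (nat_lit 20) n0_o3),
  (nat_lit 40, mhi (nat_lit 320) (nat_lit 40) n0_o2),
  (nat_lit 80, mhi (nat_lit 320) (nat_lit 80) n0_o1),
  (nat_lit 160, mhi (nat_lit 320) (nat_lit 160) n0_o0)]
theorem v0 : validNet 320 n0 = true := by decide +kernel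
noncomputable def n1_o0 : ℕ := (nat_lit 0xa54025ced86fec6a25ced6a2092e21cd30da6820a54025ced86fec6a25ced6a2092e21cd30da6820)
noncomputable def n1_o1 : ℕ := (nat_lit 0x603aab68ab3651f32e10e03aab682b3651d3fe1083efa425d72b627195f883efa425d72b627197f8)
noncomputable def n1_o2 : ℕ := (nat_lit 0xe1626bb6d221726b26565098d22f20c7b9ebaf910a17b4f4a00a37a4b0a48fc8cb2d1c8fc8cb6d1c)
noncomputable def n1_o3 : ℕ := (nat_lit 0x13762d31044867c4867c2a00255fec96e0885e0a55d3209de6213801b71b0b71e0b75effc00afc52)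
noncomputable def n1_o4 : ℕ := (nat_lit 0x9caf2d53cb1aa4a120cc3594b1a8eff13ce0c2d98e02582218d42cb733641d074e639852108021f4)
noncomputable def n1_o5 : ℕ := (nat_lit 0x21e5a5654783c16b490c82713b7d87d698b53885d099c0594a4388e6200f16ac900405b598f410c8)
noncomputable def n1_m0 : ℕ := (nat_lit 0x28000000000042001404080000000000000084010000500000004a00902000000000000000000000)
noncomputable def n1_m1 : ℕ := (nat_lit 0x5014012100408400280a529005010a0000a129420200a00800009401294800142528020000800002)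
noncomputable def n1_m2 : ℕ := (nat_lit 0x28084294812108501405290812008521405210840100521405094a021484004a5210250040409024)
noncomputable def n1_m3 : ℕ := (nat_lit 0x521485294a5210a0290a5294a5084a1284a4294a4290a5290a129484094a4284a52942028021204a)
noncomputable def n1_m4 : ℕ := (nat_lit 0x500485090a5294240800008001214a1080a40908501425000a4284a508481210202848408424)
noncomputable def n1 : List (ℕ × ℕ) := [(nat_lit 160, mlo (nat_lit 320) (nat_lit 160) n1_o0),
  (nat_lit 80, mlo (nat_lit 320) (nat_lit 80) n1_o1),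
  (nat_lit 40, mlo (nat_lit 320) (nat_lit 40) n1_o2),
  (nat_lit 20, mlo (nat_lit 320) (nat_lit 20) n1_o3),
  (nat_lit 10, mlo (nat_lit 320) (nat_lit 10) n1_o4),
  (nat_lit 5, mlo (nat_lit 320) (nat_lit 5) n1_o5),
  (nat_lit 1, n1_m0),
  (nat_lit 1, n1_m1),
  (nat_lit 1, n1_m2),
  (nat_lit 1, n1_m3),
  (nat_lit 1, n1_m4),
  (nat_lit 5, mhi (nat_lit 320) (nat_lit 5) n1_o5),
  (nat_lit 10, mhi (nat_lit 320) (nat_lit 10) n1_o4),
  (nat_lit 20, mhi (nat_lit 320) (nat_lit 20) n1_o3),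
  (nat_lit 40, mhi (nat_lit 320) (nat_lit 40) n1_o2),
  (nat_lit 80, mhi (nat_lit 320) (nat_lit 80) n1_o1),
  (nat_lit 160, mhi (nat_lit 320) (nat_lit 160) n1_o0)]
theorem v1 : validNet 320 n1 = true := by decide +kernel
noncomputable def n2_o0 : ℕ := (nat_lit 0xfb72df1efd6d42219b4d86abc156c6324b490800fb72df1efd6d4221db4d86abc156c6324b4902)
noncomputable def n2_o1 : ℕ := (nat_lit 0x8c381ca2da77ddacc0208db798d0ca3ef018da4dc55317ed868378c44ce8c57317fd869378c44ca0)
noncomputable def n2_o2 : ℕ := (nat_lit 0x6c73b69320663c08997161b9e3247c574f30bb83fed6b42fc49ec6808ba8bf1c986d668f1f984d6e)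
noncomputable def n2_o3 : ℕ := (nat_lit 0xadd50adf74401c24f86f11c0260f6cd6880ef1a58b8a8db8e8ced308a92dc4fb464ff427ac05a56e)
noncomputable def n2_o4 : ℕ := (nat_lit 0x60302882932bb97932d05110c388f18331f1b00644adf47a78023dfb63d8ecaee1986e3f9b1b231a)
noncomputable def n2_o5 : ℕ := (nat_lit 0x7699ff5e528410b3009120a9585851d390111b9b3108ce74c612a95b2c49f59015218c3235e64704)
noncomputable def n2_m0 : ℕ := (nat_lit 0x200200000000001000002000100401000000000400001004200100000000004000000101400)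
noncomputable def n2_m1 : ℕ := (nat_lit 0x1014250140000080080a001005004a5080a001000080a0000a008420280800100128021010252840)
noncomputable def n2_m2 : ℕ := (nat_lit 0x214852808008085090a4004a4280a529425004a1214a5090a409085094a40048429085280a4294a0)
noncomputable def n2_m3 : ℕ := (nat_lit 0x5094a50148500421214a008421284a5284a408425094a5084a121425094a40948529021094812948)
noncomputable def n2_m4 : ℕ := (nat_lit 0x21425080000908408024004a10048500424084a1290a009405204a52848528400214a02942000424)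
noncomputable def n2 : List (ℕ × ℕ) := [(nat_lit 160, mlo (nat_lit 320) (nat_lit 160) n2_o0),
  (nat_lit 80, mlo (nat_lit 320) (nat_lit 80) n2_o1),
  (nat_lit 40, mlo (nat_lit 320) (nat_lit 40) n2_o2),
  (nat_lit 20, mlo (nat_lit 320) (nat_lit 20) n2_o3),
  (nat_lit 10, mlo (nat_lit 320) (nat_lit 10) n2_o4),
  (nat_lit 5, mlo (nat_lit 320) (nat_lit 5) n2_o5),
  (nat_lit 1, n2_m0),
  (nat_lit 1, n2_m1),
  (nat_lit 1, n2_m2),
  (nat_lit 1, n2_m3),
  (nat_lit 1, n2_m4),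
  (nat_lit 5, mhi (nat_lit 320) (nat_lit 5) n2_o5),
  (nat_lit 10, mhi (nat_lit 320) (nat_lit 10) n2_o4),
  (nat_lit 20, mhi (nat_lit 320) (nat_lit 20) n2_o3),
  (nat_lit 40, mhi (nat_lit 320) (nat_lit 40) n2_o2),
  (nat_lit 80, mhi (nat_lit 320) (nat_lit 80) n2_o1),
  (nat_lit 160, mhi (nat_lit 320) (nat_lit 160) n2_o0)]
theorem v2 : validNet 320 n2 = true := by decide +kernel
noncomputable def n3_o0 : ℕ := (nat_lit 0x772ce24ffd2686098bd8e7ae9dcc340519281864772ce24ffd2686098b98efae1dcd340599281864)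
noncomputable def n3_o1 : ℕ := (nat_lit 0xa5b82b6f645ea203cc80a5b9ab6e645ea203cc90ed5a13579047b3a85160ed5a9355905733a85160)
noncomputable def n3_o2 : ℕ := (nat_lit 0x9c450ab9c45b3d530136d500295e42f500a9ded22f0a8743b02f0a8743b02be63538703ba69438f0)
noncomputable def n3_o3 : ℕ := (nat_lit 0x342e612db7f95946b4c45d1b45f1a444f6c25ead242122421232ef0c60ab019b0319f2c9994dd994)
noncomputable def n3_o4 : ℕ := (nat_lit 0x66ab4a61b2d0b0de0ad1571dc312c47401be01055e97a4d9363a12aac3f3ccbb2a12bf8425b42108)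
noncomputable def n3_o5 : ℕ := (nat_lit 0xa3c0d23185443936110a861094204df609cc6117937de83d174568883d15e731852651d0407b5a1e)
noncomputable def n3_m0 : ℕ := (nat_lit 0x8080000810040000420000000040028000000200800000000000042802000001004200040000020)
noncomputable def n3_m1 : ℕ := (nat_lit 0x1014a0214240840009480294002842500400204012800508000200a500400000a529404080010140)
noncomputable def n3_m2 : ℕ := (nat_lit 0x210a5290a5294a50108509484010a5280a40948029405294a4014052948128005210a42902529480)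
noncomputable def n3_m3 : ℕ := (nat_lit 0x429425094a1284a029425294a1284250042529485090a1294a1080a509025284a529481294212940)
noncomputable def n3_m4 : ℕ := (nat_lit 0x8421294802902520085080040142429405094050042520485284812102128481014242802101420)
noncomputable def n3 : List (ℕ × ℕ) := [(nat_lit 160, mlo (nat_lit 320) (nat_lit 160) n3_o0),
  (nat_lit 80, mlo (nat_lit 320) (nat_lit 80) n3_o1),
  (nat_lit 40, mlo (nat_lit 320) (nat_lit 40) n3_o2),
  (nat_lit 20, mlo (nat_lit 320) (nat_lit 20) n3_o3),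
  (nat_lit 10, mlo (nat_lit 320) (nat_lit 10) n3_o4),
  (nat_lit 5, mlo (nat_lit 320) (nat_lit 5) n3_o5),
  (nat_lit 1, n3_m0),
  (nat_lit 1, n3_m1),
  (nat_lit 1, n3_m2),
  (nat_lit 1, n3_m3),
  (nat_lit 1, n3_m4),
  (nat_lit 5, mhi (nat_lit 320) (nat_lit 5) n3_o5),
  (nat_lit 10, mhi (nat_lit 320) (nat_lit 10) n3_o4),
  (nat_lit 20, mhi (nat_lit 320) (nat_lit 20) n3_o3),
  (nat_lit 40, mhi (nat_lit 320) (nat_lit 40) n3_o2),
  (nat_lit 80, mhi (nat_lit 320) (nat_lit 80) n3_o1),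
  (nat_lit 160, mhi (nat_lit 320) (nat_lit 160) n3_o0)]
theorem v3 : validNet 320 n3 = true := by decide +kernel
noncomputable def n4_o0 : ℕ := (nat_lit 0x9d0e96f548eb02d2fc82afe3c2c5cd98ba1820089d0e96f548eb02d2fc82afe3c2c5cd98ba182008)
noncomputable def n4_o1 : ℕ := (nat_lit 0x8be30c62ea7f2faa8e448be30c62ea7f2faa8e44322b5c7479161ff238b0302b597679145e7639b0)
noncomputable def n4_o2 : ℕ := (nat_lit 0x605ec68408646c59b909bd747cb6c0bd757cb7d0104dce9632124dce963271145c8d02765c4a00cb)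
noncomputable def n4_o3 : ℕ := (nat_lit 0x8936c027bfeea0c7c9f7f8202f8a128246622c7694654b525c089b0f764f88088cfc4c56f60527ec)
noncomputable def n4_o4 : ℕ := (nat_lit 0x749d3268f20eaba312cd133e1799e605014010045094ab0ad689b48dcb29ab954121c8b8be78ba03)
noncomputable def n4_o5 : ℕ := (nat_lit 0x36c92210a6440d4215a840020021903ec904f5a10a100680040601f7fc78264e63b9442f1011e57)
noncomputable def n4_m0 : ℕ := (nat_lit 0x8020200002000000424200000000000000004000000100000000040000008000080200000000000)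
noncomputable def n4_m1 : ℕ := (nat_lit 0x5284852900508000294a500000084010000428400280a000001000a120005004a50940020021000a)
noncomputable def n4_m2 : ℕ := (nat_lit 0x2148429484290210148529421214a520005210a401425094002102529080290a5294810900529405)
noncomputable def n4_m3 : ℕ := (nat_lit 0x529025294a520420294a508424084a5094a528484294a5280842842509425084a5294a529021294a)
noncomputable def n4_m4 : ℕ := (nat_lit 0x100120025014a020401004a5294a5210a0090a50102108425010042808101020094210042401400)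
noncomputable def n4 : List (ℕ × ℕ) := [(nat_lit 160, mlo (nat_lit 320) (nat_lit 160) n4_o0),
  (nat_lit 80, mlo (nat_lit 320) (nat_lit 80) n4_o1),
  (nat_lit 40, mlo (nat_lit 320) (nat_lit 40) n4_o2),
  (nat_lit 20, mlo (nat_lit 320) (nat_lit 20) n4_o3),
  (nat_lit 10, mlo (nat_lit 320) (nat_lit 10) n4_o4),
  (nat_lit 5, mlo (nat_lit 320) (nat_lit 5) n4_o5),
  (nat_lit 1, n4_m0),
  (nat_lit 1, n4_m1),
  (nat_lit 1, n4_m2),
  (nat_lit 1, n4_m3),
  (nat_lit 1, n4_m4),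
  (nat_lit 5, mhi (nat_lit 320) (nat_lit 5) n4_o5),
  (nat_lit 10, mhi (nat_lit 320) (nat_lit 10) n4_o4),
  (nat_lit 20, mhi (nat_lit 320) (nat_lit 20) n4_o3),
  (nat_lit 40, mhi (nat_lit 320) (nat_lit 40) n4_o2),
  (nat_lit 80, mhi (nat_lit 320) (nat_lit 80) n4_o1),
  (nat_lit 160, mhi (nat_lit 320) (nat_lit 160) n4_o0)]
theorem v4 : validNet 320 n4 = true := by decide +kernel
noncomputable def n5_o0 : ℕ := (nat_lit 0xf74116f32679405cb12fbfc159986cb879a89e02f6859491add802a9752addab1c55c4d8200bc35e)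
noncomputable def n5_o1 : ℕ := (nat_lit 0xea57d387890cd8c17b325882d3240e89bd412b11b8912ad88be2798024d0b8118ec88fca2b886484)
noncomputable def n5_o2 : ℕ := (nat_lit 0x913004c170240404090b011836b542f57b90a5cfd32a11a4f2d23a7d24df65d12ec3946c908840ca)
noncomputable def n5_o3 : ℕ := (nat_lit 0xa3072edf243612a7615b15b20d7b0278146293e54b04e42cca1a2d81a2c31a6e23866b7d9103dbc2)
noncomputable def n5_o4 : ℕ := (nat_lit 0x5c932210fb20a020007c1d37eb53cc48235f2224601eb48b4066957de170d0b8ecdb9c8484af4bd4)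
noncomputable def n5_o5 : ℕ := (nat_lit 0x2800f7a4bb411396f13a16144580ca534d650800365f8479060c4256984e6080148050371201d08)
noncomputable def n5_m0 : ℕ := (nat_lit 0x480000000042100000090000800000000000000000000401000000008008000000000102000400)
noncomputable def n5_m1 : ℕ := (nat_lit 0x94050140029424010012800100020204a000000010250902000004014a50008100080284812800)
noncomputable def n5_m2 : ℕ := (nat_lit 0x210a0290a1214842048121484284a40148520080010a5210a401405284a429005214840948421000)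
noncomputable def n5_m3 : ℕ := (nat_lit 0x12942528421294a10842509025294a42942500480084252848428021084a5200a429021294242800)
noncomputable def n5_m4 : ℕ := (nat_lit 0x28080290a520001094a0010002048120401000a5090010102501400280010042509400000a420004)
noncomputable def n5 : List (ℕ × ℕ) := [(nat_lit 160, mlo (nat_lit 320) (nat_lit 160) n5_o0),
  (nat_lit 80, mlo (nat_lit 320) (nat_lit 80) n5_o1),
  (nat_lit 40, mlo (nat_lit 320) (nat_lit 40) n5_o2),
  (nat_lit 20, mlo (nat_lit 320) (nat_lit 20) n5_o3),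
  (nat_lit 10, mlo (nat_lit 320) (nat_lit 10) n5_o4),
  (nat_lit 5, mlo (nat_lit 320) (nat_lit 5) n5_o5),
  (nat_lit 1, n5_m0),
  (nat_lit 1, n5_m1),
  (nat_lit 1, n5_m2),
  (nat_lit 1, n5_m3),
  (nat_lit 1, n5_m4),
  (nat_lit 5, mhi (nat_lit 320) (nat_lit 5) n5_o5),
  (nat_lit 10, mhi (nat_lit 320) (nat_lit 10) n5_o4),
  (nat_lit 20, mhi (nat_lit 320) (nat_lit 20) n5_o3),
  (nat_lit 40, mhi (nat_lit 320) (nat_lit 40) n5_o2),
  (nat_lit 80, mhi (nat_lit 320) (nat_lit 80) n5_o1),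
  (nat_lit 160, mhi (nat_lit 320) (nat_lit 160) n5_o0)]
theorem v5 : validNet 320 n5 = true := by decide +kernel
noncomputable def n6_o0 : ℕ := (nat_lit 0x7ec4b49021cb42a9f12255934cd5d5f0610b815a7f4014d22af9409cf1123fd14118e5b069a8150e)
noncomputable def n6_o1 : ℕ := (nat_lit 0x2843648e1480795a44874a21282fe2005966049f30444607507186125f4f065651173061264e562)
noncomputable def n6_o2 : ℕ := (nat_lit 0x29e175ca306fc7d50a1d51616401cc21c841b5f82d9600734cac96a09380681d65c10c685b285558)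
noncomputable def n6_o3 : ℕ := (nat_lit 0x224c0726c6fb46c9265494c54593b58aa28bead8182ee1a3f6212082041127174a4bf8820448b1ea)
noncomputable def n6_o4 : ℕ := (nat_lit 0x1245d937f327ca01b9f611cb50142490263b096314dab2819004215847dd3668a1e7cdb3214984)
noncomputable def n6_o5 : ℕ := (nat_lit 0xa7014e6001b06d30668c81908213d10045e837d8369800631f8435a450dab121c014974271ce5048)
noncomputable def n6_m0 : ℕ := (nat_lit 0x8000000a0004a0200a0000000002000000080000000020000000000000408000000010000008000)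
noncomputable def n6_m1 : ℕ := (nat_lit 0x10100001401094050148028004084802040101404080852802020000080a50000000020280050002)
noncomputable def n6_m2 : ℕ := (nat_lit 0x20084200a0290a0280a5094a529484210852008429005294050108001485294040000401484280a4)
noncomputable def n6_m3 : ℕ := (nat_lit 0x4004a50940121405294a52842129021290a4294a1280252902029005290a509084004a0284850048)
noncomputable def n6_m4 : ℕ := (nat_lit 0x8004284a00840028084084a0280852900400024094a428024014010908501404204a1014a401424)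
noncomputable def n6 : List (ℕ × ℕ) := [(nat_lit 160, mlo (nat_lit 320) (nat_lit 160) n6_o0),
  (nat_lit 80, mlo (nat_lit 320) (nat_lit 80) n6_o1),
  (nat_lit 40, mlo (nat_lit 320) (nat_lit 40) n6_o2),
  (nat_lit 20, mlo (nat_lit 320) (nat_lit 20) n6_o3),
  (nat_lit 10, mlo (nat_lit 320) (nat_lit 10) n6_o4),
  (nat_lit 5, mlo (nat_lit 320) (nat_lit 5) n6_o5),
  (nat_lit 1, n6_m0),
  (nat_lit 1, n6_m1),
  (nat_lit 1, n6_m2),
  (nat_lit 1, n6_m3),
  (nat_lit 1, n6_m4),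
  (nat_lit 5, mhi (nat_lit 320) (nat_lit 5) n6_o5),
  (nat_lit 10, mhi (nat_lit 320) (nat_lit 10) n6_o4),
  (nat_lit 20, mhi (nat_lit 320) (nat_lit 20) n6_o3),
  (nat_lit 40, mhi (nat_lit 320) (nat_lit 40) n6_o2),
  (nat_lit 80, mhi (nat_lit 320) (nat_lit 80) n6_o1),
  (nat_lit 160, mhi (nat_lit 320) (nat_lit 160) n6_o0)]
theorem v6 : validNet 320 n6 = true := by decide +kernel
noncomputable def nets0 : List (List (ℕ × ℕ)) := [n0, n1, n2, n3, n4, n5, n6]
theorem valid0 : Valid 320 nets0 := (((((((valid_nil _).cons v6).cons v5).cons v4).cons v3).cons v2).cons v1).cons v0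
theorem relq_0_0 : chkPlanes nets0 320 9 (relEqs A10.R2) 0 9 = true := by decide +kernel
theorem relq : ∀ e ∈ (relEqs A10.R2), ev (sigma nets0) e.1 = ev (sigma nets0) e.2 :=
  (valid0.eq_of_planes (by norm_num) ((uptoPlane_zero 9 (relEqs A10.R2)).step relq_0_0 rfl))
theorem pres0 : Pres (sigma nets0) JS.iv A10.R2 :=
  pres_of_rel (ivl := [0,1,2,3,4,6,5]) (rel_of_eqs relq) (by decide +kernel)
noncomputable def nets1 : List (List (ℕ × ℕ)) := []
theorem valid1 : Valid 320 nets1 := valid_nil _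
noncomputable def nets : List (List (ℕ × ℕ)) := nets0 ++ nets1
theorem valid : Valid 320 nets := valid0.append valid1
def es : List (List ℕ × List ℕ) := []
theorem eqs_0_0 : chkPlanes nets 320 9 es 0 9 = true := by decide +kernel
theorem eqs : ∀ e ∈ es, ev (sigma nets) e.1 = ev (sigma nets) e.2 :=
  (valid.eq_of_planes (by norm_num) ((uptoPlane_zero 9 es).step eqs_0_0 rfl))
theorem ge_H_2 : 1 ≤ Nat.card (gen (sigma nets) []) := one_le_card_gen valid []
theorem ge_H_1 : 12 ≤ Nat.card (gen (sigma nets) [[3,2,1,6,3,2,1,0,2,0,3,6,3,1,0], [2,1,5,2,1,5,0,2,0,6,5,0,3]]) :=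
  valid.step_le (ws' := []) (d := 3) (dc := 4) (p := 2) (n := 12) (by decide +kernel)
    (gen_le_of_eqs eqs [] (by decide +kernel)) ge_H_2 (by norm_num)
theorem ge_H_0 : 1920 ≤ Nat.card (gen (sigma nets) [[0], [1], [2], [3], [5], [6]]) :=
  valid.step_le (ws' := [[3,2,1,6,3,2,1,0,2,0,3,6,3,1,0], [2,1,5,2,1,5,0,2,0,6,5,0,3]]) (d := 4) (dc := 4) (p := 1) (n := 160) (by decide +kernel)
    (gen_le_of_eqs eqs [[3,2,1,5,3,2,1,0,2,0,3,5,3,1,0], [2,1,4,2,1,4,0,2,0,5,4,0,3]] (by decide +kernel)) ge_H_1 (by norm_num)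
theorem ge_H : 1920 ≤ Nat.card (gen (sigma nets0) [[0], [1], [2], [3], [5], [6]]) :=
  ge_H_0.trans_eq (congrArg (fun K : Subgroup (Equiv.Perm ℕ) => Nat.card K) (gen_sigma_append (by decide +kernel)))
theorem ge_K_2 : 1 ≤ Nat.card (gen (sigma nets) []) := one_le_card_gen valid []
theorem ge_K_1 : 8 ≤ Nat.card (gen (sigma nets) [[2,4,2,1,2,1,1,2,4,2,4,1,2,4,0,2,0], [0,1,2,1,4,2,4,1,2,4,2,0,2,1,0,1,2,4,0,2,1], [0,1,2,4,1,4,0,2,0,2,0,2,4,1,0]]) :=
  valid.step_le (ws' := []) (d := 1) (dc := 4) (p := 0) (n := 8) (by decide +kernel)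
    (gen_le_of_eqs eqs [] (by decide +kernel)) ge_K_2 (by norm_num)
theorem ge_K_0 : 2160 ≤ Nat.card (gen (sigma nets) [[0], [1], [2], [4]]) :=
  valid.step_le (ws' := [[2,4,2,1,2,1,1,2,4,2,4,1,2,4,0,2,0], [0,1,2,1,4,2,4,1,2,4,2,0,2,1,0,1,2,4,0,2,1], [0,1,2,4,1,4,0,2,0,2,0,2,4,1,0]]) (d := 6) (dc := 4) (p := 1) (n := 270) (by decide +kernel)
    (gen_le_of_eqs eqs [[2,3,2,1,2,1,1,2,3,2,3,1,2,3,0,2,0], [0,1,2,1,3,2,3,1,2,3,2,0,2,1,0,1,2,3,0,2,1], [0,1,2,3,1,3,0,2,0,2,0,2,3,1,0]] (by decide +kernel)) ge_K_1 (by norm_num)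
theorem ge_K : 2160 ≤ Nat.card (gen (sigma nets0) [[0], [1], [2], [4]]) :=
  ge_K_0.trans_eq (congrArg (fun K : Subgroup (Equiv.Perm ℕ) => Nat.card K) (gen_sigma_append (by decide +kernel)))
theorem ge_T_2 : 1 ≤ Nat.card (gen (sigma nets) []) := one_le_card_gen valid []
theorem ge_T_1 : 4 ≤ Nat.card (gen (sigma nets) [[3,6,0,1,4,2,4,2,4,2,4,2,4,1,5,0,6,5], [3,6,0,4,2,4,2,4,2,4,2,4,3,1,5,0,1,4,2,4,2,4,2,4,2,4,3,0,3]]) :=
  valid.step_le (ws' := []) (d := 1) (dc := 4) (p := 0) (n := 4) (by decide +kernel)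
    (gen_le_of_eqs eqs [] (by decide +kernel)) ge_T_2 (by norm_num)
theorem ge_T_0 : 720 ≤ Nat.card (gen (sigma nets) [[3], [5], [6], [0], [4,2,4,2,4,2,4,2,4], [1]]) :=
  valid.step_le (ws' := [[3,6,0,1,4,2,4,2,4,2,4,2,4,1,5,0,6,5], [3,6,0,4,2,4,2,4,2,4,2,4,3,1,5,0,1,4,2,4,2,4,2,4,2,4,3,0,3]]) (d := 3) (dc := 4) (p := 1) (n := 180) (by decide +kernel)
    (gen_le_of_eqs eqs [[0,2,3,5,4,5,1,3,2,1], [0,2,3,4,0,5,1,3,5,4,0,3,0]] (by decide +kernel)) ge_T_1 (by norm_num)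
theorem ge_T : 720 ≤ Nat.card (gen (sigma nets0) [[3], [5], [6], [0], [4,2,4,2,4,2,4,2,4], [1]]) :=
  ge_T_0.trans_eq (congrArg (fun K : Subgroup (Equiv.Perm ℕ) => Nat.card K) (gen_sigma_append (by decide +kernel)))
theorem ge_P_1 : 1 ≤ Nat.card (gen (sigma nets) []) := one_le_card_gen valid []
theorem ge_P_0 : 25 ≤ Nat.card (gen (sigma nets) [[0,4,2,4,2,4,2,4,2,4], [2,3,5]]) :=
  valid.step_le (ws' := []) (d := 4) (dc := 4) (p := 1) (n := 25) (by decide +kernel)
    (gen_le_of_eqs eqs [] (by decide +kernel)) ge_P_1 (by norm_num)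
theorem ge_P : 25 ≤ Nat.card (gen (sigma nets0) [[0,4,2,4,2,4,2,4,2,4], [2,3,5]]) :=
  ge_P_0.trans_eq (congrArg (fun K : Subgroup (Equiv.Perm ℕ) => Nat.card K) (gen_sigma_append (by decide +kernel)))
theorem top : topOK nets0 [[0], [1], [2], [3], [4], [5], [6]] [[0], [1], [2], [3], [5], [6]] 5 315 320 9 = true := by decide +kernel
theorem max : ∃ d reps, maxOK nets0 [[0], [1], [2], [3], [5], [6]] d 315 reps = true :=
  ⟨5, [([4,2,4,2,4], 57), ([4,2,4,2,4,2,4], 314), ([4,2,4], 147), ([4,2,4,2,4,1,2,4], 253), ([4], 307)], by decide +kernel⟩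
def u0 : List ℕ := [5,3,2,1,2,4,6,2,0,4,0,1]
def steps : List ℕ := [20,21,25,4,8,9]
def pes : List (List ℕ × List ℕ) := [(wpow u0 7, []),
  (wpow (u0 ++ [0]) 7, [])]
theorem peq_0_0 : chkPlanes nets0 320 9 pes 0 9 = true := by decide +kernel
theorem peq : ∀ e ∈ pes, ev (sigma nets0) e.1 = ev (sigma nets0) e.2 :=
  (valid0.eq_of_planes (by norm_num) ((uptoPlane_zero 9 pes).step peq_0_0 rfl))
def X : List (List ℕ) := [[], [0,4,2,4,2,4,2,4,2,4,0,4,2,4,2,4,2,4,2,4,0,4,2,4,2,4,2,4,2,4,0,4,2,4,2,4,2,4,2,4,0,4,2,4,2,4,2,4,2,4], [4,2,4,2,4,2,4,2,4,1,4,2,4,2,4,2,4,2,4,1,4,2,4,2,4,2,4,2,4,1], [0,4,2,4,2,4,2,4,2,4,1,0,4,2,4,2,4,2,4,2,4,1,0,4,2,4,2,4,2,4,2,4,1,0,4,2,4,2,4,2,4,2,4,1,0,4,2,4,2,4,2,4,2,4,1], [4,2,4,2,4,2,4,2,4,2,4,2,4,2,4,2,4,2,4,2], [4,2,4,2,4,2,4,2,4,3,4,2,4,2,4,2,4,2,4,3], [4,2,4,2,4,2,4,2,4,5,4,2,4,2,4,2,4,2,4,6], [4,3,2,6,3,4,2,4,3,6,4,3,2,6,3,4,2,4,3,6,4,3,2,6,3,4,2,4,3,6], [4,3,2,6,3,4,2,4,3,6,0,4,2,4,2,4,2,4,2,4,5,3,4,2,4,3,5,2,3,4,6,3,2,6,3,2,6,3,2,4,2,4,2,4,2,4,2,4,0,4,2,4,2,4,2,4,2,4,0],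 [4,3,2,6,3,4,2,4,3,6,2,3,5,5,3,4,2,4,3,5,2,3,4,6,3,2,6,3,2,4,2,4,2,4,2,4,2,4,0], [0,4,2,4,2,4,2,4,2,4,2,3,5,4,2,4,2,4,2,4,2,4,0,6,3,2], []]
theorem Xq_0_0 : chkPlanes nets0 320 9 (relEqs X) 0 7 = true := by decide +kernel
theorem Xq_0_1 : chkPlanes nets0 320 9 (relEqs X) 7 2 = true := by decide +kernel
theorem Xq : ∀ e ∈ (relEqs X), ev (sigma nets0) e.1 = ev (sigma nets0) e.2 :=
  (valid0.eq_of_planes (by norm_num) (((uptoPlane_zero 9 (relEqs X)).step Xq_0_0 rfl).step Xq_0_1 rfl))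
theorem fx_x : hasCard 4 (jfxm nets0 315 320 9 [5]) 45 = true := by decide +kernel
theorem fx_e : hasCard 4 (jfxm nets0 315 320 9 [3]) 15 = true := by decide +kernel
theorem fx_f : hasCard 4 (jfxm nets0 315 320 9 [0,4,2,4,2,4,2,4,2,4]) 0 = true := by decide +kernel
theorem fx_h : hasCard 4 (jfxm nets0 315 320 9 [2,3,5]) 5 = true := by decide +kernel
theorem fx_y : hasCard 4 (jfxm nets0 315 320 9 [1,2,4,2]) 0 = true := by decide +kernel

end CL.JM2
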