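/- The action of L2(16) on 68 points (generated). -/
import Cfsg.Agent.SPOR.A10.JA5
set_option autoImplicit false
set_option Elab.async false
set_option maxRecDepth 100000

namespace CL.JL
open CL.CE CL.K CL.Net

noncomputable def n0_o0 : ℕ := (nat_lit 0x478ccfd810478ccfdeb0)
noncomputable def n0_o1 : ℕ := (nat_lit 0xf8e00f8e03a0003a050)
noncomputable def n0_o2 : ℕ := (nat_lit 0x4011ad139cbb2ec50142)
noncomputable def n0_o3 : ℕ := (nat_lit 0x210004221d630c604108)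
noncomputable def n0_m0 : ℕ := (nat_lit 0x800000000)
noncomputable def n0_m1 : ℕ := (nat_lit 0x284a0000a5000200040)
noncomputable def n0_m2 : ℕ := (nat_lit 0x90a50008420405000a0)
noncomputable def n0_m3 : ℕ := (nat_lit 0x1284a1084a5090200040)
noncomputable def n0_m4 : ℕ := (nat_lit 0x8000200042842520004)
noncomputable def n0 : List (ℕ × ℕ) := [(nat_lit 40, mlo (nat_lit 80) (nat_lit 40) n0_o0),
  (nat_lit 20, mlo (nat_lit 80) (nat_lit 20) n0_o1),
  (nat_lit 10, mlo (nat_lit 80) (nat_lit 10) n0_o2),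
  (nat_lit 5, mlo (nat_lit 80) (nat_lit 5) n0_o3),
  (nat_lit 1, n0_m0),
  (nat_lit 1, n0_m1),
  (nat_lit 1, n0_m2),
  (nat_lit 1, n0_m3),
  (nat_lit 1, n0_m4),
  (nat_lit 5, mhi (nat_lit 80) (nat_lit 5) n0_o3),
  (nat_lit 10, mhi (nat_lit 80) (nat_lit 10) n0_o2),
  (nat_lit 20, mhi (nat_lit 80) (nat_lit 20) n0_o1),
  (nat_lit 40, mhi (nat_lit 80) (nat_lit 40) n0_o0)]
theorem v0 : validNet 80 n0 = true := by decide +kernel
noncomputable def n1_o0 : ℕ := (nat_lit 0xd1e68cb300d1e68cb300)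
noncomputable def n1_o1 : ℕ := (nat_lit 0x3140030043ea418ea418)
noncomputable def n1_o2 : ℕ := (nat_lit 0x511871f21181b26471dc)
noncomputable def n1_o3 : ℕ := (nat_lit 0x2180a02c9e8408473ad6)
noncomputable def n1_m0 : ℕ := (nat_lit 0x20000200000000000)
noncomputable def n1_m1 : ℕ := (nat_lit 0x140408400014000140)
noncomputable def n1_m2 : ℕ := (nat_lit 0x200a1214a020081000a0)
noncomputable def n1_m3 : ℕ := (nat_lit 0x40942109484014a0294a)
noncomputable def n1_m4 : ℕ := (nat_lit 0x20020280002140128000)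
noncomputable def n1 : List (ℕ × ℕ) := [(nat_lit 40, mlo (nat_lit 80) (nat_lit 40) n1_o0),
  (nat_lit 20, mlo (nat_lit 80) (nat_lit 20) n1_o1),
  (nat_lit 10, mlo (nat_lit 80) (nat_lit 10) n1_o2),
  (nat_lit 5, mlo (nat_lit 80) (nat_lit 5) n1_o3),
  (nat_lit 1, n1_m0),
  (nat_lit 1, n1_m1),
  (nat_lit 1, n1_m2),
  (nat_lit 1, n1_m3),
  (nat_lit 1, n1_m4),
  (nat_lit 5, mhi (nat_lit 80) (nat_lit 5) n1_o3),
  (nat_lit 10, mhi (nat_lit 80) (nat_lit 10) n1_o2),
  (nat_lit 20, mhi (nat_lit 80) (nat_lit 20) n1_o1),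
  (nat_lit 40, mhi (nat_lit 80) (nat_lit 40) n1_o0)]
theorem v1 : validNet 80 n1 = true := by decide +kernel
noncomputable def n2_o0 : ℕ := (nat_lit 0x22ae24006222ae294b40)
noncomputable def n2_o1 : ℕ := (nat_lit 0x513a271bb0fd52ebc1b4)
noncomputable def n2_o2 : ℕ := (nat_lit 0x5204e1a04b3b9cf3a3f0)
noncomputable def n2_o3 : ℕ := (nat_lit 0x25a42a94e0cc314c42)
noncomputable def n2_m0 : ℕ := (nat_lit 0x40000100000)
noncomputable def n2_m1 : ℕ := (nat_lit 0x25280a4000a40108)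
noncomputable def n2_m2 : ℕ := (nat_lit 0x8421025294a5204a4)
noncomputable def n2_m3 : ℕ := (nat_lit 0x10a5284a5084a12842)
noncomputable def n2_m4 : ℕ := (nat_lit 0x10a02002420421010a4)
noncomputable def n2 : List (ℕ × ℕ) := [(nat_lit 40, mlo (nat_lit 80) (nat_lit 40) n2_o0),
  (nat_lit 20, mlo (nat_lit 80) (nat_lit 20) n2_o1),
  (nat_lit 10, mlo (nat_lit 80) (nat_lit 10) n2_o2),
  (nat_lit 5, mlo (nat_lit 80) (nat_lit 5) n2_o3),
  (nat_lit 1, n2_m0),
  (nat_lit 1, n2_m1),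
  (nat_lit 1, n2_m2),
  (nat_lit 1, n2_m3),
  (nat_lit 1, n2_m4),
  (nat_lit 5, mhi (nat_lit 80) (nat_lit 5) n2_o3),
  (nat_lit 10, mhi (nat_lit 80) (nat_lit 10) n2_o2),
  (nat_lit 20, mhi (nat_lit 80) (nat_lit 20) n2_o1),
  (nat_lit 40, mhi (nat_lit 80) (nat_lit 40) n2_o0)]
theorem v2 : validNet 80 n2 = true := by decide +kernel
noncomputable def n3_o0 : ℕ := (nat_lit 0x22ae294b4022ae240062)
noncomputable def n3_o1 : ℕ := (nat_lit 0x71b2051332bc1b4fd52e)
noncomputable def n3_o2 : ℕ := (nat_lit 0xc8226a42b38c311bc2e8)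
noncomputable def n3_o3 : ℕ := (nat_lit 0xd480084094e678323442)
noncomputable def n3_m0 : ℕ := (nat_lit 0x10000800000020)
noncomputable def n3_m1 : ℕ := (nat_lit 0x20000294a5000200842)
noncomputable def n3_m2 : ℕ := (nat_lit 0x1000214a42842421084)
noncomputable def n3_m3 : ℕ := (nat_lit 0x8004294a5084a5214a)
noncomputable def n3_m4 : ℕ := (nat_lit 0x900421004094a508020)
noncomputable def n3 : List (ℕ × ℕ) := [(nat_lit 40, mlo (nat_lit 80) (nat_lit 40) n3_o0),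
  (nat_lit 20, mlo (nat_lit 80) (nat_lit 20) n3_o1),
  (nat_lit 10, mlo (nat_lit 80) (nat_lit 10) n3_o2),
  (nat_lit 5, mlo (nat_lit 80) (nat_lit 5) n3_o3),
  (nat_lit 1, n3_m0),
  (nat_lit 1, n3_m1),
  (nat_lit 1, n3_m2),
  (nat_lit 1, n3_m3),
  (nat_lit 1, n3_m4),
  (nat_lit 5, mhi (nat_lit 80) (nat_lit 5) n3_o3),
  (nat_lit 10, mhi (nat_lit 80) (nat_lit 10) n3_o2),
  (nat_lit 20, mhi (nat_lit 80) (nat_lit 20) n3_o1),
  (nat_lit 40, mhi (nat_lit 80) (nat_lit 40) n3_o0)]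
theorem v3 : validNet 80 n3 = true := by decide +kernel
noncomputable def n4_o0 : ℕ := (nat_lit 0x8c13be35288c13be3528)
noncomputable def n4_o1 : ℕ := (nat_lit 0xa3fc0a7f981605016050)
noncomputable def n4_o2 : ℕ := (nat_lit 0xa00b7d0350aca71e6192)
noncomputable def n4_o3 : ℕ := (nat_lit 0xc6210840c607cc485583)
noncomputable def n4_m0 : ℕ := (nat_lit 0x200000040000000)
noncomputable def n4_m1 : ℕ := (nat_lit 0x948500004080052040)
noncomputable def n4_m2 : ℕ := (nat_lit 0x1084280812900021085)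
noncomputable def n4_m3 : ℕ := (nat_lit 0x214a501025200a50902)
noncomputable def n4_m4 : ℕ := (nat_lit 0x21080200a10900101020)
noncomputable def n4 : List (ℕ × ℕ) := [(nat_lit 40, mlo (nat_lit 80) (nat_lit 40) n4_o0),
  (nat_lit 20, mlo (nat_lit 80) (nat_lit 20) n4_o1),
  (nat_lit 10, mlo (nat_lit 80) (nat_lit 10) n4_o2),
  (nat_lit 5, mlo (nat_lit 80) (nat_lit 5) n4_o3),
  (nat_lit 1, n4_m0),
  (nat_lit 1, n4_m1),
  (nat_lit 1, n4_m2),
  (nat_lit 1, n4_m3),
  (nat_lit 1, n4_m4),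
  (nat_lit 5, mhi (nat_lit 80) (nat_lit 5) n4_o3),
  (nat_lit 10, mhi (nat_lit 80) (nat_lit 10) n4_o2),
  (nat_lit 20, mhi (nat_lit 80) (nat_lit 20) n4_o1),
  (nat_lit 40, mhi (nat_lit 80) (nat_lit 40) n4_o0)]
theorem v4 : validNet 80 n4 = true := by decide +kernel
noncomputable def nets0 : List (List (ℕ × ℕ)) := [n0, n1, n2, n3, n4]
theorem valid0 : Valid 80 nets0 := (((((valid_nil _).cons v4).cons v3).cons v2).cons v1).cons v0
theorem relq_0_0 : chkPlanes nets0 80 7 (relEqs Rels) 0 7 = true := by decide +kernel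
theorem relq : ∀ e ∈ (relEqs Rels), ev (sigma nets0) e.1 = ev (sigma nets0) e.2 :=
  (valid0.eq_of_planes (by norm_num) ((uptoPlane_zero 7 (relEqs Rels)).step relq_0_0 rfl))
theorem pres0 : Pres (sigma nets0) iv Rels :=
  pres_of_rel (ivl := [0,1,3,2,4]) (rel_of_eqs relq) (by decide +kernel)
noncomputable def nets1 : List (List (ℕ × ℕ)) := []
theorem valid1 : Valid 80 nets1 := valid_nil _
noncomputable def nets : List (List (ℕ × ℕ)) := nets0 ++ nets1
theorem valid : Valid 80 nets := valid0.append valid1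
def es : List (List ℕ × List ℕ) := []
theorem eqs_0_0 : chkPlanes nets 80 7 es 0 7 = true := by decide +kernel
theorem eqs : ∀ e ∈ es, ev (sigma nets) e.1 = ev (sigma nets) e.2 :=
  (valid.eq_of_planes (by norm_num) ((uptoPlane_zero 7 es).step eqs_0_0 rfl))
theorem ge_H_2 : 1 ≤ Nat.card (gen (sigma nets) []) := one_le_card_gen valid []
theorem ge_H_1 : 3 ≤ Nat.card (gen (sigma nets) [[3,1,0,2,0,3,1,0,3,0]]) :=
  valid.step_le (ws' := []) (d := 2) (dc := 2) (p := 1) (n := 3) (by decide +kernel)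
    (gen_le_of_eqs eqs [] (by decide +kernel)) ge_H_2 (by norm_num)
theorem ge_H_0 : 60 ≤ Nat.card (gen (sigma nets) [[0], [1], [2], [3]]) :=
  valid.step_le (ws' := [[3,1,0,2,0,3,1,0,3,0]]) (d := 3) (dc := 2) (p := 3) (n := 20) (by decide +kernel)
    (gen_le_of_eqs eqs [[3,1,0,2,0,3,1,0,3,0]] (by decide +kernel)) ge_H_1 (by norm_num)
theorem ge_H : 60 ≤ Nat.card (gen (sigma nets0) [[0], [1], [2], [3]]) :=
  ge_H_0.trans_eq (congrArg (fun K : Subgroup (Equiv.Perm ℕ) => Nat.card K) (gen_sigma_append (by decide +kernel)))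
theorem top : topOK nets0 [[0], [1], [2], [3], [4]] [[0], [1], [2], [3]] 4 68 80 7 = true := by decide +kernel
theorem max : ∃ d reps, maxOK nets0 [[0], [1], [2], [3]] d 68 reps = true :=
  ⟨3, [([4,1,4,1,4], 7), ([4,1,4], 5), ([4], 26), ([4,0,4], 60)], by decide +kernel⟩
def u0 : List ℕ := [3,4,1]
def steps : List ℕ := [2,7,8,11]
def pes : List (List ℕ × List ℕ) := [(wpow u0 17, []),
  (wpow (u0 ++ [2]) 17, [])]
theorem peq_0_0 : chkPlanes nets0 80 7 pes 0 7 = true := by decide +kernel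
theorem peq : ∀ e ∈ pes, ev (sigma nets0) e.1 = ev (sigma nets0) e.2 :=
  (valid0.eq_of_planes (by norm_num) ((uptoPlane_zero 7 pes).step peq_0_0 rfl))

end CL.JL
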