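/- The elementary abelian group of order 81 as a table (generated). -/
import Cfsg.Agent.SPOR.A10.Reg
set_option autoImplicit false
set_option maxRecDepth 100000

namespace CL.UE.Eef
open CL.CE CL.K

noncomputable def tT0 : ℕ := nat_lit 0x791f185e3664d806da2851552921c7389363d1132c5d828d05201a749494598d510450820c4080325dc7318811
noncomputable def tJ0 : ℕ := nat_lit 0x6add654a8554475404
noncomputable def tD0 : ℕ := nat_lit 0x840270036502520243003002210010000000
noncomputable def tT : Tr := (.leaf tT0)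
noncomputable def tJ : Tr := (.leaf tJ0)
noncomputable def tD : Tr := (.leaf tD0)

def rels : List (List ℕ) := [[0,1],
  [1,0],
  [2,3],
  [3,2],
  [0,0,0],
  [2,2,2],
  [0,2,1,3]]
def subs : List (List ℕ) := []
def iv (a : ℕ) : ℕ := [1,0,3,2,4].getD a 0
noncomputable def RR0 : List Rule := [.bwd [1] 0 0 0,
  .bwd [3,1,2] 6 1 1,
  .bwd [0,0] 4 1 0]
noncomputable def RR1 : List Rule := [.bwd [0] 1 0 0,
  .bwd [3,0,2] 6 2 0,
  .bwd [2,0,3] 6 3 1]
noncomputable def RR2 : List Rule := [.bwd [3] 2 0 0,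
  .bwd [2,2] 5 1 0]
noncomputable def RR3 : List Rule := [.bwd [2] 3 0 0,
  .bwd [1,2,0] 6 2 1,
  .bwd [3,3] 5 1 1]
noncomputable def RR : List (List Rule) := [RR0, RR1, RR2, RR3]
noncomputable def rowp (j : ℕ) : ℕ := piece tT (nat_lit 3) (nat_lit 7) (nat_lit 2560) (Nat.pred (Nat.shiftLeft 1 (nat_lit 2560))) j
noncomputable def row (u : ℕ) : ℕ := rowOf rowp (nat_lit 6) (nat_lit 63) (nat_lit 40) u
noncomputable def jrowp (j : ℕ) : ℕ := piece tJ (nat_lit 3) (nat_lit 7) (nat_lit 4096) (Nat.pred (Nat.shiftLeft 1 (nat_lit 4096))) j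
noncomputable def jrow (u : ℕ) : ℕ := rowOf jrowp (nat_lit 9) (nat_lit 511) (nat_lit 8) u
noncomputable def drowp (j : ℕ) : ℕ := piece tD (nat_lit 3) (nat_lit 7) (nat_lit 4096) (Nat.pred (Nat.shiftLeft 1 (nat_lit 4096))) j
noncomputable def drow (u : ℕ) : ℕ := rowOf drowp (nat_lit 8) (nat_lit 255) (nat_lit 16) u
noncomputable def cert : PCert := ⟨(nat_lit 4), (nat_lit 4), (nat_lit 15), (nat_lit 10), (nat_lit 1023), (nat_lit 1022), (nat_lit 9), (nat_lit 8), (nat_lit 8), (nat_lit 2), (nat_lit 3), (nat_lit 2), (nat_lit 3), (nat_lit 65535), (nat_lit 0), row, jrow, drow, RR⟩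
theorem params : cert.paramsOK = true := by decide +kernel
theorem rules : rulesOK rels subs iv cert.L cert.LL cert.RR = true := by decide +kernel
theorem blk0 : cert.alive (nat_lit 0) (nat_lit 1) (nat_lit 9) = 0 := by decide +kernel
theorem up0 : cert.Upto 0 := PCert.upto_zero _
theorem up1 : cert.Upto 9 := up0.alive params blk0 (by decide)

theorem covers {G : Type*} [Group G] {g : ℕ → G} {H : Subgroup G}
    (h : Sat g H 4 iv rels subs) : Covers g 4 H 9 :=
  PCert.covers (p := cert) params rules (by decide +kernel) up1 h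

end CL.UE.Eef

namespace CL.UE.Eefgh
open CL.CE CL.K

noncomputable def tT0 : ℕ := nat_lit 0x7c8fc62bc768711220c4286a6d01db46874ee5dc3b7758ab4a443c762cc997b306444ad93a2934aa9951aa453e2f60d1a853a8790da1c4280d9d529942e660ca99635cc854608d022448879102810810300b21222843888166e4cc710510800c010010
noncomputable def tJ0 : ℕ := nat_lit 0x6a55ddff65554a55859954554799549904ee
noncomputable def tD0 : ℕ := nat_lit 0x840670076506520643043006210410040000
noncomputable def tT : Tr := (.leaf tT0)
noncomputable def tJ : Tr := (.leaf tJ0)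
noncomputable def tD : Tr := (.leaf tD0)

def rels : List (List ℕ) := [[0,1],
  [1,0],
  [2,3],
  [3,2],
  [4,5],
  [5,4],
  [6,7],
  [7,6],
  [0,0,0],
  [2,2,2],
  [4,4,4],
  [6,6,6],
  [0,2,1,3],
  [0,4,1,5],
  [0,6,1,7],
  [2,4,3,5],
  [2,6,3,7],
  [4,6,5,7]]
def subs : List (List ℕ) := [[0],
  [1],
  [2],
  [3]]
def iv (a : ℕ) : ℕ := [1,0,3,2,5,4,7,6,8].getD a 0
noncomputable def RR0 : List Rule := [.bwd [1] 0 0 0,
  .sub [] [] 0 0,
  .bwd [6,1,7] 14 0 0]
noncomputable def RR1 : List Rule := [.bwd [7,0,6] 14 2 0,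
  .bwd [5,0,4] 13 2 0,
  .bwd [0] 1 0 0]
noncomputable def RR2 : List Rule := [.bwd [3] 2 0 0,
  .sub [] [] 2 0,
  .bwd [6,3,7] 16 0 0]
noncomputable def RR3 : List Rule := [.bwd [7,2,6] 16 2 0,
  .bwd [5,2,4] 15 2 0,
  .bwd [2] 3 0 0]
noncomputable def RR4 : List Rule := [.bwd [5] 4 0 0,
  .bwd [7,5,6] 17 1 1,
  .bwd [4,4] 10 1 0]
noncomputable def RR5 : List Rule := [.bwd [4] 5 0 0,
  .bwd [7,4,6] 17 2 0,
  .bwd [6,4,7] 17 3 1]
noncomputable def RR6 : List Rule := [.bwd [7] 6 0 0,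
  .bwd [6,6] 11 1 0]
noncomputable def RR7 : List Rule := [.bwd [6] 7 0 0,
  .bwd [5,6,4] 17 2 1,
  .bwd [7,7] 11 1 1]
noncomputable def RR : List (List Rule) := [RR0, RR1, RR2, RR3, RR4, RR5, RR6, RR7]
noncomputable def rowp (j : ℕ) : ℕ := piece tT (nat_lit 3) (nat_lit 7) (nat_lit 2816) (Nat.pred (Nat.shiftLeft 1 (nat_lit 2816))) j
noncomputable def row (u : ℕ) : ℕ := rowOf rowp (nat_lit 5) (nat_lit 31) (nat_lit 88) u
noncomputable def jrowp (j : ℕ) : ℕ := piece tJ (nat_lit 3) (nat_lit 7) (nat_lit 4096) (Nat.pred (Nat.shiftLeft 1 (nat_lit 4096))) j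
noncomputable def jrow (u : ℕ) : ℕ := rowOf jrowp (nat_lit 8) (nat_lit 255) (nat_lit 16) u
noncomputable def drowp (j : ℕ) : ℕ := piece tD (nat_lit 3) (nat_lit 7) (nat_lit 4096) (Nat.pred (Nat.shiftLeft 1 (nat_lit 4096))) j
noncomputable def drow (u : ℕ) : ℕ := rowOf drowp (nat_lit 8) (nat_lit 255) (nat_lit 16) u
noncomputable def cert : PCert := ⟨(nat_lit 8), (nat_lit 8), (nat_lit 15), (nat_lit 11), (nat_lit 2047), (nat_lit 2046), (nat_lit 9), (nat_lit 8), (nat_lit 8), (nat_lit 2), (nat_lit 3), (nat_lit 2), (nat_lit 3), (nat_lit 65535), (nat_lit 0), row, jrow, drow, RR⟩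
theorem params : cert.paramsOK = true := by decide +kernel
theorem rules : rulesOK rels subs iv cert.L cert.LL cert.RR = true := by decide +kernel
theorem blk0 : cert.alive (nat_lit 0) (nat_lit 1) (nat_lit 9) = 0 := by decide +kernel
theorem up0 : cert.Upto 0 := PCert.upto_zero _
theorem up1 : cert.Upto 9 := up0.alive params blk0 (by decide)

theorem covers {G : Type*} [Group G] {g : ℕ → G} {H : Subgroup G}
    (h : Sat g H 8 iv rels subs) : Covers g 8 H 9 :=
  PCert.covers (p := cert) params rules (by decide +kernel) up1 h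

end CL.UE.Eefgh

namespace CL.UE
open CL.CE CL.K CL.Reg

def iv (a : ℕ) : ℕ := [1,0,3,2,5,4,7,6].getD a a
def Rels : List (List ℕ) := [[0,1], [1,0], [2,3], [3,2], [4,5], [5,4], [6,7], [7,6], [0,0,0], [2,2,2], [4,4,4], [6,6,6], [0,2,1,3], [0,4,1,5], [0,6,1,7], [2,4,3,5], [2,6,3,7], [4,6,5,7]]

theorem idx_ef {G : Type*} [Group G] {g : ℕ → G} (h : Pres g iv Rels) :
    IdxLe (gen g []) (gen g [[0], [1], [2], [3]]) 9 :=
  h.idxLe _ _ CL.UE.Eef.covers (by decide +kernel)

theorem le_ef {G : Type*} [Group G] {g : ℕ → G} (h : Pres g iv Rels) :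
    CardLe (gen g [[0], [1], [2], [3]]) 9 :=
  (idx_ef h).cardLe (cardLe_nil g) (by norm_num)

theorem idx_efgh {G : Type*} [Group G] {g : ℕ → G} (h : Pres g iv Rels) :
    IdxLe (gen g [[0], [1], [2], [3]]) (gen g [[0], [1], [2], [3], [4], [5], [6], [7]]) 9 :=
  h.idxLe _ _ CL.UE.Eefgh.covers (by decide +kernel)

theorem le_efgh {G : Type*} [Group G] {g : ℕ → G} (h : Pres g iv Rels) :
    CardLe (gen g [[0], [1], [2], [3], [4], [5], [6], [7]]) 81 :=
  (idx_efgh h).cardLe (le_ef h) (by norm_num)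

noncomputable def E_T : ℕ := nat_lit 0x9eca73498e244065426b396de3bf9ac5a5094da33e63399cf92d62bd96ba530714223c5d324af6f3e1bb92b584c6d3a13a5b297cb6b360b98e9a32888b20504d222a786adfcf8a9544884a9f4e4b193c782a5ecd868a1245921e4c45120a3571ddcb82852445519d4a43091c35315cc97e69f1c78828483501e9b767e7c77a64e40747a74632f8dbf72766c57659d1841026442cf1c973efe5c37254c3c3cfa5422ae8bbb3af64c16e49b14a13162024e1a939f2d59f6a44a389d2951e22d89b79b2549d664284e605141c20d27cd5e4d39ba13d8905c4931a9d348325a452995e3e64a28d12181ec25c926cd197992d68f24c911695247ae22c5095563150e911103818b148d8f0cfb7522c72c8d08f3616a86ab8b04eb54e2a4464838e3414a23c54634db3911d28a4430d328d14526422ccb146262421ca0c3012921c11a9cbaf890d0891898b2e85044a21694aad3e18f0880f1c2c0c80e877eedbab3a144207ce9b2a0a7839f7ae5aa9361203e3021a280871fbd2e1d9a780fcc842c199267cf421a2a158a52e0de3a10718240661db90e6d7a378eca830c6972274e41960a656a12609c3668c07080451bb566bc68770dc88264b86066cd411262b458568cd9311e0850460bd72d04404831a0562a509041402395a94e8c39358ac5814c8831254a408c4a84291509d3251204210488d121022818f0e0101e3860a0e0020f9d365c98d407c280345890c3c74006325488b386cd19060080a305cb150010789284c911203c0801c3460b1424002101c305080c101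
noncomputable def E_W : ℕ := nat_lit 0x864276428542754286327632853275328641764185417541863176318531753108640764085407540863076308530753086207620852075208420742064205420832073206320532086107610851075108410741064105410831073106310531008600760085007500840074006400540083007300630053008200720062005200420032008100710061005100410031000800070006000500040003000200010000
noncomputable def E_I : ℕ := nat_lit 0x41850e2458d1e449952e64d9d3e83974ede3d7cfe02954ad623488512750953356cddc2f60b573368c591d3c7d0173054b1b3864d0d1c2c609144ca11243c80710143030804100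
noncomputable def E_dat : Dat := ⟨nat_lit 81, nat_lit 8, nat_lit 4, [1,0,3,2,5,4,7,6], tb (nat_lit 8) (nat_lit 7) (nat_lit 127) E_T,
  fld (nat_lit 16) (nat_lit 65535) E_W, fld (nat_lit 7) (nat_lit 127) E_I⟩
theorem E_chk : E_dat.Chk Rels :=
  Dat.chk_of (a := 9) (b := 9) (by decide +kernel) rfl (by decide +kernel)
theorem E_good : E_dat.Good Rels := E_chk.good fun _ hg => le_efgh hg
/-- the group of the table -/
abbrev E : Type := RG E_dat E_good
theorem E_hom {G : Type*} [Group G] {g : ℕ → G} (hg : Pres g iv Rels) :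
    ∃ φ : E →* G, φ.range = gen g [[0], [1], [2], [3], [4], [5], [6], [7]] ∧
      ∀ w : List ℕ, ltAll 8 w = true → φ (RG.wd E_good w) = ev g w :=
  RG.exists_hom hg fun _ hg' => le_efgh hg'

end CL.UE

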