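import Cfsg.Agent.SPOR.A10.HePin
import Cfsg.Agent.SPOR.A10.HeCls
import Cfsg.Agent.SPOR.Cent7

/-!
The centraliser of an element of order 7 in a group of Monster type.
-/

set_option autoImplicit false
set_option maxRecDepth 100000
set_option linter.dupNamespace false

namespace CL.A10.Hd

open CL.K CL.CE CL.LX CL.MSS Subgroup

variable {G : Type*} [Group G] [Finite G]

/-- a normal elementary abelian subgroup of the centraliser with a larger normaliser -/
def Pure (z : G) : Prop := ∃ (U : Subgroup G) (n u : G), (∀ x ∈ U, x * x = 1 ∧ x * z = z * x) ∧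
  (∀ c, c * z = z * c → ∀ x ∈ U, c * x * c⁻¹ ∈ U) ∧ n * z * n⁻¹ ∈ U ∧ n * z * n⁻¹ ≠ z ∧ u ∈ U ∧
    n⁻¹ * u * n ∈ U ∧ IsConj z u ∧ u ≠ z ∧ u ≠ n * z * n⁻¹ ∧ u ≠ n * z * n⁻¹ * z

theorem St.N1.pure {S : St G} {n : G} (h : S.N1 false n (LT false false)) : Pure (S.el zc) := by
  have hn : ∀ a < 7, ∀ x ∈ S.U1, S.gg n 1 a * x * (S.gg n 1 a)⁻¹ ∈ S.U1 := by
    rintro a ha _ ⟨x, hx, rfl⟩
    have := (St.U_spec hx).1.1.1 a ha
    have k := (St.trk_to h.act St.act_one [a] (St.V_UL hx) fun e =>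
      not_V_zero (e ▸ St.V_UL this)).2.2
    rw [ev_singleton] at k
    exact ⟨_, this, k.symm⟩
  have e1 : n * S.el zc * n⁻¹ = S.el zu := by
    have := (St.trk_to' h.act St.act_one [6] (x := zc) (y := zu) (by decide +kernel)).2.2
    rwa [ev_singleton] at this
  have vu : V zu := V_of (by decide +kernel)
  have v2 : V (et 22) := V_of (by decide +kernel)
  refine ⟨S.U1, n, S.el (et 22), fun x hx => ⟨St.lsub_sq hx, St.lsub_comm hx ⟨zc, by decide, rfl⟩⟩,
    fun c hc x hx => ?_, e1 ▸ ⟨zu, by decide, rfl⟩, ?_, ⟨_, by decide, rfl⟩, ?_, ?_, ?_, ?_, ?_⟩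
  · refine (mem_normalizer_iff.1 (S.H_le (K := normalizer (S.U1 : Set G)) (fun a ha =>
      mem_normalizer_fintype fun x hx => ?_) (S.mem_H.2 hc)) x).1 hx
    have := hn a (by omega) x hx
    rwa [St.gg_lt ha] at this
  · rw [e1]; exact fun e => absurd (S.el_inj vu St.V_z e) (by decide)
  · have := hn 6 (by norm_num) _ ⟨et 22, by decide, rfl⟩
    rwa [show S.gg n 1 6 = n from rfl, inv_eq_of_mul_eq_one_right h.sq,
      ← congrArg (· * _ * n) (inv_eq_of_mul_eq_one_right h.sq)] at this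
  · exact (St.trk_to' h.act St.act_one [1, 4, 1, 0, 6] (x := zc) (y := et 22)
      (by decide +kernel)).isConj
  · exact fun e => absurd (S.el_inj v2 St.V_z e) (by decide)
  · rw [e1]; exact fun e => absurd (S.el_inj v2 vu e) (by decide)
  · rw [e1, ← S.el_mul vu St.V_z]
    exact fun e => absurd (S.el_inj v2 (vu.mul St.V_z) e) (by decide +kernel)

theorem St.Four.pure {S : St G} (h : S.Four) : Nonempty (G ≃* Cfsg.Spor.He) ∨ Pure (S.el zc) := by
  rcases h with ⟨n, h, -⟩ | ⟨n1, n4, t1, t4, h, hm, top⟩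
  · exact Or.inr h.pure
  · cases t1
    · exact Or.inr h.h1.pure
    · cases t4
      · exact absurd hm (by decide)
      · refine Or.inl (Ty.iso_He ⟨_, h.pres, top, ?_⟩)
        rw [St.gg_lt (by norm_num)]
        exact S.el_ne_one (V_lc (by norm_num)) (by decide +kernel)

theorem St.he_or_pure (S : St G) {g : G}
    (h : g * S.el zc * g⁻¹ * S.el zc = S.el zc * (g * S.el zc * g⁻¹))
    (hne : g * S.el zc * g⁻¹ ≠ S.el zc) : Nonempty (G ≃* Cfsg.Spor.He) ∨ Pure (S.el zc) :=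
  (St.four h hne).elim St.Four.pure fun k => S.tw_z ▸ k.pure

theorem Set7.le_Q {Q : Subgroup G} {z : G} {π : centralizer ({z} : Set G) →* SL3}
    (h : Set7 Q z π) {U : Subgroup G} (h1 : ∀ x ∈ U, x * x = 1 ∧ x * z = z * x)
    (h2 : ∀ c, c * z = z * c → ∀ x ∈ U, c * x * c⁻¹ ∈ U) : U ≤ Q := fun x hx => by
  have : (U.subgroupOf (centralizer {z})).Normal :=
    ⟨fun a ha c => h2 c (mem_centralizer_singleton_iff.1 c.2) a ha⟩
  rcases (this.map π h.surj).eq_bot_or_eq_top with e | e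
  · exact (h.ker ⟨x, mem_centralizer_singleton_iff.2 (h1 x hx).2⟩).1
      (mem_bot.1 (e ▸ mem_map_of_mem π hx))
  · have := SL3_four (K := (U.subgroupOf (centralizer {z})).map π) (by
      rintro _ ⟨a, ha, rfl⟩
      rw [← map_mul, show a * a = 1 from Subtype.ext (h1 a ha).1, map_one])
    rw [e, card_top, card_SL3] at this
    omega

end CL.A10.Hd

namespace CL.MT

open Cfsg CL.K CL.LX CL.MSS CL.Leech CL.Pack

variable {G : Type*} [Group G] [Finite G] {z : G} {Q : Subgroup G} {R : leechLattice → G → Prop}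
  {A : Co0 → G → Prop}

theorem chk7 : allLt (fun i => force (rowOf C7.T i) fun X => !Nat.beq (nrmN X) 64 ||
    Nat.beq (kap X) (kap (c8 (Golay.E.enc none))) ||
    force (ap C7.ce X) fun Y => !Nat.beq (kap (ap C7.cs Y)) (kap Y)) 64 = true := by decide +kernel

theorem MT.not_pure (h : MT z Q R A) {b g x : G} (hb : orderOf b = 7) (bz : b * z = z * b)
    (hs : g * z * g⁻¹ ∈ Q) (hne : g * z * g⁻¹ ≠ z) (bs : b * (g * z * g⁻¹) = g * z * g⁻¹ * b)
    (hx : x ∈ Q) (hx' : x ∈ g •ᶜ Q) (bx : b * x = x * b) (hc : IsConj z x) :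
    x = z ∨ x = g * z * g⁻¹ ∨ x = g * z * g⁻¹ * z := by
  obtain ⟨v, hv, e1⟩ := h.norm_of_conj hs (isConj_iff.2 ⟨g, rfl⟩) hne
  obtain ⟨k, hk⟩ := exists_smul_cong (sqNorm_e8 none) e1
  have hs' := h.R_of_cong hv hk.symm
  replace h := h.twist k
  obtain ⟨ρ, -, h2, h3⟩ := h.exists_rho hs'
  have : Finite M24 := Nat.finite_of_card_ne_zero (by rw [Golay.card_M24]; norm_num)
  have hbC : b ∈ Subgroup.centralizer ({z, g * z * g⁻¹} : Set G) := by
    rintro _ (rfl | rfl)
    exacts [bz.symm, bs.symm]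
  obtain ⟨τ, j, hj⟩ := exists_conj_pow (p := 7) (by norm_num)
    (by rw [Golay.card_M24]; decide +kernel) C7.orderOf_s0
    (orderOf_map_of_ker ρ h2 (by norm_num) (by decide) (x := ⟨b, hbC⟩)
      (by rw [← Subgroup.orderOf_coe, hb]))
  rw [← map_zpow] at hj
  obtain ⟨k', hk', hk''⟩ := h3 (⟨b, hbC⟩ ^ j)
  have hbj : (b ^ j) ^ 7 = 1 := by
    rw [← zpow_natCast, ← zpow_mul, mul_comm, zpow_mul, zpow_natCast, ← hb, pow_orderOf_eq_one,
      one_zpow]
  have ho : Odd 7 := by decide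
  obtain ⟨R', A', h', e1, e2⟩ := h.normalize hs' ho hbj hk' hk'' C7.s0_pow hj
  have cb : ∀ {y : G}, b * y = y * b → b ^ j * y = y * b ^ j := fun e =>
    ((show Commute b _ from e).zpow_left j).eq
  by_cases xz : x = z
  · exact Or.inl xz
  obtain ⟨w, hw, nw⟩ := h'.norm_of_conj hx hc xz
  obtain ⟨i, hi, ci⟩ := C7.tab.1.cover w ((h'.comm_iff_fix ho hbj e2 hw).1 (cb bx))
  have hL := C7.tab.2 i hi
  have sh := C7.tab.1.short i hi
  have ni := ci.norm_eq nw.le sh
  have hw' := h'.R_of_cong hw ci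
  have := allLt_iff.1 chk7 i hi
  rw [nw, sqNorm_lvv hL] at ni
  simp only [force_eq, Bool.or_eq_true, Bool.not_eq_true', Nat.beq_eq] at this
  rcases this with (k | k) | k
  · exact absurd (Nat.ne_of_beq_eq_false k) (by omega)
  · rw [← enc_e8, ← enc_lvv hL, ← cong_iff_kap sh (sqNorm_e8 none).le] at k
    exact Or.inr ((h'.R_cong e1 hw').1 k.symm)
  · obtain ⟨c, hc, hA⟩ : aut C7.ce ∈ h'.lifts (g •ᶜ Q) := h'.lifts_e8 e1 ▸ C7.re.2
    have := (h'.comm_iff_fix ho hbj e2 (h'.R_conj hA hw')).1 (cb (by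
      rcases (h'.lx.conj g).conj_cases hx' hc with e | e <;> rw [e]
      · exact bx
      · rw [← mul_assoc, bx, mul_assoc, bs, ← mul_assoc]))
    rw [cong_iff_kap (by simpa only [sqNorm_smul] using sh) (by simpa only [sqNorm_smul] using sh),
      ← C7.rs _ (by rw [sqNorm_smul]; omega), ← C7.re.1 _ (by omega), enc_lvv hL] at this
    exact absurd this (Nat.ne_of_beq_eq_false k)

end CL.MT
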