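/- The subgroup `3^5 : M11` of the groups of type Suz. -/
import Cfsg.Agent.SPOR.A10.SSyl
import Cfsg.Agent.SPOR.Ord11c

set_option autoImplicit false
set_option maxRecDepth 100000
set_option exponentiation.threshold 2000

namespace CL.SM

open CL.CE CL.K CL.Net CL.A10 CL.LX CL.SQ CL.Reg Cfsg Subgroup

variable {G : Type*} [Group G] {g : ℕ → G} {φ : G →* Equiv.Perm ℕ}

theorem SY.no22 [Finite G] (h : SY g) (h' : MD φ g) (y : G) : ¬ 22 ∣ orderOf y := fun H => by
  have : Fact (Nat.Prime 11) := ⟨by norm_num⟩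
  have a := h'.model.dvd_ncard_fx (orderOf_pow_orderOf_div (orderOf_pos y).ne'
    (Dvd.dvd.trans (by norm_num : 11 ∣ 22) H)) (by rw [h'.cardH]; norm_num)
    (Commute.pow_pow_self y _ (orderOf y / 2))
  rcases h.invol' le_top trivial (card_top.trans h'.card) trivial (orderOf_pow_orderOf_div
    (orderOf_pos y).ne' (Dvd.dvd.trans (by norm_num : 2 ∣ 22) H)) with ⟨k, -, e⟩ | ⟨k, -, e⟩
  · rw [← e, h'.model.ncard_fx_conj, ← ev_singleton g 0, ← h'.fix,
      ncard_bits (d := 7) (n := 54) (by decide +kernel)] at a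
    omega
  · rw [← e, h'.model.ncard_fx_conj, u1, ps_wd _ (by decide), mul_assoc, ← ev_cons, ← ev_cons,
      ← h'.fix, ncard_bits (d := 7) (n := 42) (by decide +kernel)] at a
    omega

theorem MD.norm (h : MD φ g) {ws : List (List ℕ)} {k : List ℕ} (vs : List (List ℕ))
    (H : (chkPlanes nets 1792 11 ((ws.zip vs).map fun c => (k ++ c.1, substW ws c.2 ++ k)) 0 11 &&
      Nat.ble ws.length vs.length) = true) : ev g k ∈ normalizer (gen g ws : Set G) := by
  have := h.model.finite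
  rw [Bool.and_eq_true, Nat.ble_eq] at H
  refine mem_norm_gen fun w hw => ?_
  obtain ⟨c, hc, rfl⟩ := List.mem_map.1 ((List.map_fst_zip H.2).symm ▸ hw)
  have := h.eqs H.1 _ (List.mem_map_of_mem hc)
  rw [ev_append, ev_append, ev_substW] at this
  rw [this, mul_inv_cancel_right]
  exact ev_subst_mem_gen _ _ _

/-- the generators of the elementary abelian group of order `3^5` -/
def wA : List (List ℕ) := [[11], [14], [7, 2, 21, 12, 21, 3], [1, 21, 20, 14, 19, 21, 1], [15]]

noncomputable def O3 : ℕ := bfs nets wA 2 (2 ^ 0)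

noncomputable def ch3 : List Lev :=
  [⟨[[4]], 0, 5, 1782, 2 ^ 1782 - 1, 1782, []⟩, ⟨[[3]], 1781, 4, 416, O3, 20, []⟩,
   ⟨[[21]], 414, 4, 100, O3, 1, []⟩, ⟨[[2, 21, 20]], 1, 5, 63, fixm nets 1782 1792 11 [15], 9, []⟩,
   ⟨[[6, 22, 6, 2]], 6, 6, 32, O3, 2, [([0, 1, 0, 1, 1, 0], 11, 11), ([0, 1, 1, 0, 1, 0], 12, 11)]⟩,
   ⟨[[15]], 24, 2, 3, 2 ^ 1782 - 1, 3, []⟩]

noncomputable def cl3 : List Lev :=
  [⟨[[10, 22, 10, 22, 10]], 0, 5, 1782, 1, 1, []⟩, ⟨[[1, 21, 20], [14, 8, 4]], 73, 5, 540, 2 ^ 73, 1, []⟩,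
   ⟨[[7]], 2, 1, 2, 4, 1, []⟩]

theorem ch3_ok : chainOK nets 7 ch3 = true := by decide +kernel

theorem cl3_ok : chainOK nets 7 cl3 = true := by decide +kernel

theorem MD.e3 (h : MD φ g) : ∀ w ∈ wA, ev g w ^ 3 = 1 ∧ ∀ v ∈ wA, Commute (ev g w) (ev g v) :=
  fun w hw => by
    have := fun e he => h.eqs (es := wA.flatMap fun w => (wpow w 3, []) ::
      wA.map fun v => (w ++ v, v ++ w)) (by decide +kernel) e (List.mem_flatMap.2 ⟨w, hw, he⟩)
    exact ⟨ev_wpow g w 3 ▸ this _ List.mem_cons_self, fun v hv => by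
      simpa only [ev_append, Commute, SemiconjBy] using this _ (List.mem_cons_of_mem _ (List.mem_map_of_mem hv))⟩

theorem MD.comm3 (h : MD φ g) : gen g wA ≤ centralizer (gen g wA : Set G) :=
  gen_le_iff.2 fun w hw _ hb => (mem_centralizer_singleton_iff.1 ((gen_le_iff (K := centralizer {_})).2
    (fun v hv => mem_centralizer_singleton_iff.2 ((h.e3 v hv).2 w hw)) hb))

theorem MD.three (h : MD φ g) (h22 : ∀ y : G, ¬ 22 ∣ orderOf y) :
    IsElementaryAbelian 3 (gen g wA) ∧ Nat.card (gen g wA) = 3 ^ 5 ∧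
    centralizer (gen g wA : Set G) = gen g wA ∧
    ∃ _ : ((gen g wA).subgroupOf (normalizer (gen g wA : Set G))).Normal,
      Spor.IsoM11 (normalizer (gen g wA : Set G) ⧸ (gen g wA).subgroupOf (normalizer (gen g wA : Set G))) := by
  have := h.model.finite
  have c0 := (cardLe_of_comm (by norm_num) h.e3).2
  have x3 := h.le_card (ws := [[15]]) (d := 2) (p := 24) (n := 3) (by decide +kernel)
  have xA : gen (sigma nets) [[15]] ≤ gen (sigma nets) wA :=
    gen_le_iff.2 fun w hw => ev_mem_gen (by revert w; decide)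
  rw [h.lift.card_gen h.model.inj] at c0 x3
  have s0 : stepOK nets wA [[15]] 2 7 0 81 = true := by decide +kernel
  have cA := (h.lift.card_gen h.model.inj wA).trans (c0.antisymm (valid.step_le s0 xA x3 le_rfl))
  have o : ∀ k ∈ normalizer (gen g wA : Set G), φ k 0 = 0 → ∀ q ∈ bits O3, φ k q ∈ bits O3 :=
    fun k => h.lift.inv_orbit valid (d := 2) (by decide +kernel)
  have c1 : Nat.card (normalizer (gen g wA : Set G)) ≤ 1924560 :=
    h.lift.chain_le h.model.inj valid ch3_ok (h.card.trans (by decide +kernel))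
      ⟨fun k _ => h.model.inv_all k, fun k hk => o k hk.1 hk.2, fun k hk => o k hk.1.1 hk.1.2,
        fun k hk => h.fix [15] ▸ h.model.inv_fx fun q hq => by
          have a : φ k 0 = 0 := hk.1.1.2
          have b : φ (ev g [15]) 0 = 0 := h.lift.ev _ ▸ valid.apply_eq (by decide +kernel)
          have c := (valid.step_eq s0 xA x3 c0).1.le ⟨(h.lift.map_gen _).le
            ⟨_, (mem_normalizer_iff''.1 hk.1.1.1 _).1 (ev_mem_gen (w := [15]) (by decide)), rfl⟩,
            show φ _ 0 = 0 by simp [a, b, Equiv.symm_apply_eq]⟩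
          rw [← h.lift.map_gen, mem_map_iff_mem h.model.inj, gen_one] at c
          exact (fx_pow c hq).2,
        fun k hk => o k hk.1.1.1.1 hk.1.1.1.2, fun k _ => h.model.inv_all k, trivial⟩
  have n7 := h.norm (ws := wA) (k := [7]) [[0, 0], [1], [2, 2, 4, 4], [2, 2, 3, 4], [4]]
    (by decide +kernel)
  have c2 : 1924560 ≤ Nat.card (normalizer (gen g wA : Set G)) :=
    (valid.chain_ge cl3_ok).trans ((h.lift.card_gen h.model.inj _).ge.trans (card_le_of_le
      (gen_le_iff.2 (List.forall_mem_cons.2 ⟨h.norm [[0, 0, 1, 1, 4], [0, 0, 1, 1, 4, 4],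
        [0, 2, 2, 3, 4], [3], [0, 0, 1]] (by decide +kernel), List.forall_mem_cons.2 ⟨h.norm
        [[0, 1, 3, 3], [3], [0, 0, 1, 2, 3, 4, 4], [0, 0, 1, 3, 3, 4], [4]] (by decide +kernel),
        List.forall_mem_cons.2 ⟨h.norm [[0], [1, 1], [0, 0, 1, 1, 2, 2, 3, 3, 4], [1, 1, 3], [4]]
          (by decide +kernel), List.forall_mem_singleton.2 n7⟩⟩⟩))))
  have nc : ev g [7] ∉ centralizer (gen g wA : Set G) := fun e => by
    have a := valid.apply_eq (w := [11] ++ [7]) (p := 0) (q := 91) (by decide +kernel)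
    rw [← h.lift.ev, ev_append, e _ (ev_mem_gen (by decide)), ← ev_append, h.lift.ev,
      valid.apply_eq (q := 54) (by decide +kernel)] at a
    omega
  have cm := h.comm3
  have p3 : gen g wA ≤ ({ carrier := {a | a ∈ gen g wA ∧ a ^ 3 = 1}
                          mul_mem' := fun a b => ⟨mul_mem a.1 b.1, by
                            rw [Commute.mul_pow (cm b.1 _ a.1), a.2, b.2, mul_one]⟩
                          one_mem' := ⟨one_mem _, one_pow _⟩
                          inv_mem' := fun a => ⟨inv_mem a.1, by rw [inv_pow, a.2, inv_one]⟩ } :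
      Subgroup G) := gen_le_iff.2 fun w hw => ⟨ev_mem_gen hw, (h.e3 w hw).1⟩
  generalize gen g wA = A at *
  have c3 := card_eq_card_quotient_mul_card_subgroup (A.subgroupOf (normalizer (A : Set G)))
  rw [Nat.card_congr (subgroupOfEquivOfLe le_normalizer).toEquiv, cA] at c3
  have c4 : Nat.card (normalizer (A : Set G) ⧸ A.subgroupOf (normalizer (A : Set G))) = 7920 := by
    simp only [wA, List.length] at c3; omega
  have := Ord.simple_of_not_22 c4 fun x e => by
    obtain ⟨y, rfl⟩ := QuotientGroup.mk'_surjective _ x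
    exact h22 y (e.symm.dvd.trans ((orderOf_map_dvd _ y).trans (orderOf_coe y).symm.dvd))
  refine ⟨⟨⟨⟨fun a b => Subtype.ext (cm b.2 _ a.2)⟩⟩, fun a ha => (p3 ha).2⟩, cA,
    le_antisymm (fun c hc => ?_) cm, inferInstance, Ord.iso_M11 c4⟩
  rcases (Normal.map (H := (centralizer (A : Set G)).subgroupOf (normalizer (A : Set G)))
    inferInstance (QuotientGroup.mk' (A.subgroupOf _)) (QuotientGroup.mk'_surjective _)).eq_bot_or_eq_top
    with e | e
  · exact (QuotientGroup.ker_mk' (A.subgroupOf _)).le ((Subgroup.map_eq_bot_iff _).1 e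
      (x := ⟨c, centralizer_le_normalizer _ hc⟩) hc)
  · obtain ⟨y, hy, e⟩ := e.ge (mem_top (QuotientGroup.mk' _ ⟨_, n7⟩))
    exact absurd (by simpa [mem_subgroupOf] using mul_mem hy (cm (QuotientGroup.eq.1 e))) nc

end CL.SM
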