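/- The Sylow 5-subgroups of the groups of type Suz. -/
import Cfsg.Agent.SPOR.A10.SSyl

set_option autoImplicit false
set_option maxRecDepth 100000
set_option exponentiation.threshold 2000

namespace CL.SM

open CL.CE CL.K CL.Net CL.A10 CL.LX Cfsg Subgroup

variable {G : Type*} [Group G] {g : ℕ → G} {φ : G →* Equiv.Perm ℕ}

theorem five_aux {a b s t : G} (a5 : a ^ 5 = 1) (b5 : b ^ 5 = 1) (ab : Commute a b)
    (sa : s * a = a * s) (sb : s * b = b ^ 4 * s) (ta : t * a = a ^ 2 * b ^ 4 * t)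
    (tb : t * b = a ^ 3 * b ^ 3 * t) (i j : ℕ) :
    ∃ k, k * (a ^ i * b ^ j) * k⁻¹ ∈ zpowers a ∨ k * (a ^ i * b ^ j) * k⁻¹ ∈ zpowers b := by
  have q0 : ∀ i j, i % 5 = 0 ∨ j % 5 = 0 → a ^ i * b ^ j ∈ zpowers a ∨ a ^ i * b ^ j ∈ zpowers b := by
    rintro i j (e | e)
    · rw [pow_eq_pow_mod i a5, e, pow_zero, one_mul]; exact Or.inr (pow_mem (mem_zpowers _) _)
    · rw [pow_eq_pow_mod j b5, e, pow_zero, mul_one]; exact Or.inl (pow_mem (mem_zpowers _) _)
  have q1 : s * (a ^ i * b ^ j) * s⁻¹ = a ^ i * b ^ (4 * j) := by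
    rw [← conj_mul, ← conj_pow, ← conj_pow, sa, sb, mul_inv_cancel_right, mul_inv_cancel_right,
      pow_mul]
  have q2 : ∀ i j, t * (a ^ i * b ^ j) * t⁻¹ = a ^ (2 * i + 3 * j) * b ^ (4 * i + 3 * j) := fun i j => by
    rw [← conj_mul, ← conj_pow, ← conj_pow, ta, tb, mul_inv_cancel_right, mul_inv_cancel_right,
      (ab.pow_pow _ _).mul_pow, (ab.pow_pow _ _).mul_pow, ← pow_mul, ← pow_mul, ← pow_mul, ← pow_mul,
      (ab.pow_pow _ _).symm.mul_mul_mul_comm, pow_add, pow_add]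
  by_cases h1 : i % 5 = 0 ∨ j % 5 = 0
  · exact ⟨1, by simpa using q0 i j h1⟩
  by_cases h2 : (2 * i + 3 * j) % 5 = 0 ∨ (4 * i + 3 * j) % 5 = 0
  · exact ⟨t, q2 i j ▸ q0 _ _ h2⟩
  · refine ⟨t * s, ?_⟩
    rw [show ∀ u, t * s * u * (t * s)⁻¹ = t * (s * u * s⁻¹) * t⁻¹ from fun u => by group, q1, q2]
    have a : ∀ i, i % 5 = 0 ∨ i % 5 = 1 ∨ i % 5 = 2 ∨ i % 5 = 3 ∨ i % 5 = 4 := fun i => by omega
    refine q0 _ _ ?_
    rcases a i with e | e | e | e | e <;> rcases a j with e | e | e | e | e <;> omega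

theorem prod_aux {c s t : G} (c4 : c ^ 4 = 1) (s2 : s * s = 1) (t2 : t * t = 1)
    (st : s * t * s = t * s * t) (cs : c * s = s * c) (ct : c * t = t * c) {N : Subgroup G}
    (hc : c ∈ N) (hs : s ∈ N) (ht : t ∈ N) :
    ∃ ψ : Multiplicative (ZMod 4) × Equiv.Perm (Fin 3) →* G,
      ψ.range ≤ N ∧ c ∈ ψ.range ∧ s ∈ ψ.range ∧ t ∈ ψ.range := by
  obtain ⟨F, hF⟩ := exists_perm_hom_of_braid 2 ![s, t] (fun i => by fin_cases i <;> assumption)
    (fun i j e => by fin_cases i <;> fin_cases j <;> exact absurd e (by decide))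
    (fun i j e => by fin_cases i <;> fin_cases j <;> first | assumption | exact absurd e (by decide))
  have k : ∀ σ, Commute c (F σ) ∧ F σ ∈ N := perm_ind (by simp) (fun i => by
      rw [hF]
      fin_cases i
      exacts [⟨cs, hs⟩, ⟨ct, ht⟩]) fun x y a b => map_mul F x y ▸ ⟨a.1.mul_right b.1, mul_mem a.2 b.2⟩
  refine ⟨(zhom 4 c4).noncommCoprod F fun i σ => (k σ).1.pow_left _, ?_, ⟨(.ofAdd 1, 1), ?_⟩,
    ⟨(1, Equiv.swap 0 1), ?_⟩, ⟨(1, Equiv.swap 1 2), ?_⟩⟩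
  · rintro _ ⟨⟨i, σ⟩, rfl⟩
    exact mul_mem (pow_mem hc _) (k σ).2
  · exact (congrArg _ (map_one _)).trans ((mul_one _).trans (pow_one c))
  · exact (congrArg₂ _ (map_one _) (hF 0)).trans (one_mul _)
  · exact (congrArg₂ _ (map_one _) (hF 1)).trans (one_mul _)

def a5 : List ℕ := [15, 22, 23]
def b5 : List ℕ := [0, 21]
def c5 : List ℕ := [5, 10, 12, 22, 11, 2]
def r5 : List ℕ := [0]
def t5 : List ℕ := [20, 5, 6, 21, 6, 5, 19]

noncomputable def O5 : ℕ := bfs nets [a5, b5] 4 (2 ^ 1701)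

noncomputable def ch5 : List Lev :=
  [⟨[[4]], 0, 4, 1782, fixm nets 1782 1792 11 b5, 2, []⟩,
   ⟨[[3]], 1781, 3, 416, fixm nets 1782 1792 11 b5, 1, []⟩,
   ⟨[[21]], 1701, 3, 100, 2 ^ 1782 - 1, 100, []⟩,
   ⟨[[22, 23]], 502, 3, 36, O5, 6, []⟩, ⟨[[19]], 194, 2, 7, O5, 2, []⟩,
   ⟨[[20, 1]], 195, 2, 6, O5, 1, []⟩, ⟨[[2, 0], [13, 17, 13, 20, 22, 6]], 205, 1, 4, O5, 1, []⟩]

theorem ch5_ok : chainOK nets 7 ch5 = true := by decide +kernel

theorem MD.e5 (h : MD φ g) : ∀ e ∈ [(wpow a5 5, []), (wpow b5 5, []), (a5 ++ b5, b5 ++ a5),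
    (r5 ++ a5, a5 ++ r5), (r5 ++ b5, wpow b5 4 ++ r5), (t5 ++ a5, wpow a5 2 ++ wpow b5 4 ++ t5),
    (t5 ++ b5, wpow a5 3 ++ wpow b5 3 ++ t5), (c5 ++ a5, wpow a5 2 ++ c5),
    (c5 ++ b5, wpow b5 2 ++ c5), (wpow c5 4, []), (r5 ++ r5, []), (t5 ++ t5, []),
    (r5 ++ t5 ++ r5, t5 ++ r5 ++ t5), (c5 ++ r5, r5 ++ c5), (c5 ++ t5, t5 ++ c5)],
    ev g e.1 = ev g e.2 := h.eqs (by decide +kernel)

theorem MD.card25 (h : MD φ g) : Nat.card (gen g [a5, b5]) = 5 ^ 2 := by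
  have E := h.e5
  simp only [List.forall_mem_cons, ev_append, ev_wpow, ev_nil] at E
  exact (cardLe_of_comm (p := 5) (by norm_num) (by
    simp [E.1, E.2.1, Commute, SemiconjBy, E.2.2.1])).2.antisymm
    (h.le_card (d := 4) (p := 1701) (by decide +kernel))

theorem MD.five (h : MD φ g) (P : Sylow 5 G) (hP : (P : Subgroup G) = gen g [a5, b5]) :
    (∃ A B : Subgroup G, Nat.card A = 5 ∧ Nat.card B = 5 ∧
      (∀ g : G, A.map (MulAut.conj g).toMonoidHom ≠ B) ∧ ∀ C : Subgroup G, Nat.card C = 5 →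
        ∃ g : G, C.map (MulAut.conj g).toMonoidHom = A ∨ C.map (MulAut.conj g).toMonoidHom = B) ∧
    Nat.card (P : Subgroup G) = 25 ∧ Nat.card (normalizer ((P : Subgroup G) : Set G)) = 600 ∧
    Nonempty (normalizer ((P : Subgroup G) : Set G) ⧸ (P : Subgroup G).subgroupOf
      (normalizer ((P : Subgroup G) : Set G)) ≃* Multiplicative (ZMod 4) × Equiv.Perm (Fin 3)) := by
  have : Fact (Nat.Prime 5) := ⟨by norm_num⟩
  have := h.model.finite
  have E := h.e5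
  simp only [List.forall_mem_cons, ev_append, ev_wpow, ev_nil] at E
  obtain ⟨ea, eb, ab, sa, sb, ta, tb, ca, cb, c4, s2, t2, st, cs, ct, -⟩ := E
  have oa := orderOf_eq_prime ea (h.lift.ne_one valid 1701 (by decide +kernel))
  have ob := orderOf_eq_prime eb (h.lift.ne_one valid 1701 (by decide +kernel))
  have cP : Nat.card (P : Subgroup G) = 25 := hP ▸ h.card25
  have ha : ev g a5 ∈ gen g [a5, b5] := ev_mem_gen (by simp)
  have hb : ev g b5 ∈ gen g [a5, b5] := ev_mem_gen (by simp)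
  obtain ⟨ψ, p1, p2, p3, p4⟩ := prod_aux c4 s2 t2 st cs ct (N := normalizer (gen g [a5, b5] : Set G))
    (mem_norm_gen (by simp [ca, cb, ha, hb, pow_mem])) (mem_norm_gen (by simp [sa, sb, ha, hb, pow_mem]))
    (mem_norm_gen (by simp [ta, tb, ha, hb, pow_mem, mul_mem]))
  have cS : Nat.card (Multiplicative (ZMod 4) × Equiv.Perm (Fin 3)) = 24 := by
    simp [Fintype.card_perm, Nat.factorial]
  have i := inj_of_card (ψ := ψ) (K := gen g [c5, r5, t5])
    (gen_le_iff.2 (by simp [p2, p3, p4, -MonoidHom.mem_range]))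
    (cS ▸ h.le_card (d := 3) (p := 10) (by decide +kernel))
  have fb : fx φ 1782 (ev g b5) = {0} ∪ {1781} := by
    rw [← h.fix, show fixm nets 1782 1792 11 b5 = 2 ^ 0 ||| 2 ^ 1781 by decide +kernel, bits_or,
      bits_two_pow, bits_two_pow]
  have f : ∀ k ∈ normalizer (gen g [a5, b5] : Set G), ∀ q ∈ bits (fixm nets 1782 1792 11 b5),
      φ k q ∈ bits (fixm nets 1782 1792 11 b5) := fun k hk => h.fix b5 ▸ h.model.inv_fx fun q hq => by
    have := (h.lift.map_gen _).le ⟨_, (mem_normalizer_iff''.1 hk _).1 hb, rfl⟩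
    rcases fb.le hq with rfl | rfl
    · exact valid.gen_le_stabilizer (by decide +kernel) this
    · exact valid.gen_le_stabilizer (by decide +kernel) this
  have o : ∀ k ∈ normalizer (gen g [a5, b5] : Set G), φ k 1701 = 1701 → ∀ q ∈ bits O5,
      φ k q ∈ bits O5 := fun k => h.lift.inv_orbit valid (d := 4) (by decide +kernel)
  have c1 : Nat.card (normalizer (gen g [a5, b5] : Set G)) ≤ 2400 :=
    h.lift.chain_le h.model.inj valid ch5_ok (h.card.trans (by decide +kernel))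
      ⟨f, fun k hk => f k hk.1, fun k _ => h.model.inv_all k, fun k hk => o k hk.1.1.1 hk.2,
        fun k hk => o k hk.1.1.1.1 hk.1.2, fun k hk => o k hk.1.1.1.1.1 hk.1.1.2,
        fun k hk => o k hk.1.1.1.1.1.1 hk.1.1.1.2, trivial⟩
  rw [← hP] at p1 c1
  let π := (QuotientGroup.mk' ((P : Subgroup G).subgroupOf (normalizer ((P : Subgroup G) : Set G)))).comp
    (ψ.codRestrict _ fun x => p1 ⟨x, rfl⟩)
  have j : Function.Injective π := (injective_iff_map_eq_one π).2 fun x hx => i (by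
    have a : orderOf (ψ x) ∣ 25 := cP ▸ Subgroup.orderOf_dvd_natCard (P : Subgroup G)
      ((QuotientGroup.eq_one_iff (⟨ψ x, p1 ⟨x, rfl⟩⟩ : normalizer _)).1 hx)
    have b : orderOf (ψ x) ∣ 24 := (orderOf_map_dvd ψ x).trans (cS ▸ _root_.orderOf_dvd_natCard x)
    rw [map_one, ← orderOf_eq_one_iff]
    exact Nat.eq_one_of_dvd_coprimes (by norm_num) a b)
  obtain ⟨k, hk⟩ := card_dvd_of_injective π j
  have c2 := card_eq_card_quotient_mul_card_subgroup
    ((P : Subgroup G).subgroupOf (normalizer ((P : Subgroup G) : Set G)))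
  rw [Nat.card_congr (subgroupOfEquivOfLe le_normalizer).toEquiv, cP] at c2
  rw [cS] at hk
  obtain rfl := sylow_mod P (m := 600) (k := k) (n := 747242496) (by omega) h.card (by norm_num)
    (by omega)
  refine ⟨⟨zpowers (ev g a5), zpowers (ev g b5), (Nat.card_zpowers _).trans oa,
    (Nat.card_zpowers _).trans ob, fun k e => ?_, fun C hC => ?_⟩, cP, by omega,
    ⟨(MulEquiv.ofBijective π (j.bijective_of_nat_card_le (by omega))).symm⟩⟩
  · rw [MonoidHom.map_zpowers] at e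
    have := Set.ncard_le_ncard (fx_pow (φ := φ) (n := 1782) (e.ge (mem_zpowers _))) (fb ▸ Set.toFinite _)
    rw [show (MulAut.conj k).toMonoidHom (ev g a5) = k * ev g a5 * k⁻¹ from rfl, h.model.ncard_fx_conj,
      ← h.fix, ← h.fix, ncard_bits (d := 7) (n := 12) (by decide +kernel),
      ncard_bits (d := 7) (n := 2) (by decide +kernel)] at this
    omega
  obtain ⟨⟨u, hu⟩, ou⟩ := exists_prime_orderOf_dvd_card' 5 hC.symm.dvd
  rw [← orderOf_coe] at ou
  obtain rfl : zpowers u = C := eq_of_le_of_card_ge (zpowers_le.2 hu) (by rw [Nat.card_zpowers, hC]; exact ou.ge)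
  obtain ⟨Q, hQ⟩ := (IsPGroup.of_card (p := 5) (n := 1) hC).exists_le_sylow
  obtain ⟨n, rfl⟩ := MulAction.exists_smul_eq G Q P
  have b : gen g [a5, b5] ≤ ((zhom 5 ea).noncommCoprod (zhom 5 eb) fun _ _ =>
      Commute.pow_pow ab _ _).range := gen_le_iff.2 (List.forall_mem_cons.2 ⟨⟨(.ofAdd 1, 1),
        (congrArg _ (map_one _)).trans ((mul_one _).trans (pow_one _))⟩, List.forall_mem_singleton.2
        ⟨(1, .ofAdd 1), (congrArg₂ _ (map_one _) (pow_one _)).trans (one_mul _)⟩⟩)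
  obtain ⟨⟨x, y⟩, e⟩ := b (hP.le ⟨u, hQ hu, rfl⟩)
  obtain ⟨k, hk⟩ := five_aux ea eb ab sa sb ta tb x.toAdd.val y.toAdd.val
  rw [show ev g a5 ^ x.toAdd.val * ev g b5 ^ y.toAdd.val = n * u * n⁻¹ from e] at hk
  have a : ∀ v : G, orderOf v = 5 → k * (n * u * n⁻¹) * k⁻¹ ∈ zpowers v →
      (zpowers u).map (MulAut.conj (k * n)).toMonoidHom = zpowers v := fun v ov hv =>
    eq_of_le_of_card_ge (by
      rw [MonoidHom.map_zpowers, zpowers_le]; simpa [mul_assoc] using hv)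
      (by rw [card_map_of_injective (MulAut.conj _).injective, hC, Nat.card_zpowers, ov])
  exact ⟨k * n, hk.imp (a _ oa) (a _ ob)⟩

end CL.SM
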