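import Cfsg.Agent.SPOR.A10.HeSt

/-!
The two elementary abelian subgroups of order 64 and the fusion of `z`.
-/

set_option autoImplicit false
set_option maxRecDepth 100000

namespace CL.A10.Hd

open CL.K CL.CG CL.CE CL.Orb Subgroup

/-- codes of the elements of `A₁` (`false`) and `A₂` (`true`) -/
noncomputable def Ac (sd : Bool) (i : ℕ) : ℕ := force i fun i => Bool.rec (motive := fun _ => ℕ)
  (Nat.add one (Nat.add (Nat.mul 1024 (Nat.mod i 4)) (Nat.add (Nat.mul 32768 (Nat.mod (Nat.div i 4) 4))
    (Nat.mul 1048576 (Nat.div i 16)))))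
  (Nat.add one (Nat.add (Nat.mul 32768 (Nat.mod i 8)) (Nat.mul 1048576 (Nat.div i 8)))) sd

/-- index of an element of `A₁`, `A₂` -/
noncomputable def ix (sd : Bool) (x : ℕ) : ℕ := force x fun x => Bool.rec (motive := fun _ => ℕ)
  (Nat.add (Nat.mod (Nat.div x 1024) 4) (Nat.add (Nat.mul 4 (Nat.mod (Nat.div x 32768) 4))
    (Nat.mul 16 (Nat.mod (Nat.div x 1048576) 4))))
  (Nat.add (Nat.mod (Nat.div x 32768) 8) (Nat.mul 8 (Nat.mod (Nat.div x 1048576) 8))) sd

theorem ix_lt (sd : Bool) (x : ℕ) : ix sd x < 64 := by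
  rw [ix, force_eq]
  cases sd
  · show x / 1024 % 4 + (4 * (x / 32768 % 4) + 16 * (x / 1048576 % 4)) < 64
    omega
  · show x / 32768 % 8 + 8 * (x / 1048576 % 8) < 64
    omega

/-- membership test -/
noncomputable def aB (sd : Bool) (x : ℕ) : Bool := Nat.beq (Ac sd (ix sd x)) x

/-- both sides -/
def both (p : Bool → Bool) : Bool := p false && p true

theorem both_spec {p : Bool → Bool} (h : both p = true) (sd : Bool) : p sd = true := by
  rw [both, Bool.and_eq_true] at h
  cases sd
  exacts [h.1, h.2]

/-- commuting codes -/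
noncomputable def cm (x y : ℕ) : Bool := Nat.beq (mul x y) (mul y x)

/-- code of `t = e₁₄e₂₅` -/
abbrev tc : ℕ := 19173441

theorem chkA : both (fun sd => allLt (fun i => force (Ac sd i) fun x => vB x && tB x &&
    Nat.beq (ix sd x) i && allLt (fun a => aB sd (mul (lc a) (mul x (lc a)))) 4 &&
    allLt (fun j => Nat.beq (mul x (Ac sd j)) (Ac sd (Nat.xor i j))) 64) 64 &&
    aB sd zc && aB sd tc && Nat.beq (Ac sd 0) one && !aB (!sd) (Ac sd (cond sd 4 1))) = true := by
  decide +kernel

theorem chkA2 : both (fun sd => allT fun x =>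
    imp (allLt (fun k => cm x (Ac sd (Nat.shiftLeft 1 k))) 6) (aB sd x)) = true := by
  decide +kernel

theorem chkt : allH (fun x => imp (cm x tc) (tB x)) = true := by decide +kernel

/-- the solutions of `x² = 1` in `T` -/
def IL : List ℕ := [17043521, 17043553, 17044545, 17044577, 17045569, 17046593, 17076289, 17076321, 17077313, 17077345, 17078337, 17079361, 17109057, 17110081, 17111105, 17112129, 17141825, 17142849, 17143873, 17144897, 17174593, 17174625, 17207361, 17207393, 17240129, 17241185, 17272897, 17273953, 18092097, 18092129, 18093121, 18093153, 18094145, 18095169, 18124865, 18124897, 18125889, 18125921, 18126913, 18127937, 18157633, 18158657, 18159681, 18160705, 18190401, 18191425, 18192449, 18193473, 18223169, 18223201, 18255937, 18255969, 18288705, 18289761, 18321473, 18322529, 19140673, 19141697, 19142721, 19143745, 19173441, 19174465, 19175489, 19176513, 19206209, 19207233, 19208257, 19209281, 19238977, 19240001, 19241025, 19242049, 19271745, 19304513, 19337281, 19370049, 20189249, 20190273, 20191297,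 20192321, 20222017, 20223041, 20224065, 20225089, 20254785, 20255809, 20256833, 20257857, 20287553, 20288577, 20289601, 20290625, 20320321, 20353089, 20385857, 20418625, 21237825, 21237857, 21270593, 21270625, 21303361, 21336129, 21368897, 21368929, 21401665, 21401697, 21434433, 21467201, 22286401, 22286433, 22319169, 22319201, 22351937, 22384705, 22417473, 22417505, 22450241, 22450273, 22483009, 22515777, 23334977, 23336033, 23367745, 23368801, 23400513, 23433281, 23466049, 23498817, 23531585, 23532641, 23564353, 23565409, 24383553, 24384609, 24416321, 24417377, 24449089, 24481857, 24514625, 24547393, 24580161, 24581217, 24612929, 24613985, 25432129, 25432161, 25433153, 25433185, 25434177, 25435201, 26480705, 26480737, 26481729, 26481761, 26482753, 26483777, 27529281, 27530305, 27531329, 27532353, 27562081, 27563105, 28577857, 28578881, 28579905, 28580929, 28610657, 28611681, 29626433, 29626465, 29660225, 29660257, 29694017, 29727809, 30675009, 30675041, 30708801, 30708833, 30742593, 30776385, 31723585, 31724641,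 31756385, 31757377, 31791169, 31824961, 32772161, 32773217, 32804961, 32805953, 32839745, 32873537]

theorem chkI : allT (fun x => imp (Nat.beq (mul x x) one) (IL.any (Nat.beq x) &&
    (aB false x || aB true x || blt (llen (lfilter (cm x) IL)) 64))) = true := by
  decide +kernel

theorem chkw : allLt (fun i => allLt (fun j => force (mul (Ac false i) (Ac true j)) fun y =>
    !Nat.beq (mul y y) tc) 64) 64 = true := by decide +kernel

/-- index in `T` -/
noncomputable def ti (x : ℕ) : ℕ := Nat.add (Nat.mod (Nat.div x 32) 2) (Nat.add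
  (Nat.mul 2 (Nat.mod (Nat.div x 1024) 4)) (Nat.add (Nat.mul 8 (Nat.mod (Nat.div x 32768) 8))
    (Nat.mul 64 (Nat.mod (Nat.div x 1048576) 16))))

def CLt : ℕ := 0x1400000050000001f8000e010000000000000000000000001400000050000001f8000e01000000000000000000000000140000005000000fc0000039000000000000000000000000140000005000000fc0000039000000000000000000000000000000000000000e381451c1000000000000000000000000000000000000000e381451c1000000000000000000000000000000000000000000145ff9000000000000000000000000000000000000000000145ff9000803000806000005000005000005000005000e07000e01000806000803000005000005000005000005000e07000e0100000500000500002300002600000500000500003f00003900000500000500002600002300000500000500003f0000390000050000050000050000050c41031061061041c70c61c10000050000050000050000051841061031031041c71831c10008060008060000260000261841061061061044921864900008030008030000230000230c41031031031044920c3490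

def HH : ℕ := 0x610c18400000000000000000000000000000000000000000000000000000001043c4100000000000000000000000000000000000000000000000000000000410c3860823c200000000000000000000000000000008118b080000000000010430e100000000000000000000000000000000000000000000000000000000000000000000000000000000000000000000000000000000000000000000000000000000000000000000000000000000000000000000000000000000000000000000000000000000000000410f1840000000000000000000000000000000000000000000000000000000104384100000000000000000000000000000000000000000000000000000000410c30608238200000000000000000000000000000008118a080000000000010430c100000000000000000000000000000000000000000000000000000000000000000000000000000000000000000000000000000000000000000000000000000000000000000000000000000000000000000000000000000000000000000000000000000000000000610f18400000000000000000000000000000000000000000000000000000001043441000000000000000000000000000000000000000000000000008216c0c10b38400000000000000000000000000000000000000000000000002043ac3042ce10000000000000000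0000000000000000000000000000000000000000000000000000000000000000000000000000000000000000000000000000000000000000000000000000000000000000000000000000000000000000000000000000000000000000000000410c18400000000000000000000000000000000000000000000000000000001043041000000000000000000000000000000000000000000000000008214c0c10a304000000000000000000000000000000000000000000000000020432830428c100000000000000000000000000000000000000000000000000000000000000000000000000000000000000000000000000000000000000000000000000000000000000000000000000000000000000000000000000000000000000000000000000000000000000000000000000000000000000000000000000000000000000000000000000000000000000000000000000000000000000000000000000000000000008218b08000002083ac2000000000000608c18400000103bc41000000408c3840000010230e10000000000000000000000000000000000000000000000000000000000000000000000000000000000000000000000000000000000000000000000000000000000000000000000000000000000000000000000000000000000000000000000000000000000000000000000000000000000000000000000000000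0000000000000000000000000000000000000000000000000000000000000000000000000000000008218a0800000208328200000000000040ef184000001033841000000408c3040000010230c10000000000000000000000000000000000000000000000000000000000000000000000000000000000000000000000000000000000000000000000000000000000000000000000000000000000000000000000000000000000000000000000000000000000000000000000000000000000000000000000000000000000000000000000000000000000000000000000000000000000000000000000000000000000000000000000000000000000000000000060ef18400000102b44180d6c0c06b386033b0301ace100000000000000000000000000000000000000000000000000000000000000000000000000000000000000000000000000000000000000000000000000000000000000000000000000000000000000000000000000000000000000000000000000000000000000000000000000000000000000000000000000000000000000000000000000000000000000000000000000000000000000000000000000000000000000000000000000000000000000000000408c1840000010230418094c0c04a3060233030128c10000000000000000000000000c208708000000000001c621610000000000000000000000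000c308708000000000001c6214100000000000000000000000000000000000000000001040cc1000000000000000000000000000000000000000000010408e10000000000000000000000000000000000000000000184106100000000000000000000000000000000000000000001041c4100000000000000000000000008218f080000000000010410e100000000000000000000000008118f080000000000010410e10000000000000000000000000c308608000000000001c621610000000000000000000000000c208608000000000001c6214100000000000000000000000000000000000000000001040ce1000000000000000000000000000000000000000000010408c100000000000000000000000000000000000000000001041c610000000000000000000000000000000000000000000104184100000000000000000000000008218e080000000000010410c100000000000000000000000008118e080000000000010410c100000000000000000000000000000000000000000001841c81000000000000000000000000000000000000000000010414e1000000000000000000000000000000000000030819c3c60d61000000000000000000000000000000000000030c19c3c6094100000000000000000000000000000000000000000001841c6100000000000000000000000000000000000000000001041441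00000000000000000000000000000000000002081bc3040ce100000000000000000000000000000000000002041bc3040ce1000000000000000000000000000000000000000000010410e1000000000000000000000000000000000000000000010410c1000000000000000000000000000000000000030c1183c60d6100000000000000000000000000000000000003081183c609410000000000000000000000000000000000000000000104106100000000000000000000000000000000000000000001041041000000000000000000000000000000000000020813830408c1000000000000000000000000000000000000020413830408c1000000000000000000000000000000000000000000018410e100000000000000000000000000000000000000000001041ca100000000000000000000000000000000000000000001840ce1000000000000000000000000000000000000000000010408a100000071841840000018430610000006104184000001c620610000006188184000001c610410000006184184000001c62041000000708c104000001823061000000410c1840000010410610000007104184000001c41041000000408c18400000104106100000000000000000000000000000000000000000001041c81000000000000000000000000000000000000000000010418810000000000000000000000000000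0000000000000001040c810000000000000000000000000000000000000000000104088100000071841840000018620410000006184104000001c62061000000610c104000001c610410000006104104000001c62041000000608c104000001822041000000410c1040000010410410000007104184000001c41041000000408c1040000010410410000000000000000000000000a3086080000000000010621610000000000000000000000000a308708000000000001062141000000000000000000000000000000000000028c1183060d61000000000000000000000000000000000000028c19c306094100000041841840000014620410000005184104000001062061000000510c1040000010610410000005184184000001062041000000508c104000001423061c218e0e10c1070813838410410000004104184000001041041c118e0e08c1070413830410410000000000000000000000000820870800000000000106216100000000000000000000000008208608000000000001062141000000000000000000000000000000000000020819c3060d610000000000000000000000000000000000000208118306094100000041841840000010430610000004104184000001062061000000410c1040000010610410000004104104000001062041000000408c1040000010230618218e0c10c10608138304104100000041041840000010410418118e0c08c106041382000000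

/-- class of an involution of `T` -/
noncomputable def cl (x : ℕ) : ℕ := fld 3 7 CLt (ti x)

/-- class representatives `z, u₁, u₂, e₂₃, e₁₃e₂₄, e₂₄e₃₅, e₁₅e₂₃, t` -/
def rep (c : ℕ) : ℕ := gt 0x924820c5061068a2083051441820c20c124106482083141041 c

theorem chkC : IL.all (fun x => Nat.beq x one || force (gt HH (ti x)) fun h =>
    vB h && Nat.beq (mul h x) (mul (rep (cl x)) h) &&
      imp (Nat.beq (cl x) 0) (Nat.beq x zc)) = true := by decide +kernel

theorem chkR : allLt (fun c => vB (rep c)) 8 = true := by decide +kernel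

/-- `x` is conjugate to `z`, given the mask of classes -/
noncomputable def zt (m x : ℕ) : Bool := force x fun x => !Nat.beq x one && Nat.beq (bit m (cl x)) 1

/-- mask of the conjugates of `z` in `A₁`, `A₂` -/
noncomputable def OA (m : ℕ) (sd : Bool) : ℕ :=
  orLt (fun i => Bool.rec (motive := fun _ => ℕ) 0 (Nat.shiftLeft 1 i) (zt m (Ac sd i))) 64

theorem testBit_OA (m : ℕ) (sd : Bool) {i : ℕ} (hi : i < 64) :
    (OA m sd).testBit i = zt m (Ac sd i) := by
  rw [Bool.eq_iff_iff, OA, testBit_orLt]
  constructor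
  · rintro ⟨j, -, h⟩
    cases hz : zt m (Ac sd j)
    · rw [hz] at h; simp at h
    · rw [hz] at h
      change (1 <<< j).testBit i = true at h
      rw [Nat.one_shiftLeft, Nat.testBit_two_pow, decide_eq_true_eq] at h
      rwa [← h]
  · intro h
    refine ⟨i, hi, ?_⟩
    rw [h]
    change (1 <<< i).testBit i = true
    rw [Nat.one_shiftLeft, Nat.testBit_two_pow_self]

noncomputable def r2 (O x : ℕ) : ℕ := force x fun x =>
  sumLt (fun p => Nat.mul (bit O p) (bit O (Nat.xor p x))) 64

noncomputable def r3 (O x : ℕ) : ℕ := sumLt (fun p => Nat.mul (bit O p) (r2 O (Nat.xor p x))) 64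

theorem chkF : allLt (fun m => imp (Nat.beq (bit m 0) 1) ([1, 3, 5, 15, 31, 47, 63].any (Nat.beq m) ||
    !both (fun sd => force (OA m sd) fun O => force (r2 O (ix sd zc)) fun r =>
      allLt (fun i => imp (Nat.beq (bit O i) 1) (Nat.beq (r2 O i) r)) 64) ||
    !both (fun sd => force (OA m sd) fun O => force (r3 O (ix sd zc)) fun r =>
      allLt (fun i => imp (Nat.beq (bit O i) 1) (Nat.beq (r3 O i) r)) 64))) 128 = true := by
  decide +kernel

theorem sum_reindex {f : ℕ → ℕ} (hf : ∀ i < 64, f i < 64)
    (hi : ∀ i < 64, ∀ j < 64, f i = f j → i = j) (φ : ℕ → ℕ) :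
    sumLt (fun p => φ (f p)) 64 = sumLt φ 64 := by
  rw [sumLt_eq, sumLt_eq]
  refine Finset.sum_nbij f (fun i h => Finset.mem_range.2 (hf i (Finset.mem_range.1 h)))
    (fun i h j h' => hi i (Finset.mem_range.1 h) j (Finset.mem_range.1 h')) ?_ fun _ _ => rfl
  exact Finset.surjOn_of_injOn_of_card_le f
    (fun i h => Finset.mem_range.2 (hf i (Finset.mem_range.1 h)))
    (fun i h j h' => hi i (Finset.mem_range.1 h) j (Finset.mem_range.1 h')) le_rfl

theorem sumLt_congr {f g : ℕ → ℕ} {n : ℕ} (h : ∀ i < n, f i = g i) : sumLt f n = sumLt g n := by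
  rw [sumLt_eq, sumLt_eq]
  exact Finset.sum_congr rfl fun i hi => h i (Finset.mem_range.1 hi)

theorem xor_lt {i j : ℕ} (hi : i < 64) (hj : j < 64) : i ^^^ j < 64 :=
  Nat.xor_lt_two_pow (n := 6) hi hj

theorem r23_inv {f : ℕ → ℕ} {O : ℕ} (hf : ∀ i < 64, f i < 64)
    (hi : ∀ i < 64, ∀ j < 64, f i = f j → i = j)
    (hx : ∀ i < 64, ∀ j < 64, f (i ^^^ j) = f i ^^^ f j) (hO : ∀ i < 64, bit O (f i) = bit O i)
    {x : ℕ} (h : x < 64) : r2 O (f x) = r2 O x ∧ r3 O (f x) = r3 O x := by
  have h2 : ∀ x < 64, r2 O (f x) = r2 O x := fun x h => by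
    rw [r2, r2, force_eq, force_eq, ← sum_reindex hf hi]
    refine sumLt_congr fun p hp => ?_
    show bit O (f p) * bit O (f p ^^^ f x) = bit O p * bit O (p ^^^ x)
    rw [← hx p hp x h, hO p hp, hO _ (xor_lt hp h)]
  refine ⟨h2 x h, ?_⟩
  rw [r3, r3, ← sum_reindex hf hi]
  refine sumLt_congr fun p hp => ?_
  show bit O (f p) * r2 O (f p ^^^ f x) = bit O p * r2 O (p ^^^ x)
  rw [← hx p hp x h, hO p hp, h2 _ (xor_lt hp h)]

theorem A_spec (sd : Bool) : (∀ i < 64, V (Ac sd i) ∧ tB (Ac sd i) = true ∧ ix sd (Ac sd i) = i ∧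
    (∀ a < 4, aB sd (mul (lc a) (mul (Ac sd i) (lc a))) = true) ∧
    ∀ j < 64, mul (Ac sd i) (Ac sd j) = Ac sd (i ^^^ j)) ∧ aB sd zc = true ∧ aB sd tc = true ∧
    Ac sd 0 = one ∧ aB (!sd) (Ac sd (cond sd 4 1)) = false := by
  have h := both_spec chkA sd
  simp only [Bool.and_eq_true, allLt_iff, force_eq, Nat.beq_eq, Bool.not_eq_true'] at h
  obtain ⟨⟨⟨⟨h, h1⟩, h2⟩, h3⟩, h4⟩ := h
  refine ⟨fun i hi => ?_, h1, h2, h3, h4⟩
  obtain ⟨⟨⟨⟨a1, a2⟩, a3⟩, a4⟩, a5⟩ := h i hi
  exact ⟨V_of a1, a2, a3, a4, a5⟩

theorem V_Ac (sd : Bool) {i : ℕ} (hi : i < 64) : V (Ac sd i) := ((A_spec sd).1 i hi).1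

theorem tB_Ac (sd : Bool) {i : ℕ} (hi : i < 64) : tB (Ac sd i) = true := ((A_spec sd).1 i hi).2.1

theorem ix_Ac (sd : Bool) {i : ℕ} (hi : i < 64) : ix sd (Ac sd i) = i := ((A_spec sd).1 i hi).2.2.1

theorem mul_Ac (sd : Bool) {i j : ℕ} (hi : i < 64) (hj : j < 64) :
    mul (Ac sd i) (Ac sd j) = Ac sd (i ^^^ j) := ((A_spec sd).1 i hi).2.2.2.2 j hj

theorem Ac_zero (sd : Bool) : Ac sd 0 = one := (A_spec sd).2.2.2.1

theorem Ac_ix {sd : Bool} {x : ℕ} (h : aB sd x = true) : Ac sd (ix sd x) = x :=
  Nat.eq_of_beq_eq_true h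

theorem sq_Ac (sd : Bool) {i : ℕ} (hi : i < 64) : mul (Ac sd i) (Ac sd i) = one := by
  rw [mul_Ac sd hi hi, Nat.xor_self, Ac_zero]

theorem V_t : V tc := V_of (by decide +kernel)

theorem V_rep {c : ℕ} (hc : c < 8) : V (rep c) := V_of (allLt_iff.1 chkR c hc)

theorem cl_lt (x : ℕ) : cl x < 8 := Nat.lt_succ_of_le (fld_le _ _ _ _)

theorem mem_IL {x : ℕ} (hx : V x) (ht : tB x = true) (h : mul x x = one) : x ∈ IL := by
  have := imp_mp (allT_spec chkI hx ht) (by rw [h]; rfl)
  simp only [Bool.and_eq_true, List.any_eq_true, Nat.beq_eq] at this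
  obtain ⟨y, hy, rfl⟩ := this.1
  exact hy

namespace St

variable {G : Type*} [Group G] (S : St G)

theorem cm_iff {x y : ℕ} (hx : V x) (hy : V y) :
    cm x y = true ↔ S.el x * S.el y = S.el y * S.el x := by
  rw [cm, Nat.beq_eq, S.mul_iff hx hy hy hx]

theorem el_Ac_mul (sd : Bool) {i j : ℕ} (hi : i < 64) (hj : j < 64) :
    S.el (Ac sd i) * S.el (Ac sd j) = S.el (Ac sd (i ^^^ j)) :=
  S.mul_eq (V_Ac sd hi) (V_Ac sd hj) (mul_Ac sd hi hj)

theorem el_Ac_sq (sd : Bool) {i : ℕ} (hi : i < 64) : S.el (Ac sd i) * S.el (Ac sd i) = 1 :=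
  S.mul_eq_one (V_Ac sd hi) (V_Ac sd hi) (sq_Ac sd hi)

theorem el_Ac_inj (sd : Bool) {i j : ℕ} (hi : i < 64) (hj : j < 64)
    (h : S.el (Ac sd i) = S.el (Ac sd j)) : i = j := by
  rw [← ix_Ac sd hi, S.el_inj (V_Ac sd hi) (V_Ac sd hj) h, ix_Ac sd hj]

/-- the subgroups `A₁`, `A₂` -/
def A (sd : Bool) : Subgroup G where
  carrier := {g | ∃ i < 64, S.el (Ac sd i) = g}
  one_mem' := ⟨0, by norm_num, by rw [Ac_zero, el_one]⟩
  mul_mem' := by
    rintro _ _ ⟨i, hi, rfl⟩ ⟨j, hj, rfl⟩
    exact ⟨_, xor_lt hi hj, (S.el_Ac_mul sd hi hj).symm⟩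
  inv_mem' := by
    rintro _ ⟨i, hi, rfl⟩
    exact ⟨i, hi, (inv_eq_of_mul_eq_one_right (S.el_Ac_sq sd hi)).symm⟩

theorem Ac_mem (sd : Bool) {i : ℕ} (hi : i < 64) : S.el (Ac sd i) ∈ S.A sd := ⟨i, hi, rfl⟩

theorem el_mem_A {sd : Bool} {x : ℕ} (h : aB sd x = true) : S.el x ∈ S.A sd :=
  ⟨_, ix_lt sd x, by rw [Ac_ix h]⟩

theorem aB_of_mem {sd : Bool} {x : ℕ} (hx : V x) (h : S.el x ∈ S.A sd) : aB sd x = true := by
  obtain ⟨i, hi, e⟩ := h
  rw [← S.el_inj (V_Ac sd hi) hx e, aB, ix_Ac sd hi, Nat.beq_eq]

theorem A_le_T (sd : Bool) : S.A sd ≤ S.T := by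
  rintro _ ⟨i, hi, rfl⟩
  exact S.el_mem_T (V_Ac sd hi) (tB_Ac sd hi)

theorem A_sq {sd : Bool} {a : G} (h : a ∈ S.A sd) : a * a = 1 := by
  obtain ⟨i, hi, rfl⟩ := h
  exact S.el_Ac_sq sd hi

theorem A_comm {sd : Bool} {a b : G} (ha : a ∈ S.A sd) (hb : b ∈ S.A sd) : a * b = b * a := by
  obtain ⟨i, hi, rfl⟩ := ha
  obtain ⟨j, hj, rfl⟩ := hb
  rw [S.el_Ac_mul sd hi hj, S.el_Ac_mul sd hj hi, Nat.xor_comm]

theorem A_p2 (sd : Bool) : IsPGroup 2 (S.A sd) := S.T_p2.to_le (S.A_le_T sd)

theorem z_mem_A (sd : Bool) : S.el zc ∈ S.A sd := S.el_mem_A (A_spec sd).2.1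

theorem t_mem_A (sd : Bool) : S.el tc ∈ S.A sd := S.el_mem_A (A_spec sd).2.2.1

theorem mem_T_of_comm {g : G} (hz : g * S.el zc = S.el zc * g) (ht : g * S.el tc = S.el tc * g) :
    g ∈ S.T := by
  obtain ⟨x, hx, rfl⟩ := S.exists_el hz
  exact S.el_mem_T hx (imp_mp (allH_spec chkt hx) ((S.cm_iff hx V_t).2 ht))

theorem mem_A_of_comm {sd : Bool} {g : G} (h : ∀ a ∈ S.A sd, g * a = a * g) : g ∈ S.A sd := by
  obtain ⟨x, hx, ht, rfl⟩ := S.exists_T
    (S.mem_T_of_comm (h _ (S.z_mem_A sd)) (h _ (S.t_mem_A sd)))
  refine S.el_mem_A (imp_mp (allT_spec (both_spec chkA2 sd) hx ht) (allLt_iff.2 fun k hk => ?_))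
  have hk' : Nat.shiftLeft 1 k < 64 := by interval_cases k <;> decide
  exact (S.cm_iff hx (V_Ac sd hk')).2 (h _ (S.Ac_mem sd hk'))

theorem T_norm_A (sd : Bool) {g : G} (hg : g ∈ S.T) : ∀ a ∈ S.A sd, g * a * g⁻¹ ∈ S.A sd := by
  have key : ∀ b < 4, ∀ a ∈ S.A sd, S.el (lc b) * a * S.el (lc b) ∈ S.A sd := by
    rintro b hb _ ⟨i, hi, rfl⟩
    have hs := V_lc (show b < 6 by omega)
    rw [mul_assoc, ← S.el_mul (V_Ac sd hi) hs, ← S.el_mul hs ((V_Ac sd hi).mul hs)]
    exact S.el_mem_A (((A_spec sd).1 i hi).2.2.2.1 b hb)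
  induction hg using closure_induction_left with
  | one => intro a ha; simpa using ha
  | mul_left _ hx y _ ih =>
    obtain ⟨b, hb, rfl⟩ := hx
    intro a ha
    have := key b hb _ (ih a ha)
    rw [mul_inv_rev, inv_eq_of_mul_eq_one_right (S.el_lc_sq b)]
    simpa only [mul_assoc] using this
  | inv_mul_cancel _ hx y _ ih =>
    obtain ⟨b, hb, rfl⟩ := hx
    intro a ha
    have := key b hb _ (ih a ha)
    rw [mul_inv_rev, inv_inv, inv_eq_of_mul_eq_one_right (S.el_lc_sq b)]
    simpa only [mul_assoc] using this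

theorem mem_A_or {sd : Bool} {g : G} (h : ∀ a ∈ S.A sd, g * a * g⁻¹ ∈ S.T) {a : G}
    (ha : a ∈ S.A sd) : g * a * g⁻¹ ∈ S.A false ∨ g * a * g⁻¹ ∈ S.A true := by
  have hsq : ∀ b ∈ S.A sd, g * b * g⁻¹ * (g * b * g⁻¹) = 1 := fun b hb => by
    rw [conj_mul, S.A_sq hb, mul_one, mul_inv_cancel]
  obtain ⟨x, hx, ht, e⟩ := S.exists_T (h a ha)
  have h1 := imp_mp (allT_spec chkI hx ht)
    (Nat.beq_eq.mpr ((S.mul_iff_one hx hx).1 (e ▸ hsq a ha)))
  simp only [Bool.and_eq_true, Bool.or_eq_true] at h1
  rw [← e]
  rcases h1.2 with (h2 | h2) | h2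
  · exact Or.inl (S.el_mem_A h2)
  · exact Or.inr (S.el_mem_A h2)
  · exfalso
    have h3 := lt_of_blt h2
    rw [llen_eq, lfilter_eq] at h3
    choose! y hy using fun j (hj : j < 64) => S.exists_T (h _ (S.Ac_mem sd hj))
    have h4 := Finset.card_le_card_of_injOn (s := Finset.range 64)
      (t := (IL.filter (cm x)).toFinset) y (fun j hj => ?_) (fun i hi j hj e => ?_)
    · have := List.toFinset_card_le (IL.filter (cm x))
      rw [Finset.card_range] at h4
      omega
    · obtain ⟨y1, y2, y3⟩ := hy j (by simpa using hj)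
      have hj' := S.Ac_mem sd (show j < 64 by simpa using hj)
      rw [Finset.mem_coe, List.mem_toFinset, List.mem_filter]
      refine ⟨mem_IL y1 y2 ((S.mul_iff_one y1 y1).1 (y3 ▸ hsq _ hj')), (S.cm_iff hx y1).2 ?_⟩
      rw [e, y3, conj_mul, conj_mul, S.A_comm ha hj']
    · have hi' : i < 64 := by simpa using hi
      have hj' : j < 64 := by simpa using hj
      refine S.el_Ac_inj sd hi' hj' ?_
      have := (hy i hi').2.2.symm.trans ((congrArg S.el e).trans (hy j hj').2.2)
      simpa using this

theorem mem_T_of_conj [Finite G] {h : G} (hh : ∀ y ∈ S.T, h * y * h⁻¹ ∈ S.T) : h ∈ S.T :=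
  S.mem_T_of_norm (S.mem_H_of_norm (mem_normalizer_iff.1 (mem_normalizer_fintype hh))) hh

theorem conj_inv_mem [Finite G] {K : Subgroup G} {g : G} (h : ∀ a ∈ K, g * a * g⁻¹ ∈ K) :
    ∀ a ∈ K, g⁻¹ * a * g ∈ K := fun a ha =>
  (mem_normalizer_iff.1 (mem_normalizer_fintype h) _).2 (by simpa [mul_assoc] using ha)

/-- `A₁` and `A₂` are weakly closed in `T`. -/
theorem wc [Finite G] {sd : Bool} {g : G} (h : ∀ a ∈ S.A sd, g * a * g⁻¹ ∈ S.T) :
    ∀ a ∈ S.A sd, g * a * g⁻¹ ∈ S.A sd := by
  have h0 : ∃ sd', ∀ a ∈ S.A sd, g * a * g⁻¹ ∈ S.A sd' := by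
    by_cases h1 : ∀ a ∈ S.A sd, g * a * g⁻¹ ∈ S.A false
    · exact ⟨_, h1⟩
    · push Not at h1
      obtain ⟨a₀, ha₀, h1⟩ := h1
      have h2 := (S.mem_A_or h ha₀).resolve_left h1
      refine ⟨true, fun a ha => ?_⟩
      rcases S.mem_A_or h ha with h3 | h3
      · rcases S.mem_A_or h (mul_mem ha ha₀) with h4 | h4 <;> rw [← conj_mul] at h4
        · exact absurd ((mul_mem_cancel_left h3).1 h4) h1
        · exact (mul_mem_cancel_right h2).1 h4
      · exact h3
  obtain ⟨sd', h0⟩ := h0
  by_cases hs : sd' = sd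
  · exact hs ▸ h0
  exfalso
  have h1 : ∀ b ∈ S.A sd', g⁻¹ * b * g ∈ S.A sd := fun b hb => S.mem_A_of_comm fun a ha => by
    have := S.A_comm hb (h0 a ha)
    calc g⁻¹ * b * g * a = g⁻¹ * (b * (g * a * g⁻¹)) * g := by simp [mul_assoc]
      _ = _ := by rw [this]; simp [mul_assoc]
  have hN : Max2 (normalizer (S.A sd' : Set G)) S.T :=
    ⟨fun y hy => mem_normalizer_fintype (S.T_norm_A sd' hy), S.T_p2,
      fun P hP hT _ => S.max_top.max P hP hT le_top⟩
  obtain ⟨c, hc, hc'⟩ := hN.conj (isPGroup_conj S.T_p2 g) (by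
    rintro _ ⟨y, hy, rfl⟩
    refine mem_normalizer_fintype fun b hb => ?_
    have := h0 _ (S.T_norm_A sd hy _ (h1 b hb))
    simpa [mul_assoc] using this)
  have h2 : c * g ∈ S.T := S.mem_T_of_conj fun y hy => by
    simpa [mul_assoc] using hc' _ (mem_conj hy)
  have h3 : S.el (Ac sd (cond sd 4 1)) ∈ S.A sd' := by
    have hi : cond sd 4 1 < 64 := by cases sd <;> decide
    have := (mem_normalizer_iff.1 hc _).1 (h0 _ (S.T_norm_A sd (S.T.inv_mem h2) _ (S.Ac_mem sd hi)))
    simpa [mul_assoc] using this
  have h4 := S.aB_of_mem (V_Ac sd (by cases sd <;> decide)) h3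
  rw [show sd' = !sd by cases sd <;> cases sd' <;> simp_all, (A_spec sd).2.2.2.2] at h4
  exact absurd h4 (by decide)

/-- `N(Aᵢ)` controls the fusion of `z` in `Aᵢ`. -/
theorem fus_A [Finite G] {sd : Bool} {g : G} (hg : g * S.el zc * g⁻¹ ∈ S.A sd) :
    ∃ n, (∀ a ∈ S.A sd, n * a * n⁻¹ ∈ S.A sd) ∧ n * S.el zc * n⁻¹ = g * S.el zc * g⁻¹ := by
  obtain ⟨h, hh, hc⟩ := S.max_H.conj (isPGroup_conj (S.A_p2 sd) g⁻¹) (by
    rintro _ ⟨a, ha, rfl⟩
    have := S.A_comm ha hg
    refine S.mem_H.2 ?_
    show g⁻¹ * a * g⁻¹⁻¹ * _ = _ * (g⁻¹ * a * g⁻¹⁻¹)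
    calc _ = g⁻¹ * (a * (g * S.el zc * g⁻¹)) * g := by simp [mul_assoc]
      _ = _ := by rw [this]; simp [mul_assoc])
  have h1 := S.wc (sd := sd) (g := h * g⁻¹) fun a ha => by
    simpa [mul_assoc] using hc _ (mem_conj ha)
  refine ⟨(h * g⁻¹)⁻¹, by simpa only [inv_inv] using conj_inv_mem h1, ?_⟩
  have := S.mem_H.1 (S.H.inv_mem hh)
  rw [inv_inv, mul_inv_rev, inv_inv, mul_assoc g, this]
  simp [mul_assoc]

theorem exists_lin {sd : Bool} {n : G} (hn : ∀ a ∈ S.A sd, n * a * n⁻¹ ∈ S.A sd) :
    ∃ f : ℕ → ℕ, (∀ i < 64, f i < 64 ∧ n * S.el (Ac sd i) * n⁻¹ = S.el (Ac sd (f i))) ∧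
      (∀ i < 64, ∀ j < 64, f i = f j → i = j) ∧ ∀ i < 64, ∀ j < 64, f (i ^^^ j) = f i ^^^ f j := by
  choose! f hf using fun i (hi : i < 64) => hn _ (S.Ac_mem sd hi)
  refine ⟨f, fun i hi => ⟨(hf i hi).1, (hf i hi).2.symm⟩, fun i hi j hj e => ?_,
    fun i hi j hj => ?_⟩
  · refine S.el_Ac_inj sd hi hj ?_
    have := (hf i hi).2.symm.trans (e ▸ (hf j hj).2)
    simpa using this
  · refine S.el_Ac_inj sd (hf _ (xor_lt hi hj)).1 (xor_lt (hf i hi).1 (hf j hj).1) ?_
    rw [(hf _ (xor_lt hi hj)).2, ← S.el_Ac_mul sd (hf i hi).1 (hf j hj).1, (hf i hi).2,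
      (hf j hj).2, conj_mul, S.el_Ac_mul sd hi hj]

theorem not_conj_t [Finite G] : ¬ IsConj (S.el zc) (S.el tc) := by
  intro h
  obtain ⟨g, hg⟩ := isConj_iff.1 h.symm
  have hP : IsPGroup 2 (S.A false ⊔ S.A true : Subgroup G) :=
    S.T_p2.to_le (sup_le (S.A_le_T _) (S.A_le_T _))
  have hPt : S.A false ⊔ S.A true ≤ centralizer {S.el tc} :=
    sup_le (fun a ha => mem_centralizer_singleton_iff.2 (S.A_comm ha (S.t_mem_A _)))
      fun a ha => mem_centralizer_singleton_iff.2 (S.A_comm ha (S.t_mem_A _))
  obtain ⟨h, hh, hc⟩ := S.max_H.conj (isPGroup_conj hP g) (by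
    rintro _ ⟨a, ha, rfl⟩
    refine S.mem_H.2 ?_
    show g * a * g⁻¹ * _ = _ * (g * a * g⁻¹)
    rw [← hg, conj_mul, conj_mul, mem_centralizer_singleton_iff.1 (hPt ha)])
  have h1 : ∀ sd, ∀ a ∈ S.A sd, (h * g)⁻¹ * a * (h * g) ∈ S.A sd := fun sd =>
    conj_inv_mem (S.wc fun a ha => by
      have := hc _ (mem_conj (g := g) (show a ∈ S.A false ⊔ S.A true by
        cases sd
        exacts [mem_sup_left ha, mem_sup_right ha]))
      simpa [mul_assoc] using this)
  obtain ⟨i, hi, ei⟩ := h1 false _ (S.Ac_mem false (i := 1) (by norm_num))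
  obtain ⟨j, hj, ej⟩ := h1 true _ (S.Ac_mem true (i := 32) (by norm_num))
  have h2 := allLt_iff.1 (allLt_iff.1 chkw i hi) j hj
  rw [force_eq, Bool.not_eq_true', ← Bool.not_eq_true, Nat.beq_eq] at h2
  have v1 := (V_Ac false hi).mul (V_Ac true hj)
  have v2 := (V_Ac false (i := 1) (by norm_num)).mul (V_Ac true (i := 32) (by norm_num))
  refine h2 ((S.mul_iff' v1 v1 V_t).1 ?_)
  have h3 := S.mul_eq v2 v2 (c := zc) (by decide +kernel)
  rw [S.el_mul (V_Ac _ (by norm_num)) (V_Ac _ (by norm_num))] at h3
  have h4 : (h * g)⁻¹ * S.el zc * (h * g) = S.el tc := by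
    rw [mul_inv_rev, mul_assoc g⁻¹, S.mem_H.1 (S.H.inv_mem hh), ← hg]; simp [mul_assoc]
  rw [S.el_mul (V_Ac false hi) (V_Ac true hj), ei, ej, ← h4, ← h3]
  simp [mul_assoc]

theorem conj_rep {x : ℕ} (hx : V x) (ht : tB x = true) (h : mul x x = one) (h1 : x ≠ one) :
    ∃ h ∈ S.H, h * S.el x * h⁻¹ = S.el (rep (cl x)) ∧ (cl x = 0 → x = zc) := by
  have := List.all_eq_true.1 chkC x (mem_IL hx ht h)
  simp only [Bool.or_eq_true, Nat.beq_eq, h1, false_or, force_eq, Bool.and_eq_true, imp_iff] at this
  exact ⟨_, S.el_mem_H _, (S.conj_iff (V_of this.1.1) hx (V_rep (cl_lt x))).2 this.1.2, this.2⟩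

/-- `m` is the mask of the classes of `H0` fused to `z` -/
def ZM (m : ℕ) : Prop := ∀ c < 8, IsConj (S.el zc) (S.el (rep c)) ↔ m.testBit c = true

theorem exists_ZM : ∃ m < 256, S.ZM m := by
  classical
  refine ⟨Nat.ofBits fun i : Fin 8 => decide (IsConj (S.el zc) (S.el (rep i))),
    Nat.ofBits_lt_two_pow _, fun c hc => ?_⟩
  rw [Nat.testBit_ofBits_lt _ _ hc, decide_eq_true_eq]

variable {S} in
theorem ZM.zt_iff {m : ℕ} (hm : S.ZM m) {x : ℕ} (hx : V x) (ht : tB x = true)
    (h : mul x x = one) : IsConj (S.el zc) (S.el x) ↔ zt m x = true := by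
  rw [zt, force_eq, Bool.and_eq_true, Bool.not_eq_true', ← Bool.not_eq_true, Nat.beq_eq,
    Nat.beq_eq, bit_eq_one_iff]
  by_cases h1 : x = one
  · rw [h1, S.el_one, isConj_one_left]
    simp [S.z_ne_one]
  · obtain ⟨k, -, hk, -⟩ := S.conj_rep hx ht h h1
    rw [← hm _ (cl_lt x)]
    have : IsConj (S.el x) (S.el (rep (cl x))) := isConj_iff.2 ⟨k, hk⟩
    exact ⟨fun e => ⟨h1, e.trans this⟩, fun e => e.2.trans this.symm⟩

variable {S} in
theorem ZM.OA_iff {m : ℕ} (hm : S.ZM m) (sd : Bool) {i : ℕ} (hi : i < 64) :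
    IsConj (S.el zc) (S.el (Ac sd i)) ↔ (OA m sd).testBit i = true := by
  rw [hm.zt_iff (V_Ac sd hi) (tB_Ac sd hi) (sq_Ac sd hi), testBit_OA m sd hi]

theorem isConj_conj_iff {a b g : G} : IsConj a (g * b * g⁻¹) ↔ IsConj a b :=
  ⟨fun h => h.trans (isConj_iff.2 ⟨g, rfl⟩).symm, fun h => h.trans (isConj_iff.2 ⟨g, rfl⟩)⟩

variable {S} in
/-- the seven fusion patterns -/
theorem ZM.cases [Finite G] {m : ℕ} (hm : S.ZM m) (h : m < 256) :
    m ∈ [1, 3, 5, 15, 31, 47, 63] := by
  have h7 : m < 128 := by
    have : ¬ m.testBit 7 = true := fun e => S.not_conj_t ((hm 7 (by norm_num)).2 e)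
    rw [Nat.testBit_eq_decide_div_mod_eq, decide_eq_true_eq] at this
    omega
  have key : ∀ sd, ∀ i < 64, bit (OA m sd) i = 1 → r2 (OA m sd) i = r2 (OA m sd) (ix sd zc) ∧
      r3 (OA m sd) i = r3 (OA m sd) (ix sd zc) := fun sd i hi hb => by
    obtain ⟨g, hg⟩ := isConj_iff.1 ((hm.OA_iff sd hi).2 (bit_eq_one_iff.1 hb))
    obtain ⟨n, hn, e⟩ := S.fus_A (sd := sd) (g := g) (hg ▸ S.Ac_mem sd hi)
    obtain ⟨f, h1, h2, h3⟩ := S.exists_lin hn
    have hz : f (ix sd zc) = i := S.el_Ac_inj sd (h1 _ (ix_lt _ _)).1 hi (by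
      rw [← (h1 _ (ix_lt _ _)).2, Ac_ix (A_spec sd).2.1, e, hg])
    rw [← hz]
    refine r23_inv (fun i hi => (h1 i hi).1) h2 h3 (fun j hj => ?_) (ix_lt _ _)
    rw [bit_eq, bit_eq]
    refine if_congr ?_ rfl rfl
    rw [← hm.OA_iff sd hj, ← hm.OA_iff sd (h1 j hj).1, ← (h1 j hj).2, isConj_conj_iff]
  have h0 := imp_mp (allLt_iff.1 chkF m h7)
    (Nat.beq_eq.mpr (bit_eq_one_iff.2 ((hm 0 (by norm_num)).1 (IsConj.refl _))))
  simp only [Bool.or_eq_true, Bool.not_eq_true', ← Bool.not_eq_true, both, Bool.and_eq_true,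
    force_eq, allLt_iff, imp_iff, Nat.beq_eq, List.any_eq_true] at h0
  rcases h0 with (⟨y, hy, rfl⟩ | h0) | h0
  · exact hy
  · exact absurd ⟨fun i hi hb => (key _ i hi hb).1, fun i hi hb => (key _ i hi hb).1⟩ h0
  · exact absurd ⟨fun i hi hb => (key _ i hi hb).2, fun i hi hb => (key _ i hi hb).2⟩ h0

/-- an involution of `G` is conjugate to a class representative -/
theorem exists_rep [Finite G] {C : Subgroup G} (hC : S.H ≤ C) {x : G} (hx : x ∈ C) (h : x * x = 1)
    (h1 : x ≠ 1) : ∃ c < 8, ∃ g ∈ C, g * x * g⁻¹ = S.el (rep c) := by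
  have hN : Max2 C S.T := ⟨S.T_le_H.trans hC, S.T_p2, fun P hP hT _ => S.max_top.max P hP hT le_top⟩
  obtain ⟨g, hg, hc⟩ := hN.conj (isPGroup_zpowers_inv h) (zpowers_le.2 hx)
  obtain ⟨y, hy, ht, e⟩ := S.exists_T (hc x (mem_zpowers x))
  obtain ⟨k, hk, e', -⟩ := S.conj_rep hy ht ((S.mul_iff_one hy hy).1 (by
    rw [e, conj_mul, h, mul_one, mul_inv_cancel])) (fun e' => h1 (by
      rw [e', S.el_one] at e; simpa using e.symm))
  exact ⟨_, cl_lt y, k * g, C.mul_mem (hC hk) hg, by rw [← e', e]; simp [mul_assoc]⟩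

variable {S} in
theorem ZM.ne_one [Finite G] {m : ℕ} (hm : S.ZM m) {g : G}
    (h : g * S.el zc * g⁻¹ * S.el zc = S.el zc * (g * S.el zc * g⁻¹))
    (hne : g * S.el zc * g⁻¹ ≠ S.el zc) : m ≠ 1 := by
  rintro rfl
  obtain ⟨c, hc, k, hk, e⟩ := S.exists_rep le_rfl (S.mem_H.2 h)
    (by rw [conj_mul, S.z_sq, mul_one, mul_inv_cancel]) (by simpa using S.z_ne_one)
  have h1 := (hm c hc).1 (by rw [← e, isConj_conj_iff, isConj_conj_iff])
  have h2 : c = 0 := by
    by_contra h0
    rw [Nat.testBit_one_eq_true_iff_self_eq_zero] at h1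
    exact h0 h1
  subst h2
  refine hne ?_
  have h3 : S.el (rep 0) = S.el zc := rfl
  rw [h3, mul_inv_eq_iff_eq_mul, ← S.mem_H.1 hk, mul_right_inj] at e
  exact e

end St

end CL.A10.Hd
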