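import Cfsg.Agent.SPOR.A10.HeId
import Cfsg.Agent.SPOR.He

/-!
The centraliser of a `2B`-involution of the Held group.
-/

set_option autoImplicit false
set_option maxRecDepth 100000

namespace CL.Net

open CL.K CL.CE CL.A10

variable {G : Type*} [Group G] {N : ℕ} {nets : List (List (ℕ × ℕ))}

/-- `chkPlanes` with the planes scrambled by `R`, which is faster in the kernel -/
noncomputable def chkX (nets : List (List (ℕ × ℕ))) (N b R : ℕ) (es : List (List ℕ × List ℕ)) : Bool :=
  allLt (fun j => force (Nat.xor (plane N b j) R) fun x =>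
    es.all fun e => Nat.beq (appw nets e.1 x) (appw nets e.2 x)) (Nat.succ b)

theorem Valid.eq_of_chkX (h : Valid N nets) {b R : ℕ} (hN : N ≤ 2 ^ b)
    {es : List (List ℕ × List ℕ)} (hc : chkX nets N b R es = true) :
    ∀ e ∈ es, ev (sigma nets) e.1 = ev (sigma nets) e.2 := by
  have key : ∀ j < b + 1, ∀ e ∈ es, ∀ p, (plane N b j ^^^ R).testBit (ev (sigma nets) e.1 p) =
      (plane N b j ^^^ R).testBit (ev (sigma nets) e.2 p) := fun j hj e he p => by
    have := allLt_iff.1 hc j hj
    rw [force_eq] at this
    rw [← h.testBit_appw, ← h.testBit_appw]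
    exact congrArg (·.testBit p) (Nat.eq_of_beq_eq_true (List.all_eq_true.1 this e he))
  have z : plane N b b = 0 := Nat.eq_of_testBit_eq fun p => by
    show (planeB b b &&& _).testBit p = _
    by_cases hp : p < 2 ^ b <;> simp [testBit_planeB, hp, Nat.testBit_lt_two_pow]
  refine h.eq_of_planes hN fun j hj => ?_
  rw [chkPlane, force_eq, List.all_eq_true]
  refine fun e he => Nat.beq_eq ▸ Nat.eq_of_testBit_eq fun p => ?_
  have h1 := key j (by omega) e he p
  have h2 := key b (by omega) e he p
  rw [z, Nat.zero_xor] at h2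
  rw [Nat.testBit_xor, Nat.testBit_xor, h2, Bool.xor_left_inj] at h1
  rw [h.testBit_appw, h.testBit_appw, h1]

/-- the mask of the points moved by a word -/
noncomputable def mvM (nets : List (List (ℕ × ℕ))) (N b : ℕ) (w : List ℕ) : ℕ :=
  orLt (fun j => force (plane N b j) fun x => Nat.xor x (appw nets w x)) b

theorem Valid.bits_mvM (h : Valid N nets) {b : ℕ} (hN : N ≤ 2 ^ b) (w : List ℕ) :
    bits (mvM nets N b w) = {p | ev (sigma nets) w p ≠ p} := by
  ext p
  simp only [mem_bits, mvM, testBit_orLt, force_eq, Set.mem_setOf_eq]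
  have e : ∀ x, (Nat.xor x (appw nets w x)).testBit p =
      xor (x.testBit p) (x.testBit (ev (sigma nets) w p)) := fun x => by
    rw [← h.testBit_appw]; exact Nat.testBit_xor _ _ _
  refine ⟨fun ⟨j, _, k⟩ e' => by rw [e, e', Bool.xor_self] at k; exact absurd k (by decide), fun hne => ?_⟩
  have hp : p < N := lt_of_not_ge fun hp => hne (h.ev_fix w hp)
  have h1 := h.ev_lt w hp
  by_contra k
  refine hne (Nat.eq_of_testBit_eq fun j => ?_)
  by_cases hj : j < b
  · have := fun c => k ⟨j, hj, c⟩
    rw [e, testBit_plane hN j hp, testBit_plane hN j h1] at this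
    revert this
    cases p.testBit j <;> simp
  · have h5 : 2 ^ b ≤ 2 ^ j := Nat.pow_le_pow_right (by norm_num) (not_lt.1 hj)
    rw [Nat.testBit_lt_two_pow (by omega), Nat.testBit_lt_two_pow (by omega)]

/-- Walk along the words `ws` coded in `C`, counting the new residues of the masks `y ^^^ r`; the
residues met are the bits of `s` above the 16 lowest.  (The mask `r` and the low bits of `s` only
serve to speed up the kernel.) -/
noncomputable def walk (nets : List (List (ℕ × ℕ))) (ws : List (List ℕ)) (P C n : ℕ) :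
    ℕ → ℕ → ℕ → ℕ → ℕ :=
  Nat.rec (motive := fun _ => ℕ → ℕ → ℕ → ℕ → ℕ) (fun _ _ _ c => c) (fun i ih y r s c =>
    force (appw nets (ws.getD (fld 3 7 C i) []) y) fun y =>
    force (appw nets (ws.getD (fld 3 7 C i) []) r) fun r => force (Nat.mod (Nat.xor y r) P) fun h =>
      Bool.rec (motive := fun _ => ℕ)
        (force (Nat.xor (Nat.lor s (Nat.pow 2 (Nat.add h 16))) (Nat.mod h 65536)) fun s =>
          force (Nat.succ c) (ih y r s)) (ih y r s c) (Nat.testBit s (Nat.add h 16))) n

theorem walk_succ (ws : List (List ℕ)) (P C i y r s c : ℕ) : walk nets ws P C (i + 1) y r s c =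
    (fun y r => cond (s.testBit ((y ^^^ r) % P + 16)) (walk nets ws P C i y r s c)
      (walk nets ws P C i y r ((s ||| 2 ^ ((y ^^^ r) % P + 16)) ^^^ (y ^^^ r) % P % 65536) (c + 1)))
      (appw nets (ws.getD (fld 3 7 C i) []) y) (appw nets (ws.getD (fld 3 7 C i) []) r) := by
  conv_lhs => unfold walk
  simp only [force_eq]
  cases s.testBit _ <;> simp only [walk, force_eq] <;> rfl

theorem Valid.walk_le [Finite G] (h : Valid N nets) {φ : G →* Equiv.Perm ℕ} {g : ℕ → G}
    (hφ : Lift φ g nets) (ws : List (List ℕ)) (e : G) (P C n : ℕ) : ∀ y r s c,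
    (∃ x ∈ cls (gen g ws) e, bits (y ^^^ r) = {p | φ x p ≠ p}) →
    c ≤ {j | s.testBit (j + 16) = true}.ncard → {j | s.testBit (j + 16) = true} ⊆
      (fun x => Function.invFun bits {p | φ x p ≠ p} % P) '' cls (gen g ws) e →
    walk nets ws P C n y r s c ≤ (cls (gen g ws) e).ncard := by
  induction n with
  | zero => exact fun _ _ _ _ _ h1 h2 => h1.trans ((Set.ncard_le_ncard h2 (Set.toFinite _)).trans
      (Set.ncard_image_le (Set.toFinite _)))
  | succ i ih =>
    rintro y r s c ⟨x, hx, hm⟩ h1 h2
    have inj : Function.Injective bits := fun a b k =>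
      Nat.eq_of_testBit_eq fun p => Bool.eq_iff_iff.2 (Set.ext_iff.1 k p)
    have k1 := conj_mem_cls hx (Subgroup.inv_mem _ (subst_mem_gen g ws (fld 3 7 C i)))
    have k2 : bits (appw nets (ws.getD (fld 3 7 C i) []) y ^^^ appw nets (ws.getD (fld 3 7 C i) []) r) =
        {p | φ ((subst g ws (fld 3 7 C i))⁻¹ * x * (subst g ws (fld 3 7 C i))⁻¹⁻¹) p ≠ p} := by
      ext p
      rw [mem_bits, Nat.testBit_xor, h.testBit_appw, h.testBit_appw, ← Nat.testBit_xor, ← mem_bits, hm]
      simp [← hφ.ev, subst, Equiv.symm_apply_eq]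
    rw [walk_succ]
    generalize appw nets (ws.getD (fld 3 7 C i) []) y = y' at *
    generalize appw nets (ws.getD (fld 3 7 C i) []) r = r' at *
    beta_reduce
    cases hb : s.testBit ((y' ^^^ r') % P + 16)
    · have e1 : ∀ h, {j | ((s ||| 2 ^ (h + 16)) ^^^ h % 65536).testBit (j + 16) = true} =
          insert h {j | s.testBit (j + 16) = true} := fun h => by
        ext j
        have : (h % 65536).testBit (j + 16) = false := Nat.testBit_lt_two_pow
          ((Nat.mod_lt _ (by norm_num)).trans_le (Nat.pow_le_pow_right (n := 2) (by norm_num)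
            (Nat.le_add_left 16 j)))
        rw [Set.mem_setOf_eq, Nat.testBit_xor, this, Bool.xor_false, Nat.testBit_or, Bool.or_eq_true,
          Nat.testBit_two_pow, decide_eq_true_iff, add_left_inj, or_comm, eq_comm]
        rfl
      refine ih _ _ _ _ ⟨_, k1, k2⟩ ?_ (e1 _ ▸ Set.insert_subset ⟨_, k1, ?_⟩ h2)
      · rw [e1, Set.ncard_insert_of_notMem (by simp [hb]) ((Set.toFinite _).subset h2)]
        omega
      · simp only [← k2, Function.leftInverse_invFun inj _]
    · exact ih _ _ _ _ ⟨_, k1, k2⟩ h1 h2

theorem Model.card_centralizer_le {φ : G →* Equiv.Perm ℕ} {n : ℕ} (h : Valid N nets) {g : ℕ → G}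
    (hφ : Lift φ g nets) {hs : List (List ℕ)} (hM : Model φ (gen g hs) n) {b : ℕ} (hN : N ≤ 2 ^ b)
    {w : List ℕ} (hw : ev g w ∈ gen g hs) {d k P C l s r : ℕ}
    (hc : (force (mvM nets N b w) fun m => hasCard d (Nat.xor (Nat.pred (Nat.pow 2 n)) m) k &&
      Nat.ble s (walk nets hs P C l (Nat.xor m r) r 0 0)) = true) :
    s * Nat.card (Subgroup.centralizer {ev g w}) ≤ k * Nat.card (gen g hs) := by
  have := hM.finite
  rw [force_eq, Bool.and_eq_true, Nat.ble_eq] at hc
  have e := h.bits_mvM hN w
  rw [← hφ.ev] at e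
  have h1 := hc.2.trans (h.walk_le hφ hs _ P C l _ r 0 0 ⟨_, self_mem_cls _ _,
    (congrArg bits (Nat.xor_xor_cancel_right _ r)).trans e⟩ (Nat.zero_le _) fun p hp => by simp at hp)
  have h2 := card_eq_ncard_orbit_mul ((Subgroup.centralizer {ev g w}).map φ) 0
  have h3 : (Subgroup.centralizer {ev g w}).map φ ⊓ MulAction.stabilizer _ 0 =
      (gen g hs ⊓ Subgroup.centralizer {ev g w}).map φ := by
    ext y
    simp only [Subgroup.mem_inf, Subgroup.mem_map, MulAction.mem_stabilizer_iff, hM.stab]
    exact ⟨fun ⟨⟨x, a, b⟩, c⟩ => ⟨x, ⟨b ▸ c, a⟩, b⟩, fun ⟨x, ⟨a, b⟩, c⟩ => ⟨⟨x, b, c⟩, c ▸ a⟩⟩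
  rw [h3, Subgroup.card_map_of_injective hM.inj, Subgroup.card_map_of_injective hM.inj] at h2
  have h4 : (MulAction.orbit ((Subgroup.centralizer {ev g w}).map φ) 0).ncard ≤ k := by
    rw [← ncard_bits hc.1]
    refine Set.ncard_le_ncard ?_ ((Set.finite_Iio n).subset fun p hp => ?_)
    · rintro _ ⟨⟨_, x, hx, rfl⟩, rfl⟩
      have : φ x 0 ∉ bits (mvM nets N b w) := by
        rw [e, Set.mem_setOf_eq, not_not, ← Equiv.Perm.mul_apply, ← map_mul,
          ← Subgroup.mem_centralizer_singleton_iff.1 hx, map_mul, Equiv.Perm.mul_apply,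
          (hM.stab _).1 hw]
      show (2 ^ n - 1 ^^^ mvM nets N b w).testBit (φ x 0) = true
      simpa [mem_bits, hM.lt x hM.pos] using this
    · by_contra k
      have : p ∉ bits (mvM nets N b w) := by
        rw [e, Set.mem_setOf_eq, not_not, hM.fix _ _ (not_lt.1 k)]
      have hp : (2 ^ n - 1 ^^^ mvM nets N b w).testBit p = true := hp
      simp [mem_bits, Set.mem_Iio] at this k
      simp [this, k] at hp
      omega
  rw [h2, ← ncard_cls_mul (gen g hs) (ev g w), mul_left_comm]
  exact Nat.mul_le_mul h4 (Nat.mul_le_mul_right _ h1)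

end CL.Net

namespace CL.A10.Hd

open CL.K CL.CE CL.Net CL.He Cfsg.Spor Subgroup

def WH : List (List ℕ) := [[4, 6], [0, 4, 3, 2, 3, 2, 5, 0, 3, 5, 4, 5, 3, 0, 5, 2, 3, 2, 3], [1, 4], [0, 6, 3, 2, 3, 2, 5, 0, 3, 5, 4, 5, 3, 0, 5, 2, 3, 2, 3, 6, 3, 2, 3, 2, 5, 0, 3, 5, 4, 5, 3, 0, 5, 2, 3, 2, 3], [1, 2, 6, 3, 1, 2, 6, 3, 2, 3, 2, 4, 2, 3, 2, 3, 6, 2, 1, 3, 2], [0, 2]]

noncomputable def EH : List (List ℕ × List ℕ) := (substW WH wz, [4]) ::
  relEqs (([[0, 0], [1, 1], [2, 2], [3, 3], [4, 4], [5, 5]] ++ RH).map (substW WH))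

theorem chkEH : chkX nets0 2304 12 (Nat.pow 3 1400) EH = true := by decide +kernel

def walkC : ℕ := 0xd185984a30a8e171a4538d431c3138d431aa9c6d228c71271228b48a85229948a855ce04086088182c34182c34204184207141142c38c340864140864142070430470440862060870441881822062040884166110c4c38182a06204235046a03047044088085047045043044182188590cb4196194c38c34088084416414207141144202204203044088414207044207044086084188184088414c82c841881842220a2182202c34206202206a08a04182184190602826418138630598582130e06822c38c34206204416088182c35043146610614084086084188184188c34084416414086084084c32184088188084182c388a82110204320a71a04304451821840b0d06206106982182a341342062040b0e04630e181a80850462022062051a8e17182cc6594538238138d08e28a18e18508888110590610c10d184431906021062060881c11021821070c41881a69c6a08d40815082c10a08e08587030a108110a2c109c71140864142088a61c6190c21031028e18c20c40c34235046a02188c34188c32188184e3ad081880b0e061080c1106230d02182130e30d022021021821410c1102190502182130e060b8c471081410881880c1106828182e351c11c51c4c38c322071450c6084182c3841608283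09865870b20b2832c33010c82834c35020c10c20c461a0c461a04420a1011021038218e08e20442a088b4440445018226191038210c210171871a61c0c20c161c4c27028235028c10c26190c40c14c208a0c40c286386230b86282271971a8e17182cc2ca0c82a18c18d44421010c11010c271a1010c83186532840440c83082811082c83010a384388c20c2e18218830430987186831186a30e30830430d08d14e08e02e30e35184c32130e30cb8c471081a61a8130c862060b0d06130e30cc7047106086828182184418087042204188c344180860884150c10c60884168c42045081881411880c11881a11a10311451c2e34188d342041828861a7027110e210310264164404344204211a85410c11c10c1228e18e28d32e32c38cc71a88a70229c42022040880c4c40608ca2a229c68a2d08e88e228b42341a2d189821a8514209943134614614d431c3143224546a230a2e36aa2cc2c951431266148a71a86386271a85c6d54e24518938518e2a9c48a2e34a35514ca4542aa71b55189c2aa2d17129930430830431186430810840608e180c2810ca20a3186430a08608840840e08608e08811010a08440e08440810830810831030440e08834c35030a086088308406381c6831186431030810c83110c82a08e08830435082c10810c11186430810831186834c345870a20a2c10a08e088110108404409870305871868309870304408110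10840c40431030810c82830438844e08846a38238608e08810d10830531030818e21038227022c33031018c342040864151c4cb0598590594206204182c38c34188984204e28e18c20c40c18e08e20614c38184c38184207044206635028a342345404320a0c831305870261961c04320a8608631082990590a38638810c82997187197030883010c11082986430a18c10d404320a0c10c34e088a0c10c34e042062028a1028d18c204404330a61a30a11a0c14538d428a1031010840c40840c408461a1018238221130d11038a08a28210c40440842a060b4d38146530cb0e209821868a7198e282265c65a6582cc2c82ca3108d388a71383285a66348a663594c0c4188c32188c34182c34634c381021905080c1104d11010810810840c40840c40422cb4502234cb0d08088198443130c86210590508590594204628e08e182310215a28b4d14628621011104e084409a8508188822e30e342062041851a61a85109c25465189e0840e08440c408406088304308408441182310182210282311044310308470465868406089868a1130d11031011020c40c28e08e15038244e840842022264184128310308404408188311a6431186830430840e08810c108b0a346345062060c11881185411821881821305150430460c1106202230d021105821062060a0a06204c1b0450462030470442050422070440c41881868508a6202204d38ac21388568a05320a08a1031010c461a8414e214228862061430a7134622830a344145141845945a88a30d0ca299ca669a85b48a31228c5542d431a4542da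

theorem chkWalk : (force (mvM nets0 2304 12 [4]) fun m =>
    hasCard 7 (Nat.xor (Nat.pred (Nat.pow 2 2058)) m) 42 &&
      Nat.ble 3825 (walk nets0 hs 634023 walkC 4179 (Nat.xor m (Nat.pow 3 1400)) (Nat.pow 3 1400) 0 0)) = true := by decide +kernel

theorem exists_St_He : Nonempty (St He) := by
  have h := lift.ev_eq model.inj (valid0.eq_of_chkX (by norm_num) chkEH)
  have e : ev (subst g WH) wz = ev g [4] := ev_substW g WH wz ▸ h _ List.mem_cons_self
  have r : ∀ w ∈ [[0, 0], [1, 1], [2, 2], [3, 3], [4, 4], [5, 5]] ++ RH, ev (subst g WH) w = 1 :=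
    fun w hw => ev_substW g WH w ▸ rel_of_eqs (fun x hx => h x (List.mem_cons_of_mem _ hx)) _
      (List.mem_map_of_mem hw)
  refine ⟨(exists_St_of_pres (g := subst g WH) ⟨fun a => ?_,
    fun w hw => r w (List.mem_append_right _ hw)⟩ ?_ ?_).choose⟩
  · by_cases ha : a < 6
    · have := r [a, a] (List.mem_append_left _ (by interval_cases a <;> decide))
      rw [ev_cons, ev_singleton] at this
      exact eq_inv_of_mul_eq_one_left this
    · rw [id, subst, List.getD_eq_default _ _ (Nat.le_of_not_lt ha), ev_nil, inv_one]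
  · rw [e]; exact lift.ne_one valid0 1 (by decide +kernel)
  · have := model.card_centralizer_le valid0 lift (b := 12) (by decide) (ev_mem_gen (by decide)) chkWalk
    rw [card_H] at this
    rw [e]; omega

end CL.A10.Hd
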