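import Cfsg.Agent.SPOR.A10.HeAct

/-!
Codes for the extraspecial group of order `2^7` in `H0`, and the search for the involutions
of its outer automorphism group generating `SL(3,2)` with a given element of order 7.
-/

set_option autoImplicit false
set_option maxRecDepth 100000

namespace CL.A10.Hd

open CL.K CL.CG

/-- product in the extraspecial group -/
noncomputable def qm (a b : ℕ) : ℕ := force a fun a => force b fun b =>
  Nat.xor (Nat.xor a b) (Nat.mul 64 (bit 150 (Nat.land (Nat.land a 7) (Nat.shiftRight b 3))))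

/-- commutator -/
def pr (a b : ℕ) : ℕ := Nat.xor (bit 150 (Nat.land (Nat.land a 7) (Nat.shiftRight b 3)))
  (bit 150 (Nat.land (Nat.land b 7) (Nat.shiftRight a 3)))

/-- matrix code of an index -/
noncomputable def qc (i : ℕ) : ℕ := force i fun i =>
  Nat.add one (Nat.add (Nat.mul 32 (bit i 0)) (Nat.add (Nat.mul 1024 (bit i 1))
    (Nat.add (Nat.mul 32768 (bit i 2)) (Nat.add (Nat.mul 2097152 (Nat.land (Nat.shiftRight i 3) 7))
      (Nat.mul 1048576 (bit i 6))))))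

/-- index of a matrix code -/
noncomputable def qi (x : ℕ) : ℕ := force x fun x =>
  Nat.add (bit x 5) (Nat.add (Nat.mul 2 (bit x 10)) (Nat.add (Nat.mul 4 (bit x 15))
    (Nat.add (Nat.mul 8 (Nat.land (Nat.shiftRight x 21) 7)) (Nat.mul 64 (bit x 20)))))

/-- image under the endomorphism with given images of the generators -/
noncomputable def bq (y0 y1 y2 y3 y4 y5 i : ℕ) : ℕ := force i fun i =>
  qm (Nat.mul (bit i 6) 64) (qm (Nat.mul (bit i 3) y3) (qm (Nat.mul (bit i 4) y4)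
    (qm (Nat.mul (bit i 5) y5) (qm (Nat.mul (bit i 0) y0)
      (qm (Nat.mul (bit i 1) y1) (Nat.mul (bit i 2) y2))))))

/-- the same modulo the centre -/
noncomputable def ln (y0 y1 y2 y3 y4 y5 i : ℕ) : ℕ := force i fun i =>
  Nat.xor (Nat.mul (bit i 3) y3) (Nat.xor (Nat.mul (bit i 4) y4)
    (Nat.xor (Nat.mul (bit i 5) y5) (Nat.xor (Nat.mul (bit i 0) y0)
      (Nat.xor (Nat.mul (bit i 1) y1) (Nat.mul (bit i 2) y2)))))

/-- an element of order 7 -/
abbrev c0 : ℕ := 16982145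

/-- its action -/
def gm (i : ℕ) : ℕ := fld 7 127 0xddb7569dfb35e8fdf7d79fff3df89d365499f325c8bd76d59bf72dd8edd7971efd39f0cd97161cf931e0ad56951af529d08d161418f121c05cb55295eb15a87cf5d397ef1db81c345091e305883c74d193e70d986cd59316ed19b04c951214e911a02c549112e509900c141010e10180 i

/-- iterates -/
noncomputable def itr (n i : ℕ) : ℕ := Nat.rec (motive := fun _ => ℕ) i (fun _ ih => gm ih) n

theorem chkQ1 : allLt (fun i => force (qc i) fun x => vB x && Nat.beq (qi x) i &&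
    blt (gm i) 128 && Nat.beq (mul c0 x) (mul (qc (gm i)) c0) &&
    Nat.beq (gm (Nat.mod i 64)) (Nat.mod (gm i) 64) && Nat.beq (itr 7 i) i &&
    Nat.beq (bq 1 2 4 8 16 32 i) i && (Nat.beq (qm i i) 0 || Nat.beq (qm i i) 64) &&
    Nat.beq (qm i 64) (Nat.xor i 64) &&
    allLt (fun a => force (mul (lc a) (mul x (lc a))) fun y => Nat.beq (qc (qi y)) y) 6 &&
    allLt (fun j => force (qm i j) fun k => blt k 128 && Nat.beq (mul x (qc j)) (qc k) &&
      Nat.beq (Nat.mod k 64) (Nat.xor (Nat.mod i 64) (Nat.mod j 64)) &&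
      Nat.beq (pr (Nat.mod i 64) (Nat.mod j 64)) (pr i j) &&
      (Nat.beq (pr i j) 0 && Nat.beq k (qm j i) ||
        Nat.beq (pr i j) 1 && Nat.beq k (qm (qm j i) 64) && !Nat.beq k (qm j i))) 128) 128 = true := by
  decide +kernel

theorem chkQ2 : allH (fun x => imp (allLt (fun k => cm x (qc (Nat.pow 2 k))) 6)
    (Nat.beq x one || Nat.beq x zc)) = true := by decide +kernel

/-- packed table -/
noncomputable def tab (f : ℕ → ℕ) : ℕ := sumLt (fun j => Nat.shiftLeft (f j) (Nat.mul 7 j)) 128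

/-- the properties of the action of an involution -/
noncomputable def gd (um T : ℕ) : Bool := force T fun T =>
  Nat.beq (sumLt (fun i => ind (fld 7 127 T i) i) 128) 16 &&
  allLt (fun d => imp (Nat.beq (fld 7 127 T d) d && Nat.beq (qm d d) 0 && !Nat.beq (Nat.mod d 64) 0)
    (imp (allLt (fun b => imp (Nat.beq (fld 7 127 T b) b) (Nat.beq (pr b d) 0)) 128)
      (anyLt (fun q => Nat.beq (fld 7 127 T q) (qm d q)) 128) &&
    allLt (fun e => imp (Nat.beq (pr e d) 0 && Nat.beq (qm e e) 0)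
      (force (qm e (fld 7 127 T e)) fun s => Nat.beq (Nat.land s um) 0 ||
        Nat.beq (Nat.mod d 64) (Nat.mod s 64) || !Nat.beq (qm s s) 0)) 128)) 128

theorem chkQ3 : allLt (fun i => force (mul (lc 1) (qc i)) fun h => imp (Nat.beq (mul h h) zc)
    (force (ivc h) fun hi => gd 63 (tab fun j => qi (mul h (mul (qc j) hi))))) 128 = true := by
  decide +kernel

theorem chkQ4 : [56, 7].all (fun um => Nat.beq (sumLt (fun i => ind (Nat.land i um) 0) 128) 16 &&
    allLt (fun i => imp (Nat.beq (Nat.land i um) 0) (Nat.beq (Nat.land (gm i) um) 0 &&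
      allLt (fun j => Nat.beq (Nat.land (qm (qm j i) (qm j (qm j j))) um) 0 &&
        imp (Nat.beq (Nat.land j um) 0 && !Nat.beq (Nat.mod i 64) 0 && !Nat.beq (Nat.mod j 64) 0)
          (anyLt (fun m => Nat.beq (Nat.mod (itr m i) 64) (Nat.mod j 64)) 7)) 128)) 128) = true := by
  decide +kernel

/-- all choices of signs -/
noncomputable def sg (v0 v1 v2 v3 v4 v5 : ℕ) (p : ℕ → ℕ → ℕ → ℕ → ℕ → ℕ → Bool) : Bool :=
  allLt (fun s0 => force (Nat.add v0 (Nat.mul 64 s0)) fun y0 =>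
  allLt (fun s1 => force (Nat.add v1 (Nat.mul 64 s1)) fun y1 =>
  allLt (fun s2 => force (Nat.add v2 (Nat.mul 64 s2)) fun y2 =>
  allLt (fun s3 => force (Nat.add v3 (Nat.mul 64 s3)) fun y3 =>
  allLt (fun s4 => force (Nat.add v4 (Nat.mul 64 s4)) fun y4 =>
  allLt (fun s5 => force (Nat.add v5 (Nat.mul 64 s5)) fun y5 => p y0 y1 y2 y3 y4 y5) 2) 2) 2) 2) 2) 2

/-- the automorphism is induced by an element of `H0` -/
noncomputable def fB (y0 y1 y2 y3 y4 y5 : ℕ) : Bool :=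
  force (Hc (Nat.mul 2 (Nat.land (Nat.shiftRight y3 3) 7)) (Nat.mul 2 (Nat.land (Nat.shiftRight y4 3) 7))
    (Nat.mul 2 (Nat.land (Nat.shiftRight y5 3) 7)) 0) fun h => vB h &&
  anyLt (fun j => force (mul h (qc j)) fun g => [(1, y0), (2, y1), (4, y2), (8, y3), (16, y4), (32, y5)].all
    fun t => Nat.beq (mul g (qc t.1)) (mul (qc t.2) g)) 64

/-- the automorphism is good if it is an involution -/
noncomputable def fA (um y0 y1 y2 y3 y4 y5 : ℕ) : Bool :=
  imp ([(1, y0), (2, y1), (4, y2), (8, y3), (16, y4), (32, y5)].all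
    fun t => Nat.beq (bq y0 y1 y2 y3 y4 y5 t.2) t.1) (gd um (tab (bq y0 y1 y2 y3 y4 y5)))

/-- final test -/
noncomputable def leaf (v0 v1 v2 v3 v4 v5 : ℕ) : Bool :=
  imp ([1, 2, 4, 8, 16, 32].all fun k => Nat.beq (ln v0 v1 v2 v3 v4 v5 (gm (ln v0 v1 v2 v3 v4 v5
    (gm (ln v0 v1 v2 v3 v4 v5 (gm k)))))) k)
  (sg v0 v1 v2 v3 v4 v5 fB || [56, 7].any fun um =>
    allLt (fun i => imp (Nat.beq (Nat.land i um) 0)
      (Nat.beq (Nat.land (ln v0 v1 v2 v3 v4 v5 i) um) 0)) 64 && sg v0 v1 v2 v3 v4 v5 (fA um))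

/-- compatibility of two images -/
def ok2 (a b x y : ℕ) : Bool := Nat.beq (pr x b) (pr a y) && Nat.beq (pr x y) (pr a b)

/-- an involution -/
noncomputable def ok1 (x : ℕ) : Bool := Nat.beq (qm x x) 0

theorem chkSr : allLt (fun v0 => imp (ok1 v0) (allLt (fun v1 => imp (ok2 1 2 v0 v1 && ok1 v1)
    (allLt (fun v2 => imp (ok2 1 4 v0 v2 && (ok2 2 4 v1 v2 && ok1 v2))
    (allLt (fun v3 => imp (ok2 1 8 v0 v3 && (ok2 2 8 v1 v3 && (ok2 4 8 v2 v3 && ok1 v3)))
    (allLt (fun v4 => imp (ok2 1 16 v0 v4 && (ok2 2 16 v1 v4 && (ok2 4 16 v2 v4 &&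
      (ok2 8 16 v3 v4 && ok1 v4))))
    (allLt (fun v5 => imp (ok2 1 32 v0 v5 && (ok2 2 32 v1 v5 && (ok2 4 32 v2 v5 &&
      (ok2 8 32 v3 v5 && (ok2 16 32 v4 v5 && ok1 v5)))))
      (leaf v0 v1 v2 v3 v4 v5)) 64)) 64)) 64)) 64)) 64)) 64 = true := by
  decide +kernel

end CL.A10.Hd
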