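import Cfsg.Agent.SPOR.A10.HeCode
import Cfsg.Agent.SPOR.A10.HeGen
import Cfsg.Agent.SPOR.CEPres

/-!
Groups with an involution whose centraliser is `H0`: the set-up, the Sylow subgroup `T`.
-/

set_option autoImplicit false
set_option maxRecDepth 100000

namespace CL.A10.Hd

open CL.K CL.CG CL.CE Subgroup

/-- lazy implication -/
noncomputable def imp (a b : Bool) : Bool := Bool.rec true b a

theorem imp_iff {a b : Bool} : imp a b = true ↔ (a = true → b = true) := by
  cases a <;> simp [imp]

theorem imp_mp {a b : Bool} (h : imp a b = true) (ha : a = true) : b = true := imp_iff.1 h ha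

/-- mask test -/
def mk (M W x : ℕ) : Bool := Nat.beq (Nat.land x M) W

/-- all codes of `H0` -/
noncomputable def allH (p : ℕ → Bool) : Bool :=
  allLt (fun a => allLt (fun b => allLt (fun c =>
    imp (dt a b c) (allLt (fun d => force (Hc a b c d) p) 16)) 16) 16) 16

theorem allH_spec {p : ℕ → Bool} (h : allH p = true) {x : ℕ} (hx : V x) : p x = true := by
  obtain ⟨e, hd⟩ := vB_iff.1 (V_iff.1 hx)
  have := allLt_iff.1 (imp_mp (allLt_iff.1 (allLt_iff.1 (allLt_iff.1 h _ (col_lt x 32)) _
    (col_lt x 1024)) _ (col_lt x 32768)) hd) _ (col_lt x 1048576)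
  rwa [force_eq, e] at this

/-- upper unitriangular -/
def tB (x : ℕ) : Bool := mk 17593311 one x

/-- all codes of `T` -/
noncomputable def allT (p : ℕ → Bool) : Bool :=
  allLt (fun a => allLt (fun b => allLt (fun c => allLt (fun d =>
    force (Hc (Nat.add 2 a) (Nat.add 4 b) (Nat.add 8 c) d) p) 16) 8) 4) 2

/-- second column trivial: the centraliser of `e₂₅` -/
def kB (x : ℕ) : Bool := mk 480 64 x

/-- all codes of `K` -/
noncomputable def allK (p : ℕ → Bool) : Bool :=
  allLt (fun b => allLt (fun c => imp (dt 2 b c) (allLt (fun d => force (Hc 2 b c d) p) 16)) 16) 16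

/-- index of the middle block -/
noncomputable def midx (x : ℕ) : ℕ := mid (col x 32) (col x 1024) (col x 32768)

/-- block diagonal matrix -/
noncomputable def Lm (m : ℕ) : ℕ :=
  Hc (Nat.mul 2 (Nat.mod m 8)) (Nat.mul 2 (Nat.mod (Nat.div m 8) 8)) (Nat.mul 2 (Nat.div m 64)) 0

/-- field of width 25 -/
def gt (L j : ℕ) : ℕ := fld 25 33554431 L j

def LI : ℕ := 0x20e5303011981829cc0c0c260400000000000000000041cc5040000010130c18298e0800000206608200000000000040865060451820000000000004082706047082000000000000418e5060c538200000000000041823060c308200000000000040c45040000010111c182886080000020e20820000000000000000002065103013881828c40c1c22040000000000000000000000000000000000000000000000000000000000000000000000000020e3303012981819cc0c14260400000000000000000000000000000000000000000000000000000000000000838ca080000000000010128c100000041427060670820000008118a080000020461820000008118e08000002046082000000819ca080000000000010129c100000041423060e30820000008308a080000020c238200000083086080000020c20820000000000000000002067103012881838c40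c1422040000000000000000000000000000000000000000000000000000000000000000000041cc3040000010131418198e080000020a6082000000839460800000000000101194100000040c27060a7082000000000000000000000000000000000000000000000000000000008114c0c086604000000000000811cc0c0826040000000000008194e0800000000000101394100000041c23060a308200000000000040c470400000101114183886080000020a2082000000831440c18e204000000000000830c40c18220400000000000000000000000000000000000000000000000000000000000000000000410a306083282000000000000410270608708200000082186080000020862820000008218e08000002086082000000820cc0c10a604000000000000821cc0c10260400000000000000000000000000000000000000000000000000000000000000000000410a70608728200000000000041023060830820000008208e080000020822820000008208608000002082082000000821c40c10a204000000000000820c40c10220400000000000000000000000000000000000000000000000000000000000000000000418e3060c338200000000000041825060c5082000000829c6080000000000010119c100000040c25060e5082000000828ce080000000000010138c100000041c25060650820000000000004086706047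1820000000000004082506045082000000000000000000000000000000000000000000000000000000008288c0c0c46060e23030111810000000000000000000000000829840c1cc20606610301308100000000000000000000000000000000000000000000000000000000000000000000000000000000041483040000010121c18190a080000020e408200000083106080000020c43820000008310a080000020c408200000000000041487040000010120c18390a080000020640820000008110e080000020441820000008110a080000020440820000008190c0c1486060e4303012181000000000000000000000000000000000000000000000000000000000000000000000000000839040c14820606410301208100000000000000000000000000000000000000000000000000000000000000000000000000000000000000020a3203013901819480c1c240400000000000000000000000020a7203011901839480c0c2404000000000000830c80c18e404000000000000831480c182404000000000000811c80c086404000000000000811480c082404000000000000819880c1cc4060a62030131010000000000000000000000000838880c0c44060a2203011101000000000000000000000000000000000000000000000000000000000000000000000000000000000000000000000000000000000000000000000000000000000000000000000000000000000000000000000000000000000000000000000000000000000000000000000000000000000000000000000000000000000000000000000000000000000000000000000000000000000000000000000000000000000000000000000000000000000000000000000000000000000000000000000000000000000000000000000000000000000000000000000000000000000000000000000000000000000000000000000000000000000000000000000000000000000000000000000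

def LW : ℕ := 0xfcab0dfca86cffa855ff950d000000000000000000fca32c000000ff946cff9465000000fff28d000000000000ff952cfff2ac000000000000fff2a5fffe55000000000000ff9b2aff9565000000000000fffe54ffffca000000000000fca961000000fca365fff28c000000fffe51000000000000000000ff9561fca361fff50afff2a1000000000000000000000000000000000000000000000000000000000000000000000000ffab0dffa86cfff50dffa30d000000000000000000000000000000000000000000000000000000000000ffa32c000000000000fff46c000000fff465fffe8d000000fff52c000000fffeac000000fffea5000000ffffd5000000ffa961000000000000ffa365000000fffe8cffffd1000000fffb2a000000fff565000000ffffd4000000fffffa000000000000000000fff561ffa361fffea1fff461000000000000000000000000000000000000000000000000000000000000000000ffd454000000fe146cffc28d000000fffa8a000000ffa2ac000000000000fd152c000000ffa2a5fff455000000000000000000000000000000000000000000000000000000ffc2acfcc2ac000000000000fff855ff9855000000000000fd1565000000000000fd1b2a000000fff454fffe8a000000000000fea2a5000000e51b2afff851000000fff28a000000fffb0aff9b0a000000000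000ffff0afff30a000000000000000000000000000000000000000000000000000000000000000000fffe6cfff32c000000000000fffe65ffffcd000000ffffec000000ffff2c000000ffffe5000000fffffd000000fffb0dfff86c000000000000ffff0dfff30d000000000000000000000000000000000000000000000000000000000000000000fff365fff961000000000000ffffccfffff9000000ffff65000000fff965000000fffffc000000ffffff000000ffff61fff361000000000000ffffe1fffe61000000000000000000000000000000000000000000000000000000000000000000fff354ff9954000000000000fff32afffe6a000000ff9a8c000000000000fd1aa5000000fca951fff351000000fcca8c000000000000ffa354000000ff9951fff46a000000000000ff9aa5ff9554000000000000ff952afff2aa000000000000000000000000000000000000000000000000000000fea855fcd50dfccaa1e6a86c000000000000000000000000ffd50aff9aa1fcaaa1fd1aa1000000000000000000000000000000000000000000000000000000000000000000000000000000fffa8c000000fd4a8cffa951000000ffff51000000ffff54000000fff954000000ffff2a000000ffffea000000000000ffca8c000000ffaa8cfff951000000fff551000000fffaa5000000fff554000000fff52a000000fffeaa000000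ffd50dfe5461ffcaa1fea86c000000000000000000000000000000000000000000000000000000000000000000000000fffaa1ffd461ffaaa1fd5461000000000000000000000000000000000000000000000000000000000000000000000000000000000000fd586afd4354ffa86afcc351000000000000000000000000fe1a8ce54354ffc351fca86a000000000000ffd86affc354000000000000fff86aff986a000000000000fe1554fe1aa5000000000000ffc2aafcc2aa000000000000fea86afe1aa1fe550aea1aa1000000000000000000000000fec351e6a86ae6550a2a1aa1000000000000000000000000000000000000000000000000000000000000000000000000000000000000000000000000000000000000000000000000000000000000000000000000000000000000000000000000000000000000000000000000000000000000000000000000000000000000000000000000000000000000000000000000000000000000000000000000000000000000000000000000000000000000000000000000000000000000000000000000000000000000000000000000000000000000000000000000000000000000000000000000000000000000000000000000000000000000000000000000000000000000000000000000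

theorem chkH : allH (fun x => tB (mul x (gt LI (midx x))) &&
    imp (tB x) (Nat.beq (Nat.div (col x 32) 2) 1 && Nat.beq (Nat.div (col x 1024) 4) 1 &&
      Nat.beq (Nat.div (col x 32768) 8) 1) && imp (kB x) (Nat.beq (col x 32) 2)) = true := by
  decide +kernel

theorem allT_spec {p : ℕ → Bool} (h : allT p = true) {x : ℕ} (hx : V x) (ht : tB x = true) :
    p x = true := by
  have h1 := allH_spec chkH hx
  simp only [Bool.and_eq_true, imp_iff, Nat.beq_eq] at h1
  obtain ⟨⟨h1, h2⟩, h3⟩ := h1.1.2 ht
  change col x 32 / 2 = 1 at h1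
  change col x 1024 / 4 = 1 at h2
  change col x 32768 / 8 = 1 at h3
  have := allLt_iff.1 (allLt_iff.1 (allLt_iff.1 (allLt_iff.1 h (col x 32 - 2) (by omega))
    (col x 1024 - 4) (by omega)) (col x 32768 - 8) (by omega)) _ (col_lt x 1048576)
  rwa [force_eq, show Nat.add 2 (col x 32 - 2) = col x 32 by show 2 + _ = _; omega,
    show Nat.add 4 (col x 1024 - 4) = col x 1024 by show 4 + _ = _; omega,
    show Nat.add 8 (col x 32768 - 8) = col x 32768 by show 8 + _ = _; omega,
    (vB_iff.1 (V_iff.1 hx)).1] at this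

theorem allK_spec {p : ℕ → Bool} (h : allK p = true) {x : ℕ} (hx : V x) (hk : kB x = true) :
    p x = true := by
  have h1 := allH_spec chkH hx
  simp only [Bool.and_eq_true, imp_iff, Nat.beq_eq] at h1
  have h2 := h1.2 hk
  obtain ⟨e, hd⟩ := vB_iff.1 (V_iff.1 hx)
  rw [h2] at e hd
  have := allLt_iff.1 (imp_mp (allLt_iff.1 (allLt_iff.1 h _
    (col_lt x 1024)) _ (col_lt x 32768)) hd) _ (col_lt x 1048576)
  rwa [force_eq, e] at this

theorem V.mul {a b : ℕ} (ha : V a) (hb : V b) : V (mul a b) := isCode.mem_mul ha hb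

theorem V_one : V one := isCode.mem_one _

theorem V_of {a : ℕ} (h : vB a = true) : V a := V_iff.2 h

theorem V.exists {a : ℕ} (h : V a) : ∃ g : H0, cd g = a := by
  obtain ⟨g, hg, e⟩ := h
  exact ⟨⟨g, hg⟩, e⟩

theorem V_cd (g : H0) : V (cd g) := ⟨g, g.2, rfl⟩

theorem not_V_zero : ¬ V 0 := fun h => absurd (V_iff.1 h) (by decide +kernel)

theorem z0_mem : z0 ∈ H0 := mem_H0.2 rfl

/-- codes of the letters `s₁, s₂, s₃, s₄, n₂, n₃` -/
def lc (a : ℕ) : ℕ := gt 0x20860830410c1c20820c184106083083041061 a

theorem V_lc {a : ℕ} (ha : a < 6) : V (lc a) :=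
  V_of ((allLt_iff (p := fun a => vB (lc a)) (n := 6)).1 (by decide +kernel) a ha)

theorem lc_sq {a : ℕ} (ha : a < 6) : mul (lc a) (lc a) = one :=
  Nat.eq_of_beq_eq_true ((allLt_iff (p := fun a => Nat.beq (mul (lc a) (lc a)) one) (n := 6)).1
    (by decide +kernel) a ha)

/-- value of a word -/
noncomputable def wv (w : List ℕ) : ℕ :=
  List.rec (motive := fun _ => ℕ) one (fun a _ ih => mul (lc a) ih) w

/-- value of a packed word -/
noncomputable def wp (c n : ℕ) : ℕ :=
  Nat.rec (motive := fun _ => ℕ) one (fun i ih => force (fld 3 7 c i) fun a =>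
    Bool.rec (motive := fun _ => ℕ) ih (mul (lc a) ih) (blt a 6)) n

/-- product of the `f p` over the set bits `p` of `x` -/
noncomputable def bw (f : ℕ → ℕ) (x : ℕ) (ps : List ℕ) : ℕ :=
  List.rec (motive := fun _ => ℕ) one (fun p _ ih =>
    Bool.rec (motive := fun _ => ℕ) ih (mul (f p) ih) (Nat.beq (bit x p) 1)) ps

theorem bw_ind {P : ℕ → ℕ → Prop} (h1 : P one one)
    (hm : ∀ a a' b b', P a a' → P b b' → P (mul a b) (mul a' b')) {f f' : ℕ → ℕ} (x : ℕ)
    {ps : List ℕ} (h : ∀ p ∈ ps, P (f p) (f' p)) : P (bw f x ps) (bw f' x ps) := by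
  induction ps with
  | nil => exact h1
  | cons p ps ih =>
    have ih := ih fun q hq => h q (List.mem_cons_of_mem _ hq)
    show P (Bool.rec (motive := fun _ => ℕ) (bw f x ps) (mul (f p) (bw f x ps)) (Nat.beq (bit x p) 1))
      (Bool.rec (motive := fun _ => ℕ) (bw f' x ps) (mul (f' p) (bw f' x ps)) (Nat.beq (bit x p) 1))
    cases Nat.beq (bit x p) 1
    · exact ih
    · exact hm _ _ _ _ (h p List.mem_cons_self) ih

/-- elementary transvection at a bit position -/
def et (p : ℕ) : ℕ := Nat.add one (Nat.shiftLeft 1 p)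

/-- A group with an involution whose centraliser is a copy of `H0`. -/
structure St (G : Type*) [Group G] where
  ι : H0 →* G
  inj : Function.Injective ι
  cent : ∀ g, g * ι ⟨z0, z0_mem⟩ = ι ⟨z0, z0_mem⟩ * g → ∃ h, ι h = g

namespace St

variable {G : Type*} [Group G] (S : St G)

/-- element with a given code -/
noncomputable def el (c : ℕ) : G := by
  classical exact if h : V c then S.ι ⟨elt cd c, isCode.elt_mem h⟩ else 1

theorem el_cd (h : H0) : S.el (cd h) = S.ι h := by
  rw [el, dif_pos (V_cd h)]
  exact congrArg S.ι (Subtype.ext (isCode.elt_code _))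

theorem el_of_not {c : ℕ} (h : ¬ V c) : S.el c = 1 := by rw [el, dif_neg h]

theorem el_mul {a b : ℕ} (ha : V a) (hb : V b) : S.el (mul a b) = S.el a * S.el b := by
  obtain ⟨g, rfl⟩ := ha.exists
  obtain ⟨h, rfl⟩ := hb.exists
  rw [isCode.map_mul, el_cd, el_cd, ← map_mul]
  exact S.el_cd (g * h)

theorem el_one : S.el one = 1 := by
  rw [← isCode.map_one, ← map_one S.ι]; exact S.el_cd 1

theorem el_inj {a b : ℕ} (ha : V a) (hb : V b) (h : S.el a = S.el b) : a = b := by
  obtain ⟨g, rfl⟩ := ha.exists
  obtain ⟨k, rfl⟩ := hb.exists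
  rw [el_cd, el_cd] at h
  rw [S.inj h]

theorem el_z : S.el zc = S.ι ⟨z0, z0_mem⟩ := by rw [← cd_z0]; exact S.el_cd ⟨z0, z0_mem⟩

theorem comm_z (c : ℕ) : S.el c * S.el zc = S.el zc * S.el c := by
  by_cases hc : V c
  · obtain ⟨g, rfl⟩ := hc.exists
    rw [el_z, el_cd, ← map_mul, ← map_mul]
    exact congrArg S.ι (Subtype.ext (mem_H0.1 g.2))
  · rw [S.el_of_not hc, one_mul, mul_one]

theorem exists_el {g : G} (h : g * S.el zc = S.el zc * g) : ∃ c, V c ∧ S.el c = g := by
  rw [el_z] at h
  obtain ⟨k, rfl⟩ := S.cent g h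
  exact ⟨_, V_cd k, S.el_cd k⟩

theorem mul_eq {a b c : ℕ} (ha : V a) (hb : V b) (h : mul a b = c) : S.el a * S.el b = S.el c := by
  rw [← h, S.el_mul ha hb]

theorem mul_eq_one {a b : ℕ} (ha : V a) (hb : V b) (h : mul a b = one) : S.el a * S.el b = 1 := by
  rw [S.mul_eq ha hb h, el_one]

theorem mul_iff {a b c d : ℕ} (ha : V a) (hb : V b) (hc : V c) (hd : V d) :
    S.el a * S.el b = S.el c * S.el d ↔ mul a b = mul c d := by
  rw [← S.el_mul ha hb, ← S.el_mul hc hd]
  exact ⟨S.el_inj (ha.mul hb) (hc.mul hd), congrArg _⟩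

theorem mul_iff' {a b c : ℕ} (ha : V a) (hb : V b) (hc : V c) :
    S.el a * S.el b = S.el c ↔ mul a b = c := by
  rw [← S.el_mul ha hb]
  exact ⟨S.el_inj (ha.mul hb) hc, congrArg _⟩

theorem mul_iff_one {a b : ℕ} (ha : V a) (hb : V b) : S.el a * S.el b = 1 ↔ mul a b = one := by
  rw [← S.el_one, S.mul_iff' ha hb V_one]

theorem conj_iff {g a b : ℕ} (hg : V g) (ha : V a) (hb : V b) :
    S.el g * S.el a * (S.el g)⁻¹ = S.el b ↔ mul g a = mul b g := by
  rw [mul_inv_eq_iff_eq_mul, S.mul_iff hg ha hb hg]

theorem el_ne_one {a : ℕ} (ha : V a) (h : a ≠ one) : S.el a ≠ 1 :=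
  fun e => h (S.el_inj ha V_one (e.trans S.el_one.symm))

theorem el_lc_sq (a : ℕ) : S.el (lc a) * S.el (lc a) = 1 := by
  by_cases ha : a < 6
  · exact S.mul_eq_one (V_lc ha) (V_lc ha) (lc_sq ha)
  · have : lc a = 0 := by
      rw [lc, gt, fld_eq, Nat.shiftRight_eq_div_pow, Nat.div_eq_of_lt, Nat.zero_and]
      exact lt_of_lt_of_le (by norm_num) (Nat.pow_le_pow_right two_pos (show 150 ≤ 25 * a by omega))
    rw [this, S.el_of_not not_V_zero, one_mul]

theorem wv_spec {g : ℕ → G} (hg : ∀ a < 6, g a = S.el (lc a)) {w : List ℕ} (hw : ∀ a ∈ w, a < 6) :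
    V (wv w) ∧ ev g w = S.el (wv w) := by
  induction w with
  | nil => exact ⟨V_one, S.el_one.symm⟩
  | cons a w ih =>
    obtain ⟨h1, h2⟩ := ih fun b hb => hw b (List.mem_cons_of_mem _ hb)
    have ha := hw a List.mem_cons_self
    exact ⟨(V_lc ha).mul h1, by rw [ev_cons, h2, hg a ha, ← S.el_mul (V_lc ha) h1]; rfl⟩

theorem wv_mem {K : Subgroup G} {w : List ℕ} (hw : ∀ a ∈ w, a < 6 ∧ S.el (lc a) ∈ K) :
    V (wv w) ∧ S.el (wv w) ∈ K := by
  obtain ⟨h1, h2⟩ := S.wv_spec (g := fun a => S.el (lc a)) (fun _ _ => rfl) fun a ha => (hw a ha).1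
  exact ⟨h1, h2 ▸ ev_mem fun a ha => (hw a ha).2⟩

theorem wp_mem {K : Subgroup G} (hK : ∀ a < 6, S.el (lc a) ∈ K) (c n : ℕ) :
    V (wp c n) ∧ S.el (wp c n) ∈ K := by
  induction n with
  | zero => exact ⟨V_one, S.el_one ▸ K.one_mem⟩
  | succ n ih =>
    have e : wp c (n + 1) = Bool.rec (motive := fun _ => ℕ) (wp c n)
        (mul (lc (fld 3 7 c n)) (wp c n)) (blt (fld 3 7 c n) 6) :=
      force_eq _ fun a => Bool.rec (motive := fun _ => ℕ) (wp c n) (mul (lc a) (wp c n)) (blt a 6)
    rw [e]
    cases h : blt (fld 3 7 c n) 6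
    · exact ih
    · have ha := lt_of_blt h
      exact ⟨(V_lc ha).mul ih.1, by
        rw [S.el_mul (V_lc ha) ih.1]; exact K.mul_mem (hK _ ha) ih.2⟩

theorem bw_mem {K : Subgroup G} {f : ℕ → ℕ} (x : ℕ) {ps : List ℕ}
    (h : ∀ p ∈ ps, V (f p) ∧ S.el (f p) ∈ K) : V (bw f x ps) ∧ S.el (bw f x ps) ∈ K :=
  bw_ind (P := fun a _ => V a ∧ S.el a ∈ K) (f' := f) ⟨V_one, S.el_one ▸ K.one_mem⟩
    (fun _ _ _ _ ha hb => ⟨ha.1.mul hb.1, by rw [S.el_mul ha.1 hb.1]; exact K.mul_mem ha.2 hb.2⟩) x h

/-- induction over the subgroup generated by some letters -/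
theorem closure_ind {L : Set ℕ} (hL : ∀ a ∈ L, a < 6) {p : ℕ → Prop} (h1 : p one)
    (hs : ∀ a ∈ L, ∀ x, V x → p x → p (mul (lc a) x)) {g : G}
    (hg : g ∈ closure ((fun a => S.el (lc a)) '' L)) : ∃ x, V x ∧ p x ∧ S.el x = g := by
  induction hg using closure_induction_left with
  | one => exact ⟨one, V_one, h1, S.el_one⟩
  | mul_left _ hx _ _ ih =>
    obtain ⟨a, ha, rfl⟩ := hx
    obtain ⟨x, h1, h2, rfl⟩ := ih
    exact ⟨_, (V_lc (hL a ha)).mul h1, hs a ha x h1 h2, S.el_mul (V_lc (hL a ha)) h1⟩
  | inv_mul_cancel _ hx _ _ ih =>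
    obtain ⟨a, ha, rfl⟩ := hx
    obtain ⟨x, h1, h2, rfl⟩ := ih
    exact ⟨_, (V_lc (hL a ha)).mul h1, hs a ha x h1 h2, by
      rw [S.el_mul (V_lc (hL a ha)) h1, inv_eq_of_mul_eq_one_right (S.el_lc_sq a)]⟩

/-- the Sylow subgroup -/
def T : Subgroup G := closure ((fun a => S.el (lc a)) '' Set.Iio 4)

/-- the centraliser of `z` -/
def H : Subgroup G := centralizer {S.el zc}

theorem mem_H {g : G} : g ∈ S.H ↔ g * S.el zc = S.el zc * g := mem_centralizer_singleton_iff

theorem el_mem_H (c : ℕ) : S.el c ∈ S.H := S.mem_H.2 (S.comm_z c)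

end St

/-- words for the elementary transvections -/
def EW : List (ℕ × List ℕ) := [(20, [0, 1, 2, 3, 2, 1, 0, 1, 2, 3, 2, 1]), (21, [1, 2, 3, 2, 1, 2, 3, 2]), (22, [2, 3, 2, 3]), (23, [3]), (15, [0, 1, 2, 1, 0, 1, 2, 1]), (16, [1, 2, 1, 2]), (17, [2]), (10, [0, 1, 0, 1]), (11, [1]), (5, [0])]

theorem chkT1 : allT (fun x => allLt (fun a => tB (mul (lc a) x)) 4 &&
    Nat.beq (bw et x (EW.map Prod.fst)) x &&
    force (mul x x) (fun y => force (mul y y) fun y => Nat.beq (mul y y) one) &&
    imp (allLt (fun a => Nat.beq (mul (lc a) x) (mul x (lc a))) 4)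
      (Nat.beq x one || Nat.beq x zc)) = true := by decide +kernel

theorem chkEW : EW.all (fun pw => Nat.beq (wv pw.2) (et pw.1) && pw.2.all fun a => blt a 4) = true := by
  decide +kernel

theorem chkL : allLt (fun m => imp (Nat.beq (bit DM m) 1) (force (gt LI m) fun li =>
    force (Lm m) fun l => vB li && Nat.beq (mul li l) one && Nat.beq (wp (fld 24 16777215 LW m) 8) l &&
      imp (tB (mul l (mul (lc 1) li)) && tB (mul l (mul (lc 2) li))) (tB l))) 512 = true := by
  decide +kernel

namespace St

variable {G : Type*} [Group G] (S : St G)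

theorem lc_mem_T {a : ℕ} (ha : a < 4) : S.el (lc a) ∈ S.T := subset_closure ⟨a, ha, rfl⟩

theorem el_mem_T {x : ℕ} (hx : V x) (ht : tB x = true) : S.el x ∈ S.T := by
  have h := allT_spec chkT1 hx ht
  simp only [Bool.and_eq_true, Nat.beq_eq] at h
  rw [← h.1.1.2]
  refine (S.bw_mem x fun p hp => ?_).2
  obtain ⟨pw, hpw, rfl⟩ := List.mem_map.1 hp
  have := List.all_eq_true.1 chkEW pw hpw
  simp only [Bool.and_eq_true, Nat.beq_eq, List.all_eq_true] at this
  rw [← this.1]
  exact S.wv_mem fun a ha => ⟨(lt_of_blt (this.2 a ha)).trans (by norm_num),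
    S.lc_mem_T (lt_of_blt (this.2 a ha))⟩

theorem exists_T {g : G} (hg : g ∈ S.T) : ∃ x, V x ∧ tB x = true ∧ S.el x = g :=
  S.closure_ind (fun a (ha : a < 4) => ha.trans (by norm_num)) (p := fun x => tB x = true)
    (by decide +kernel) (fun a ha x hx ht => by
      have h := allT_spec chkT1 hx ht
      simp only [Bool.and_eq_true, allLt_iff] at h
      exact h.1.1.1 a ha) hg

theorem tB_of_mem {x : ℕ} (hx : V x) (h : S.el x ∈ S.T) : tB x = true := by
  obtain ⟨y, hy, ht, e⟩ := S.exists_T h
  rwa [← S.el_inj hy hx e]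

theorem T_le_H : S.T ≤ S.H := fun g hg => by
  obtain ⟨x, -, -, rfl⟩ := S.exists_T hg
  exact S.el_mem_H x

theorem T_pow {g : G} (hg : g ∈ S.T) : g ^ 2 ^ 3 = 1 := by
  obtain ⟨x, hx, ht, rfl⟩ := S.exists_T hg
  have h := allT_spec chkT1 hx ht
  simp only [Bool.and_eq_true, Nat.beq_eq, force_eq] at h
  have h2 := hx.mul hx
  have h4 := h2.mul h2
  rw [← S.mul_eq_one h4 h4 h.1.2, S.el_mul h2 h2, S.el_mul hx hx]
  simp only [show 2 ^ 3 = 8 from rfl, pow_succ, pow_zero, one_mul, mul_assoc]

theorem T_p2 : IsPGroup 2 S.T := fun g => ⟨3, Subtype.ext (S.T_pow g.2)⟩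

theorem center_T {g : G} (hg : g ∈ S.T) (h : ∀ y ∈ S.T, y * g = g * y) : g = 1 ∨ g = S.el zc := by
  obtain ⟨x, hx, ht, rfl⟩ := S.exists_T hg
  have h1 := allT_spec chkT1 hx ht
  simp only [Bool.and_eq_true, Nat.beq_eq, imp_iff, allLt_iff, Bool.or_eq_true] at h1
  rcases h1.2 fun a ha => (S.mul_iff (V_lc (by omega)) hx hx (V_lc (by omega))).1
    (h _ (S.lc_mem_T ha)) with rfl | rfl
  · exact Or.inl S.el_one
  · exact Or.inr rfl

theorem decomp {x : ℕ} (hx : V x) : ∃ q ∈ S.T, ∃ l li c, V l ∧ V li ∧ mul li l = one ∧ wp c 8 = l ∧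
    (tB (mul l (mul (lc 1) li)) = true → tB (mul l (mul (lc 2) li)) = true → tB l = true) ∧
    S.el x = q * S.el l := by
  have h1 := allH_spec chkH hx
  obtain ⟨-, hd⟩ := vB_iff.1 (V_iff.1 hx)
  have hm : midx x < 512 := by
    have := col_lt x 32; have := col_lt x 1024; have := col_lt x 32768
    show col x 32 / 2 + (8 * (col x 1024 / 2) + 64 * (col x 32768 / 2)) < 512
    omega
  have h2 := imp_mp (allLt_iff.1 chkL _ hm) hd
  simp only [Bool.and_eq_true, Nat.beq_eq, imp_iff, force_eq] at h1 h2
  obtain ⟨⟨⟨a1, a2⟩, a3⟩, a4⟩ := h2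
  have hli := V_of a1
  have hl : V (Lm (midx x)) := a3 ▸ (S.wp_mem (K := ⊤) (fun _ _ => trivial) _ _).1
  refine ⟨_, S.el_mem_T (hx.mul hli) h1.1.1, _, _, _, hl, hli, a2, a3, fun b c => a4 ⟨b, c⟩, ?_⟩
  rw [S.el_mul hx hli, mul_assoc, S.mul_eq_one hli hl a2, mul_one]

theorem el_mem {K : Subgroup G} (hK : ∀ a < 6, S.el (lc a) ∈ K) (x : ℕ) : S.el x ∈ K := by
  by_cases hx : V x
  · obtain ⟨q, hq, l, li, c, -, -, -, rfl, -, e⟩ := S.decomp hx
    rw [e]
    refine K.mul_mem ((closure_le K).2 ?_ hq) (S.wp_mem hK c 8).2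
    rintro _ ⟨a, ha, rfl⟩
    exact hK a (lt_trans ha (by norm_num))
  · rw [S.el_of_not hx]; exact K.one_mem

theorem H_le {K : Subgroup G} (hK : ∀ a < 6, S.el (lc a) ∈ K) : S.H ≤ K := fun g hg => by
  obtain ⟨c, -, rfl⟩ := S.exists_el (S.mem_H.1 hg)
  exact S.el_mem hK c

theorem mem_T_of_norm {g : G} (hg : g ∈ S.H) (h : ∀ y ∈ S.T, g * y * g⁻¹ ∈ S.T) : g ∈ S.T := by
  obtain ⟨x, hx, rfl⟩ := S.exists_el (S.mem_H.1 hg)
  obtain ⟨q, hq, l, li, c, hl, hli, a2, -, a4, e⟩ := S.decomp hx
  have hi : S.el li = (S.el l)⁻¹ := eq_inv_of_mul_eq_one_left (S.mul_eq_one hli hl a2)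
  have key : ∀ a < 4, tB (mul l (mul (lc a) li)) = true := fun a ha => by
    have hs := V_lc (show a < 6 by omega)
    refine S.tB_of_mem (hl.mul (hs.mul hli)) ?_
    have := S.T.mul_mem (S.T.mul_mem (S.T.inv_mem hq) (h _ (S.lc_mem_T ha))) hq
    rw [S.el_mul hl (hs.mul hli), S.el_mul hs hli, hi]
    simpa [e, mul_assoc] using this
  rw [e]
  exact S.T.mul_mem hq (S.el_mem_T hl (a4 (key 1 (by norm_num)) (key 2 (by norm_num))))

theorem V_z : V zc := V_of (by decide +kernel)

theorem z_mem_T : S.el zc ∈ S.T := S.el_mem_T V_z (by decide +kernel)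

theorem z_ne_one : S.el zc ≠ 1 := S.el_ne_one V_z (by decide)

theorem z_sq : S.el zc * S.el zc = 1 := S.mul_eq_one V_z V_z (by decide +kernel)

theorem mem_H_of_norm {g : G} (h : ∀ y, y ∈ S.T ↔ g * y * g⁻¹ ∈ S.T) : g ∈ S.H := by
  rcases S.center_T ((h _).1 S.z_mem_T) (fun y hy => by
    have : g⁻¹ * y * g ∈ S.T := (h _).2 (by simpa [mul_assoc] using hy)
    have e := S.mem_H.1 (S.T_le_H this)
    calc y * (g * S.el zc * g⁻¹) = g * (g⁻¹ * y * g * S.el zc) * g⁻¹ := by simp [mul_assoc]
      _ = _ := by rw [e]; simp [mul_assoc]) with e | e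
  · exact absurd (by simpa using e) S.z_ne_one
  · exact S.mem_H.2 (mul_inv_eq_iff_eq_mul.1 e)

theorem max_H [Finite G] : Max2 S.H S.T :=
  Max2.of_norm S.T_le_H S.T_p2 fun _ hx _ h => S.mem_T_of_norm hx fun y hy => (h y).1 hy

theorem max_top [Finite G] : Max2 ⊤ S.T :=
  Max2.of_norm le_top S.T_p2 fun _ _ _ h =>
    S.mem_T_of_norm (S.mem_H_of_norm h) fun y hy => (h y).1 hy

end St

end CL.A10.Hd
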