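import Cfsg.Agent.SPOR.CE
import Cfsg.Agent.SPOR.A10.JC3ED0
import Cfsg.Agent.SPOR.A10.JC3ED1
import Cfsg.Agent.SPOR.A10.JC3ED2
set_option autoImplicit false
set_option maxRecDepth 100000

namespace CL.JC3.E
open CL.CE CL.K

noncomputable def tT : Tr := (.node (.node (.node (.node (.node (.node (.node (.node (.node (.node (.node (.leaf tT0) (.leaf tT1024)) (.node (.leaf tT512) (.leaf tT1536))) (.node (.node (.leaf tT256) (.leaf tT1280)) (.node (.leaf tT768) (.leaf tT1792)))) (.node (.node (.node (.leaf tT128) (.leaf tT1152)) (.node (.leaf tT640) (.leaf tT1664))) (.node (.node (.leaf tT384) (.leaf tT1408)) (.leaf tT896)))) (.node (.node (.node (.node (.leaf tT64) (.leaf tT1088)) (.node (.leaf tT576) (.leaf tT1600))) (.node (.node (.leaf tT320) (.leaf tT1344)) (.node (.leaf tT832) (.leaf tT1856)))) (.node (.node (.node (.leaf tT192) (.leaf tT1216)) (.node (.leaf tT704) (.leaf tT1728))) (.node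 (.node (.leaf tT448) (.leaf tT1472)) (.leaf tT960))))) (.node (.node (.node (.node (.node (.leaf tT32) (.leaf tT1056)) (.node (.leaf tT544) (.leaf tT1568))) (.node (.node (.leaf tT288) (.leaf tT1312)) (.node (.leaf tT800) (.leaf tT1824)))) (.node (.node (.node (.leaf tT160) (.leaf tT1184)) (.node (.leaf tT672) (.leaf tT1696))) (.node (.node (.leaf tT416) (.leaf tT1440)) (.leaf tT928)))) (.node (.node (.node (.node (.leaf tT96) (.leaf tT1120)) (.node (.leaf tT608) (.leaf tT1632))) (.node (.node (.leaf tT352) (.leaf tT1376)) (.leaf tT864))) (.node (.node (.node (.leaf tT224) (.leaf tT1248)) (.node (.leaf tT736) (.leaf tT1760))) (.node (.node (.leaf tT480) (.leaf tT1504)) (.leaf tT992)))))) (.node (.node (.node (.node (.node (.node (.leaf tT16) (.leaf tT1040)) (.node (.leaf tT528) (.leaf tT1552))) (.node (.node (.leaf tT272) (.leaf tT1296)) (.node (.leaf tT784) (.leaf tT1808)))) (.node (.node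 (.node (.leaf tT144) (.leaf tT1168)) (.node (.leaf tT656) (.leaf tT1680))) (.node (.node (.leaf tT400) (.leaf tT1424)) (.leaf tT912)))) (.node (.node (.node (.node (.leaf tT80) (.leaf tT1104)) (.node (.leaf tT592) (.leaf tT1616))) (.node (.node (.leaf tT336) (.leaf tT1360)) (.node (.leaf tT848) (.leaf tT1872)))) (.node (.node (.node (.leaf tT208) (.leaf tT1232)) (.node (.leaf tT720) (.leaf tT1744))) (.node (.node (.leaf tT464) (.leaf tT1488)) (.leaf tT976))))) (.node (.node (.node (.node (.node (.leaf tT48) (.leaf tT1072)) (.node (.leaf tT560) (.leaf tT1584))) (.node (.node (.leaf tT304) (.leaf tT1328)) (.node (.leaf tT816) (.leaf tT1840)))) (.node (.node (.node (.leaf tT176) (.leaf tT1200)) (.node (.leaf tT688) (.leaf tT1712))) (.node (.node (.leaf tT432) (.leaf tT1456)) (.leaf tT944)))) (.node (.node (.node (.node (.leaf tT112) (.leaf tT1136)) (.node (.leaf tT624) (.leaf tT1648))) (.node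 (.node (.leaf tT368) (.leaf tT1392)) (.leaf tT880))) (.node (.node (.node (.leaf tT240) (.leaf tT1264)) (.node (.leaf tT752) (.leaf tT1776))) (.node (.node (.leaf tT496) (.leaf tT1520)) (.leaf tT1008))))))) (.node (.node (.node (.node (.node (.node (.node (.leaf tT8) (.leaf tT1032)) (.node (.leaf tT520) (.leaf tT1544))) (.node (.node (.leaf tT264) (.leaf tT1288)) (.node (.leaf tT776) (.leaf tT1800)))) (.node (.node (.node (.leaf tT136) (.leaf tT1160)) (.node (.leaf tT648) (.leaf tT1672))) (.node (.node (.leaf tT392) (.leaf tT1416)) (.leaf tT904)))) (.node (.node (.node (.node (.leaf tT72) (.leaf tT1096)) (.node (.leaf tT584) (.leaf tT1608))) (.node (.node (.leaf tT328) (.leaf tT1352)) (.node (.leaf tT840) (.leaf tT1864)))) (.node (.node (.node (.leaf tT200) (.leaf tT1224)) (.node (.leaf tT712) (.leaf tT1736))) (.node (.node (.leaf tT456) (.leaf tT1480)) (.leaf tT968))))) (.node (.node (.node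 (.node (.node (.leaf tT40) (.leaf tT1064)) (.node (.leaf tT552) (.leaf tT1576))) (.node (.node (.leaf tT296) (.leaf tT1320)) (.node (.leaf tT808) (.leaf tT1832)))) (.node (.node (.node (.leaf tT168) (.leaf tT1192)) (.node (.leaf tT680) (.leaf tT1704))) (.node (.node (.leaf tT424) (.leaf tT1448)) (.leaf tT936)))) (.node (.node (.node (.node (.leaf tT104) (.leaf tT1128)) (.node (.leaf tT616) (.leaf tT1640))) (.node (.node (.leaf tT360) (.leaf tT1384)) (.leaf tT872))) (.node (.node (.node (.leaf tT232) (.leaf tT1256)) (.node (.leaf tT744) (.leaf tT1768))) (.node (.node (.leaf tT488) (.leaf tT1512)) (.leaf tT1000)))))) (.node (.node (.node (.node (.node (.node (.leaf tT24) (.leaf tT1048)) (.node (.leaf tT536) (.leaf tT1560))) (.node (.node (.leaf tT280) (.leaf tT1304)) (.node (.leaf tT792) (.leaf tT1816)))) (.node (.node (.node (.leaf tT152) (.leaf tT1176)) (.node (.leaf tT664) (.leaf tT1688)))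 (.node (.node (.leaf tT408) (.leaf tT1432)) (.leaf tT920)))) (.node (.node (.node (.node (.leaf tT88) (.leaf tT1112)) (.node (.leaf tT600) (.leaf tT1624))) (.node (.node (.leaf tT344) (.leaf tT1368)) (.node (.leaf tT856) (.leaf tT1880)))) (.node (.node (.node (.leaf tT216) (.leaf tT1240)) (.node (.leaf tT728) (.leaf tT1752))) (.node (.node (.leaf tT472) (.leaf tT1496)) (.leaf tT984))))) (.node (.node (.node (.node (.node (.leaf tT56) (.leaf tT1080)) (.node (.leaf tT568) (.leaf tT1592))) (.node (.node (.leaf tT312) (.leaf tT1336)) (.node (.leaf tT824) (.leaf tT1848)))) (.node (.node (.node (.leaf tT184) (.leaf tT1208)) (.node (.leaf tT696) (.leaf tT1720))) (.node (.node (.leaf tT440) (.leaf tT1464)) (.leaf tT952)))) (.node (.node (.node (.node (.leaf tT120) (.leaf tT1144)) (.node (.leaf tT632) (.leaf tT1656))) (.node (.node (.leaf tT376) (.leaf tT1400)) (.leaf tT888))) (.node (.node (.node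 (.leaf tT248) (.leaf tT1272)) (.node (.leaf tT760) (.leaf tT1784))) (.node (.node (.leaf tT504) (.leaf tT1528)) (.leaf tT1016)))))))) (.node (.node (.node (.node (.node (.node (.node (.node (.leaf tT4) (.leaf tT1028)) (.node (.leaf tT516) (.leaf tT1540))) (.node (.node (.leaf tT260) (.leaf tT1284)) (.node (.leaf tT772) (.leaf tT1796)))) (.node (.node (.node (.leaf tT132) (.leaf tT1156)) (.node (.leaf tT644) (.leaf tT1668))) (.node (.node (.leaf tT388) (.leaf tT1412)) (.leaf tT900)))) (.node (.node (.node (.node (.leaf tT68) (.leaf tT1092)) (.node (.leaf tT580) (.leaf tT1604))) (.node (.node (.leaf tT324) (.leaf tT1348)) (.node (.leaf tT836) (.leaf tT1860)))) (.node (.node (.node (.leaf tT196) (.leaf tT1220)) (.node (.leaf tT708) (.leaf tT1732))) (.node (.node (.leaf tT452) (.leaf tT1476)) (.leaf tT964))))) (.node (.node (.node (.node (.node (.leaf tT36) (.leaf tT1060)) (.node (.leaf tT548)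 (.leaf tT1572))) (.node (.node (.leaf tT292) (.leaf tT1316)) (.node (.leaf tT804) (.leaf tT1828)))) (.node (.node (.node (.leaf tT164) (.leaf tT1188)) (.node (.leaf tT676) (.leaf tT1700))) (.node (.node (.leaf tT420) (.leaf tT1444)) (.leaf tT932)))) (.node (.node (.node (.node (.leaf tT100) (.leaf tT1124)) (.node (.leaf tT612) (.leaf tT1636))) (.node (.node (.leaf tT356) (.leaf tT1380)) (.leaf tT868))) (.node (.node (.node (.leaf tT228) (.leaf tT1252)) (.node (.leaf tT740) (.leaf tT1764))) (.node (.node (.leaf tT484) (.leaf tT1508)) (.leaf tT996)))))) (.node (.node (.node (.node (.node (.node (.leaf tT20) (.leaf tT1044)) (.node (.leaf tT532) (.leaf tT1556))) (.node (.node (.leaf tT276) (.leaf tT1300)) (.node (.leaf tT788) (.leaf tT1812)))) (.node (.node (.node (.leaf tT148) (.leaf tT1172)) (.node (.leaf tT660) (.leaf tT1684))) (.node (.node (.leaf tT404) (.leaf tT1428)) (.leaf tT916)))) (.node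 (.node (.node (.node (.leaf tT84) (.leaf tT1108)) (.node (.leaf tT596) (.leaf tT1620))) (.node (.node (.leaf tT340) (.leaf tT1364)) (.node (.leaf tT852) (.leaf tT1876)))) (.node (.node (.node (.leaf tT212) (.leaf tT1236)) (.node (.leaf tT724) (.leaf tT1748))) (.node (.node (.leaf tT468) (.leaf tT1492)) (.leaf tT980))))) (.node (.node (.node (.node (.node (.leaf tT52) (.leaf tT1076)) (.node (.leaf tT564) (.leaf tT1588))) (.node (.node (.leaf tT308) (.leaf tT1332)) (.node (.leaf tT820) (.leaf tT1844)))) (.node (.node (.node (.leaf tT180) (.leaf tT1204)) (.node (.leaf tT692) (.leaf tT1716))) (.node (.node (.leaf tT436) (.leaf tT1460)) (.leaf tT948)))) (.node (.node (.node (.node (.leaf tT116) (.leaf tT1140)) (.node (.leaf tT628) (.leaf tT1652))) (.node (.node (.leaf tT372) (.leaf tT1396)) (.leaf tT884))) (.node (.node (.node (.leaf tT244) (.leaf tT1268)) (.node (.leaf tT756) (.leaf tT1780)))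 (.node (.node (.leaf tT500) (.leaf tT1524)) (.leaf tT1012))))))) (.node (.node (.node (.node (.node (.node (.node (.leaf tT12) (.leaf tT1036)) (.node (.leaf tT524) (.leaf tT1548))) (.node (.node (.leaf tT268) (.leaf tT1292)) (.node (.leaf tT780) (.leaf tT1804)))) (.node (.node (.node (.leaf tT140) (.leaf tT1164)) (.node (.leaf tT652) (.leaf tT1676))) (.node (.node (.leaf tT396) (.leaf tT1420)) (.leaf tT908)))) (.node (.node (.node (.node (.leaf tT76) (.leaf tT1100)) (.node (.leaf tT588) (.leaf tT1612))) (.node (.node (.leaf tT332) (.leaf tT1356)) (.node (.leaf tT844) (.leaf tT1868)))) (.node (.node (.node (.leaf tT204) (.leaf tT1228)) (.node (.leaf tT716) (.leaf tT1740))) (.node (.node (.leaf tT460) (.leaf tT1484)) (.leaf tT972))))) (.node (.node (.node (.node (.node (.leaf tT44) (.leaf tT1068)) (.node (.leaf tT556) (.leaf tT1580))) (.node (.node (.leaf tT300) (.leaf tT1324)) (.node (.leaf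 tT812) (.leaf tT1836)))) (.node (.node (.node (.leaf tT172) (.leaf tT1196)) (.node (.leaf tT684) (.leaf tT1708))) (.node (.node (.leaf tT428) (.leaf tT1452)) (.leaf tT940)))) (.node (.node (.node (.node (.leaf tT108) (.leaf tT1132)) (.node (.leaf tT620) (.leaf tT1644))) (.node (.node (.leaf tT364) (.leaf tT1388)) (.leaf tT876))) (.node (.node (.node (.leaf tT236) (.leaf tT1260)) (.node (.leaf tT748) (.leaf tT1772))) (.node (.node (.leaf tT492) (.leaf tT1516)) (.leaf tT1004)))))) (.node (.node (.node (.node (.node (.node (.leaf tT28) (.leaf tT1052)) (.node (.leaf tT540) (.leaf tT1564))) (.node (.node (.leaf tT284) (.leaf tT1308)) (.node (.leaf tT796) (.leaf tT1820)))) (.node (.node (.node (.leaf tT156) (.leaf tT1180)) (.node (.leaf tT668) (.leaf tT1692))) (.node (.node (.leaf tT412) (.leaf tT1436)) (.leaf tT924)))) (.node (.node (.node (.node (.leaf tT92) (.leaf tT1116)) (.node (.leaf tT604)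 (.leaf tT1628))) (.node (.node (.leaf tT348) (.leaf tT1372)) (.leaf tT860))) (.node (.node (.node (.leaf tT220) (.leaf tT1244)) (.node (.leaf tT732) (.leaf tT1756))) (.node (.node (.leaf tT476) (.leaf tT1500)) (.leaf tT988))))) (.node (.node (.node (.node (.node (.leaf tT60) (.leaf tT1084)) (.node (.leaf tT572) (.leaf tT1596))) (.node (.node (.leaf tT316) (.leaf tT1340)) (.node (.leaf tT828) (.leaf tT1852)))) (.node (.node (.node (.leaf tT188) (.leaf tT1212)) (.node (.leaf tT700) (.leaf tT1724))) (.node (.node (.leaf tT444) (.leaf tT1468)) (.leaf tT956)))) (.node (.node (.node (.node (.leaf tT124) (.leaf tT1148)) (.node (.leaf tT636) (.leaf tT1660))) (.node (.node (.leaf tT380) (.leaf tT1404)) (.leaf tT892))) (.node (.node (.node (.leaf tT252) (.leaf tT1276)) (.node (.leaf tT764) (.leaf tT1788))) (.node (.node (.leaf tT508) (.leaf tT1532)) (.leaf tT1020))))))))) (.node (.node (.node (.node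 (.node (.node (.node (.node (.node (.leaf tT2) (.leaf tT1026)) (.node (.leaf tT514) (.leaf tT1538))) (.node (.node (.leaf tT258) (.leaf tT1282)) (.node (.leaf tT770) (.leaf tT1794)))) (.node (.node (.node (.leaf tT130) (.leaf tT1154)) (.node (.leaf tT642) (.leaf tT1666))) (.node (.node (.leaf tT386) (.leaf tT1410)) (.leaf tT898)))) (.node (.node (.node (.node (.leaf tT66) (.leaf tT1090)) (.node (.leaf tT578) (.leaf tT1602))) (.node (.node (.leaf tT322) (.leaf tT1346)) (.node (.leaf tT834) (.leaf tT1858)))) (.node (.node (.node (.leaf tT194) (.leaf tT1218)) (.node (.leaf tT706) (.leaf tT1730))) (.node (.node (.leaf tT450) (.leaf tT1474)) (.leaf tT962))))) (.node (.node (.node (.node (.node (.leaf tT34) (.leaf tT1058)) (.node (.leaf tT546) (.leaf tT1570))) (.node (.node (.leaf tT290) (.leaf tT1314)) (.node (.leaf tT802) (.leaf tT1826)))) (.node (.node (.node (.leaf tT162) (.leaf tT1186)) (.node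 (.leaf tT674) (.leaf tT1698))) (.node (.node (.leaf tT418) (.leaf tT1442)) (.leaf tT930)))) (.node (.node (.node (.node (.leaf tT98) (.leaf tT1122)) (.node (.leaf tT610) (.leaf tT1634))) (.node (.node (.leaf tT354) (.leaf tT1378)) (.leaf tT866))) (.node (.node (.node (.leaf tT226) (.leaf tT1250)) (.node (.leaf tT738) (.leaf tT1762))) (.node (.node (.leaf tT482) (.leaf tT1506)) (.leaf tT994)))))) (.node (.node (.node (.node (.node (.node (.leaf tT18) (.leaf tT1042)) (.node (.leaf tT530) (.leaf tT1554))) (.node (.node (.leaf tT274) (.leaf tT1298)) (.node (.leaf tT786) (.leaf tT1810)))) (.node (.node (.node (.leaf tT146) (.leaf tT1170)) (.node (.leaf tT658) (.leaf tT1682))) (.node (.node (.leaf tT402) (.leaf tT1426)) (.leaf tT914)))) (.node (.node (.node (.node (.leaf tT82) (.leaf tT1106)) (.node (.leaf tT594) (.leaf tT1618))) (.node (.node (.leaf tT338) (.leaf tT1362)) (.node (.leaf tT850) (.leaf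 tT1874)))) (.node (.node (.node (.leaf tT210) (.leaf tT1234)) (.node (.leaf tT722) (.leaf tT1746))) (.node (.node (.leaf tT466) (.leaf tT1490)) (.leaf tT978))))) (.node (.node (.node (.node (.node (.leaf tT50) (.leaf tT1074)) (.node (.leaf tT562) (.leaf tT1586))) (.node (.node (.leaf tT306) (.leaf tT1330)) (.node (.leaf tT818) (.leaf tT1842)))) (.node (.node (.node (.leaf tT178) (.leaf tT1202)) (.node (.leaf tT690) (.leaf tT1714))) (.node (.node (.leaf tT434) (.leaf tT1458)) (.leaf tT946)))) (.node (.node (.node (.node (.leaf tT114) (.leaf tT1138)) (.node (.leaf tT626) (.leaf tT1650))) (.node (.node (.leaf tT370) (.leaf tT1394)) (.leaf tT882))) (.node (.node (.node (.leaf tT242) (.leaf tT1266)) (.node (.leaf tT754) (.leaf tT1778))) (.node (.node (.leaf tT498) (.leaf tT1522)) (.leaf tT1010))))))) (.node (.node (.node (.node (.node (.node (.node (.leaf tT10) (.leaf tT1034)) (.node (.leaf tT522)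 (.leaf tT1546))) (.node (.node (.leaf tT266) (.leaf tT1290)) (.node (.leaf tT778) (.leaf tT1802)))) (.node (.node (.node (.leaf tT138) (.leaf tT1162)) (.node (.leaf tT650) (.leaf tT1674))) (.node (.node (.leaf tT394) (.leaf tT1418)) (.leaf tT906)))) (.node (.node (.node (.node (.leaf tT74) (.leaf tT1098)) (.node (.leaf tT586) (.leaf tT1610))) (.node (.node (.leaf tT330) (.leaf tT1354)) (.node (.leaf tT842) (.leaf tT1866)))) (.node (.node (.node (.leaf tT202) (.leaf tT1226)) (.node (.leaf tT714) (.leaf tT1738))) (.node (.node (.leaf tT458) (.leaf tT1482)) (.leaf tT970))))) (.node (.node (.node (.node (.node (.leaf tT42) (.leaf tT1066)) (.node (.leaf tT554) (.leaf tT1578))) (.node (.node (.leaf tT298) (.leaf tT1322)) (.node (.leaf tT810) (.leaf tT1834)))) (.node (.node (.node (.leaf tT170) (.leaf tT1194)) (.node (.leaf tT682) (.leaf tT1706))) (.node (.node (.leaf tT426) (.leaf tT1450)) (.leaf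 tT938)))) (.node (.node (.node (.node (.leaf tT106) (.leaf tT1130)) (.node (.leaf tT618) (.leaf tT1642))) (.node (.node (.leaf tT362) (.leaf tT1386)) (.leaf tT874))) (.node (.node (.node (.leaf tT234) (.leaf tT1258)) (.node (.leaf tT746) (.leaf tT1770))) (.node (.node (.leaf tT490) (.leaf tT1514)) (.leaf tT1002)))))) (.node (.node (.node (.node (.node (.node (.leaf tT26) (.leaf tT1050)) (.node (.leaf tT538) (.leaf tT1562))) (.node (.node (.leaf tT282) (.leaf tT1306)) (.node (.leaf tT794) (.leaf tT1818)))) (.node (.node (.node (.leaf tT154) (.leaf tT1178)) (.node (.leaf tT666) (.leaf tT1690))) (.node (.node (.leaf tT410) (.leaf tT1434)) (.leaf tT922)))) (.node (.node (.node (.node (.leaf tT90) (.leaf tT1114)) (.node (.leaf tT602) (.leaf tT1626))) (.node (.node (.leaf tT346) (.leaf tT1370)) (.node (.leaf tT858) (.leaf tT1882)))) (.node (.node (.node (.leaf tT218) (.leaf tT1242)) (.node (.leaf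 tT730) (.leaf tT1754))) (.node (.node (.leaf tT474) (.leaf tT1498)) (.leaf tT986))))) (.node (.node (.node (.node (.node (.leaf tT58) (.leaf tT1082)) (.node (.leaf tT570) (.leaf tT1594))) (.node (.node (.leaf tT314) (.leaf tT1338)) (.node (.leaf tT826) (.leaf tT1850)))) (.node (.node (.node (.leaf tT186) (.leaf tT1210)) (.node (.leaf tT698) (.leaf tT1722))) (.node (.node (.leaf tT442) (.leaf tT1466)) (.leaf tT954)))) (.node (.node (.node (.node (.leaf tT122) (.leaf tT1146)) (.node (.leaf tT634) (.leaf tT1658))) (.node (.node (.leaf tT378) (.leaf tT1402)) (.leaf tT890))) (.node (.node (.node (.leaf tT250) (.leaf tT1274)) (.node (.leaf tT762) (.leaf tT1786))) (.node (.node (.leaf tT506) (.leaf tT1530)) (.leaf tT1018)))))))) (.node (.node (.node (.node (.node (.node (.node (.node (.leaf tT6) (.leaf tT1030)) (.node (.leaf tT518) (.leaf tT1542))) (.node (.node (.leaf tT262) (.leaf tT1286)) (.node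 (.leaf tT774) (.leaf tT1798)))) (.node (.node (.node (.leaf tT134) (.leaf tT1158)) (.node (.leaf tT646) (.leaf tT1670))) (.node (.node (.leaf tT390) (.leaf tT1414)) (.leaf tT902)))) (.node (.node (.node (.node (.leaf tT70) (.leaf tT1094)) (.node (.leaf tT582) (.leaf tT1606))) (.node (.node (.leaf tT326) (.leaf tT1350)) (.node (.leaf tT838) (.leaf tT1862)))) (.node (.node (.node (.leaf tT198) (.leaf tT1222)) (.node (.leaf tT710) (.leaf tT1734))) (.node (.node (.leaf tT454) (.leaf tT1478)) (.leaf tT966))))) (.node (.node (.node (.node (.node (.leaf tT38) (.leaf tT1062)) (.node (.leaf tT550) (.leaf tT1574))) (.node (.node (.leaf tT294) (.leaf tT1318)) (.node (.leaf tT806) (.leaf tT1830)))) (.node (.node (.node (.leaf tT166) (.leaf tT1190)) (.node (.leaf tT678) (.leaf tT1702))) (.node (.node (.leaf tT422) (.leaf tT1446)) (.leaf tT934)))) (.node (.node (.node (.node (.leaf tT102) (.leaf tT1126))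 (.node (.leaf tT614) (.leaf tT1638))) (.node (.node (.leaf tT358) (.leaf tT1382)) (.leaf tT870))) (.node (.node (.node (.leaf tT230) (.leaf tT1254)) (.node (.leaf tT742) (.leaf tT1766))) (.node (.node (.leaf tT486) (.leaf tT1510)) (.leaf tT998)))))) (.node (.node (.node (.node (.node (.node (.leaf tT22) (.leaf tT1046)) (.node (.leaf tT534) (.leaf tT1558))) (.node (.node (.leaf tT278) (.leaf tT1302)) (.node (.leaf tT790) (.leaf tT1814)))) (.node (.node (.node (.leaf tT150) (.leaf tT1174)) (.node (.leaf tT662) (.leaf tT1686))) (.node (.node (.leaf tT406) (.leaf tT1430)) (.leaf tT918)))) (.node (.node (.node (.node (.leaf tT86) (.leaf tT1110)) (.node (.leaf tT598) (.leaf tT1622))) (.node (.node (.leaf tT342) (.leaf tT1366)) (.node (.leaf tT854) (.leaf tT1878)))) (.node (.node (.node (.leaf tT214) (.leaf tT1238)) (.node (.leaf tT726) (.leaf tT1750))) (.node (.node (.leaf tT470) (.leaf tT1494))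 (.leaf tT982))))) (.node (.node (.node (.node (.node (.leaf tT54) (.leaf tT1078)) (.node (.leaf tT566) (.leaf tT1590))) (.node (.node (.leaf tT310) (.leaf tT1334)) (.node (.leaf tT822) (.leaf tT1846)))) (.node (.node (.node (.leaf tT182) (.leaf tT1206)) (.node (.leaf tT694) (.leaf tT1718))) (.node (.node (.leaf tT438) (.leaf tT1462)) (.leaf tT950)))) (.node (.node (.node (.node (.leaf tT118) (.leaf tT1142)) (.node (.leaf tT630) (.leaf tT1654))) (.node (.node (.leaf tT374) (.leaf tT1398)) (.leaf tT886))) (.node (.node (.node (.leaf tT246) (.leaf tT1270)) (.node (.leaf tT758) (.leaf tT1782))) (.node (.node (.leaf tT502) (.leaf tT1526)) (.leaf tT1014))))))) (.node (.node (.node (.node (.node (.node (.node (.leaf tT14) (.leaf tT1038)) (.node (.leaf tT526) (.leaf tT1550))) (.node (.node (.leaf tT270) (.leaf tT1294)) (.node (.leaf tT782) (.leaf tT1806)))) (.node (.node (.node (.leaf tT142) (.leaf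 tT1166)) (.node (.leaf tT654) (.leaf tT1678))) (.node (.node (.leaf tT398) (.leaf tT1422)) (.leaf tT910)))) (.node (.node (.node (.node (.leaf tT78) (.leaf tT1102)) (.node (.leaf tT590) (.leaf tT1614))) (.node (.node (.leaf tT334) (.leaf tT1358)) (.node (.leaf tT846) (.leaf tT1870)))) (.node (.node (.node (.leaf tT206) (.leaf tT1230)) (.node (.leaf tT718) (.leaf tT1742))) (.node (.node (.leaf tT462) (.leaf tT1486)) (.leaf tT974))))) (.node (.node (.node (.node (.node (.leaf tT46) (.leaf tT1070)) (.node (.leaf tT558) (.leaf tT1582))) (.node (.node (.leaf tT302) (.leaf tT1326)) (.node (.leaf tT814) (.leaf tT1838)))) (.node (.node (.node (.leaf tT174) (.leaf tT1198)) (.node (.leaf tT686) (.leaf tT1710))) (.node (.node (.leaf tT430) (.leaf tT1454)) (.leaf tT942)))) (.node (.node (.node (.node (.leaf tT110) (.leaf tT1134)) (.node (.leaf tT622) (.leaf tT1646))) (.node (.node (.leaf tT366) (.leaf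 tT1390)) (.leaf tT878))) (.node (.node (.node (.leaf tT238) (.leaf tT1262)) (.node (.leaf tT750) (.leaf tT1774))) (.node (.node (.leaf tT494) (.leaf tT1518)) (.leaf tT1006)))))) (.node (.node (.node (.node (.node (.node (.leaf tT30) (.leaf tT1054)) (.node (.leaf tT542) (.leaf tT1566))) (.node (.node (.leaf tT286) (.leaf tT1310)) (.node (.leaf tT798) (.leaf tT1822)))) (.node (.node (.node (.leaf tT158) (.leaf tT1182)) (.node (.leaf tT670) (.leaf tT1694))) (.node (.node (.leaf tT414) (.leaf tT1438)) (.leaf tT926)))) (.node (.node (.node (.node (.leaf tT94) (.leaf tT1118)) (.node (.leaf tT606) (.leaf tT1630))) (.node (.node (.leaf tT350) (.leaf tT1374)) (.leaf tT862))) (.node (.node (.node (.leaf tT222) (.leaf tT1246)) (.node (.leaf tT734) (.leaf tT1758))) (.node (.node (.leaf tT478) (.leaf tT1502)) (.leaf tT990))))) (.node (.node (.node (.node (.node (.leaf tT62) (.leaf tT1086)) (.node (.leaf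 tT574) (.leaf tT1598))) (.node (.node (.leaf tT318) (.leaf tT1342)) (.node (.leaf tT830) (.leaf tT1854)))) (.node (.node (.node (.leaf tT190) (.leaf tT1214)) (.node (.leaf tT702) (.leaf tT1726))) (.node (.node (.leaf tT446) (.leaf tT1470)) (.leaf tT958)))) (.node (.node (.node (.node (.leaf tT126) (.leaf tT1150)) (.node (.leaf tT638) (.leaf tT1662))) (.node (.node (.leaf tT382) (.leaf tT1406)) (.leaf tT894))) (.node (.node (.node (.leaf tT254) (.leaf tT1278)) (.node (.leaf tT766) (.leaf tT1790))) (.node (.node (.leaf tT510) (.leaf tT1534)) (.leaf tT1022)))))))))) (.node (.node (.node (.node (.node (.node (.node (.node (.node (.node (.leaf tT1) (.leaf tT1025)) (.node (.leaf tT513) (.leaf tT1537))) (.node (.node (.leaf tT257) (.leaf tT1281)) (.node (.leaf tT769) (.leaf tT1793)))) (.node (.node (.node (.leaf tT129) (.leaf tT1153)) (.node (.leaf tT641) (.leaf tT1665))) (.node (.node (.leaf tT385)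 (.leaf tT1409)) (.leaf tT897)))) (.node (.node (.node (.node (.leaf tT65) (.leaf tT1089)) (.node (.leaf tT577) (.leaf tT1601))) (.node (.node (.leaf tT321) (.leaf tT1345)) (.node (.leaf tT833) (.leaf tT1857)))) (.node (.node (.node (.leaf tT193) (.leaf tT1217)) (.node (.leaf tT705) (.leaf tT1729))) (.node (.node (.leaf tT449) (.leaf tT1473)) (.leaf tT961))))) (.node (.node (.node (.node (.node (.leaf tT33) (.leaf tT1057)) (.node (.leaf tT545) (.leaf tT1569))) (.node (.node (.leaf tT289) (.leaf tT1313)) (.node (.leaf tT801) (.leaf tT1825)))) (.node (.node (.node (.leaf tT161) (.leaf tT1185)) (.node (.leaf tT673) (.leaf tT1697))) (.node (.node (.leaf tT417) (.leaf tT1441)) (.leaf tT929)))) (.node (.node (.node (.node (.leaf tT97) (.leaf tT1121)) (.node (.leaf tT609) (.leaf tT1633))) (.node (.node (.leaf tT353) (.leaf tT1377)) (.leaf tT865))) (.node (.node (.node (.leaf tT225) (.leaf tT1249))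 (.node (.leaf tT737) (.leaf tT1761))) (.node (.node (.leaf tT481) (.leaf tT1505)) (.leaf tT993)))))) (.node (.node (.node (.node (.node (.node (.leaf tT17) (.leaf tT1041)) (.node (.leaf tT529) (.leaf tT1553))) (.node (.node (.leaf tT273) (.leaf tT1297)) (.node (.leaf tT785) (.leaf tT1809)))) (.node (.node (.node (.leaf tT145) (.leaf tT1169)) (.node (.leaf tT657) (.leaf tT1681))) (.node (.node (.leaf tT401) (.leaf tT1425)) (.leaf tT913)))) (.node (.node (.node (.node (.leaf tT81) (.leaf tT1105)) (.node (.leaf tT593) (.leaf tT1617))) (.node (.node (.leaf tT337) (.leaf tT1361)) (.node (.leaf tT849) (.leaf tT1873)))) (.node (.node (.node (.leaf tT209) (.leaf tT1233)) (.node (.leaf tT721) (.leaf tT1745))) (.node (.node (.leaf tT465) (.leaf tT1489)) (.leaf tT977))))) (.node (.node (.node (.node (.node (.leaf tT49) (.leaf tT1073)) (.node (.leaf tT561) (.leaf tT1585))) (.node (.node (.leaf tT305)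 (.leaf tT1329)) (.node (.leaf tT817) (.leaf tT1841)))) (.node (.node (.node (.leaf tT177) (.leaf tT1201)) (.node (.leaf tT689) (.leaf tT1713))) (.node (.node (.leaf tT433) (.leaf tT1457)) (.leaf tT945)))) (.node (.node (.node (.node (.leaf tT113) (.leaf tT1137)) (.node (.leaf tT625) (.leaf tT1649))) (.node (.node (.leaf tT369) (.leaf tT1393)) (.leaf tT881))) (.node (.node (.node (.leaf tT241) (.leaf tT1265)) (.node (.leaf tT753) (.leaf tT1777))) (.node (.node (.leaf tT497) (.leaf tT1521)) (.leaf tT1009))))))) (.node (.node (.node (.node (.node (.node (.node (.leaf tT9) (.leaf tT1033)) (.node (.leaf tT521) (.leaf tT1545))) (.node (.node (.leaf tT265) (.leaf tT1289)) (.node (.leaf tT777) (.leaf tT1801)))) (.node (.node (.node (.leaf tT137) (.leaf tT1161)) (.node (.leaf tT649) (.leaf tT1673))) (.node (.node (.leaf tT393) (.leaf tT1417)) (.leaf tT905)))) (.node (.node (.node (.node (.leaf tT73)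 (.leaf tT1097)) (.node (.leaf tT585) (.leaf tT1609))) (.node (.node (.leaf tT329) (.leaf tT1353)) (.node (.leaf tT841) (.leaf tT1865)))) (.node (.node (.node (.leaf tT201) (.leaf tT1225)) (.node (.leaf tT713) (.leaf tT1737))) (.node (.node (.leaf tT457) (.leaf tT1481)) (.leaf tT969))))) (.node (.node (.node (.node (.node (.leaf tT41) (.leaf tT1065)) (.node (.leaf tT553) (.leaf tT1577))) (.node (.node (.leaf tT297) (.leaf tT1321)) (.node (.leaf tT809) (.leaf tT1833)))) (.node (.node (.node (.leaf tT169) (.leaf tT1193)) (.node (.leaf tT681) (.leaf tT1705))) (.node (.node (.leaf tT425) (.leaf tT1449)) (.leaf tT937)))) (.node (.node (.node (.node (.leaf tT105) (.leaf tT1129)) (.node (.leaf tT617) (.leaf tT1641))) (.node (.node (.leaf tT361) (.leaf tT1385)) (.leaf tT873))) (.node (.node (.node (.leaf tT233) (.leaf tT1257)) (.node (.leaf tT745) (.leaf tT1769))) (.node (.node (.leaf tT489) (.leaf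 tT1513)) (.leaf tT1001)))))) (.node (.node (.node (.node (.node (.node (.leaf tT25) (.leaf tT1049)) (.node (.leaf tT537) (.leaf tT1561))) (.node (.node (.leaf tT281) (.leaf tT1305)) (.node (.leaf tT793) (.leaf tT1817)))) (.node (.node (.node (.leaf tT153) (.leaf tT1177)) (.node (.leaf tT665) (.leaf tT1689))) (.node (.node (.leaf tT409) (.leaf tT1433)) (.leaf tT921)))) (.node (.node (.node (.node (.leaf tT89) (.leaf tT1113)) (.node (.leaf tT601) (.leaf tT1625))) (.node (.node (.leaf tT345) (.leaf tT1369)) (.node (.leaf tT857) (.leaf tT1881)))) (.node (.node (.node (.leaf tT217) (.leaf tT1241)) (.node (.leaf tT729) (.leaf tT1753))) (.node (.node (.leaf tT473) (.leaf tT1497)) (.leaf tT985))))) (.node (.node (.node (.node (.node (.leaf tT57) (.leaf tT1081)) (.node (.leaf tT569) (.leaf tT1593))) (.node (.node (.leaf tT313) (.leaf tT1337)) (.node (.leaf tT825) (.leaf tT1849)))) (.node (.node (.node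 (.leaf tT185) (.leaf tT1209)) (.node (.leaf tT697) (.leaf tT1721))) (.node (.node (.leaf tT441) (.leaf tT1465)) (.leaf tT953)))) (.node (.node (.node (.node (.leaf tT121) (.leaf tT1145)) (.node (.leaf tT633) (.leaf tT1657))) (.node (.node (.leaf tT377) (.leaf tT1401)) (.leaf tT889))) (.node (.node (.node (.leaf tT249) (.leaf tT1273)) (.node (.leaf tT761) (.leaf tT1785))) (.node (.node (.leaf tT505) (.leaf tT1529)) (.leaf tT1017)))))))) (.node (.node (.node (.node (.node (.node (.node (.node (.leaf tT5) (.leaf tT1029)) (.node (.leaf tT517) (.leaf tT1541))) (.node (.node (.leaf tT261) (.leaf tT1285)) (.node (.leaf tT773) (.leaf tT1797)))) (.node (.node (.node (.leaf tT133) (.leaf tT1157)) (.node (.leaf tT645) (.leaf tT1669))) (.node (.node (.leaf tT389) (.leaf tT1413)) (.leaf tT901)))) (.node (.node (.node (.node (.leaf tT69) (.leaf tT1093)) (.node (.leaf tT581) (.leaf tT1605))) (.node (.node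 (.leaf tT325) (.leaf tT1349)) (.node (.leaf tT837) (.leaf tT1861)))) (.node (.node (.node (.leaf tT197) (.leaf tT1221)) (.node (.leaf tT709) (.leaf tT1733))) (.node (.node (.leaf tT453) (.leaf tT1477)) (.leaf tT965))))) (.node (.node (.node (.node (.node (.leaf tT37) (.leaf tT1061)) (.node (.leaf tT549) (.leaf tT1573))) (.node (.node (.leaf tT293) (.leaf tT1317)) (.node (.leaf tT805) (.leaf tT1829)))) (.node (.node (.node (.leaf tT165) (.leaf tT1189)) (.node (.leaf tT677) (.leaf tT1701))) (.node (.node (.leaf tT421) (.leaf tT1445)) (.leaf tT933)))) (.node (.node (.node (.node (.leaf tT101) (.leaf tT1125)) (.node (.leaf tT613) (.leaf tT1637))) (.node (.node (.leaf tT357) (.leaf tT1381)) (.leaf tT869))) (.node (.node (.node (.leaf tT229) (.leaf tT1253)) (.node (.leaf tT741) (.leaf tT1765))) (.node (.node (.leaf tT485) (.leaf tT1509)) (.leaf tT997)))))) (.node (.node (.node (.node (.node (.node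 (.leaf tT21) (.leaf tT1045)) (.node (.leaf tT533) (.leaf tT1557))) (.node (.node (.leaf tT277) (.leaf tT1301)) (.node (.leaf tT789) (.leaf tT1813)))) (.node (.node (.node (.leaf tT149) (.leaf tT1173)) (.node (.leaf tT661) (.leaf tT1685))) (.node (.node (.leaf tT405) (.leaf tT1429)) (.leaf tT917)))) (.node (.node (.node (.node (.leaf tT85) (.leaf tT1109)) (.node (.leaf tT597) (.leaf tT1621))) (.node (.node (.leaf tT341) (.leaf tT1365)) (.node (.leaf tT853) (.leaf tT1877)))) (.node (.node (.node (.leaf tT213) (.leaf tT1237)) (.node (.leaf tT725) (.leaf tT1749))) (.node (.node (.leaf tT469) (.leaf tT1493)) (.leaf tT981))))) (.node (.node (.node (.node (.node (.leaf tT53) (.leaf tT1077)) (.node (.leaf tT565) (.leaf tT1589))) (.node (.node (.leaf tT309) (.leaf tT1333)) (.node (.leaf tT821) (.leaf tT1845)))) (.node (.node (.node (.leaf tT181) (.leaf tT1205)) (.node (.leaf tT693) (.leaf tT1717)))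 (.node (.node (.leaf tT437) (.leaf tT1461)) (.leaf tT949)))) (.node (.node (.node (.node (.leaf tT117) (.leaf tT1141)) (.node (.leaf tT629) (.leaf tT1653))) (.node (.node (.leaf tT373) (.leaf tT1397)) (.leaf tT885))) (.node (.node (.node (.leaf tT245) (.leaf tT1269)) (.node (.leaf tT757) (.leaf tT1781))) (.node (.node (.leaf tT501) (.leaf tT1525)) (.leaf tT1013))))))) (.node (.node (.node (.node (.node (.node (.node (.leaf tT13) (.leaf tT1037)) (.node (.leaf tT525) (.leaf tT1549))) (.node (.node (.leaf tT269) (.leaf tT1293)) (.node (.leaf tT781) (.leaf tT1805)))) (.node (.node (.node (.leaf tT141) (.leaf tT1165)) (.node (.leaf tT653) (.leaf tT1677))) (.node (.node (.leaf tT397) (.leaf tT1421)) (.leaf tT909)))) (.node (.node (.node (.node (.leaf tT77) (.leaf tT1101)) (.node (.leaf tT589) (.leaf tT1613))) (.node (.node (.leaf tT333) (.leaf tT1357)) (.node (.leaf tT845) (.leaf tT1869)))) (.node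 (.node (.node (.leaf tT205) (.leaf tT1229)) (.node (.leaf tT717) (.leaf tT1741))) (.node (.node (.leaf tT461) (.leaf tT1485)) (.leaf tT973))))) (.node (.node (.node (.node (.node (.leaf tT45) (.leaf tT1069)) (.node (.leaf tT557) (.leaf tT1581))) (.node (.node (.leaf tT301) (.leaf tT1325)) (.node (.leaf tT813) (.leaf tT1837)))) (.node (.node (.node (.leaf tT173) (.leaf tT1197)) (.node (.leaf tT685) (.leaf tT1709))) (.node (.node (.leaf tT429) (.leaf tT1453)) (.leaf tT941)))) (.node (.node (.node (.node (.leaf tT109) (.leaf tT1133)) (.node (.leaf tT621) (.leaf tT1645))) (.node (.node (.leaf tT365) (.leaf tT1389)) (.leaf tT877))) (.node (.node (.node (.leaf tT237) (.leaf tT1261)) (.node (.leaf tT749) (.leaf tT1773))) (.node (.node (.leaf tT493) (.leaf tT1517)) (.leaf tT1005)))))) (.node (.node (.node (.node (.node (.node (.leaf tT29) (.leaf tT1053)) (.node (.leaf tT541) (.leaf tT1565))) (.node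 (.node (.leaf tT285) (.leaf tT1309)) (.node (.leaf tT797) (.leaf tT1821)))) (.node (.node (.node (.leaf tT157) (.leaf tT1181)) (.node (.leaf tT669) (.leaf tT1693))) (.node (.node (.leaf tT413) (.leaf tT1437)) (.leaf tT925)))) (.node (.node (.node (.node (.leaf tT93) (.leaf tT1117)) (.node (.leaf tT605) (.leaf tT1629))) (.node (.node (.leaf tT349) (.leaf tT1373)) (.leaf tT861))) (.node (.node (.node (.leaf tT221) (.leaf tT1245)) (.node (.leaf tT733) (.leaf tT1757))) (.node (.node (.leaf tT477) (.leaf tT1501)) (.leaf tT989))))) (.node (.node (.node (.node (.node (.leaf tT61) (.leaf tT1085)) (.node (.leaf tT573) (.leaf tT1597))) (.node (.node (.leaf tT317) (.leaf tT1341)) (.node (.leaf tT829) (.leaf tT1853)))) (.node (.node (.node (.leaf tT189) (.leaf tT1213)) (.node (.leaf tT701) (.leaf tT1725))) (.node (.node (.leaf tT445) (.leaf tT1469)) (.leaf tT957)))) (.node (.node (.node (.node (.leaf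 tT125) (.leaf tT1149)) (.node (.leaf tT637) (.leaf tT1661))) (.node (.node (.leaf tT381) (.leaf tT1405)) (.leaf tT893))) (.node (.node (.node (.leaf tT253) (.leaf tT1277)) (.node (.leaf tT765) (.leaf tT1789))) (.node (.node (.leaf tT509) (.leaf tT1533)) (.leaf tT1021))))))))) (.node (.node (.node (.node (.node (.node (.node (.node (.node (.leaf tT3) (.leaf tT1027)) (.node (.leaf tT515) (.leaf tT1539))) (.node (.node (.leaf tT259) (.leaf tT1283)) (.node (.leaf tT771) (.leaf tT1795)))) (.node (.node (.node (.leaf tT131) (.leaf tT1155)) (.node (.leaf tT643) (.leaf tT1667))) (.node (.node (.leaf tT387) (.leaf tT1411)) (.leaf tT899)))) (.node (.node (.node (.node (.leaf tT67) (.leaf tT1091)) (.node (.leaf tT579) (.leaf tT1603))) (.node (.node (.leaf tT323) (.leaf tT1347)) (.node (.leaf tT835) (.leaf tT1859)))) (.node (.node (.node (.leaf tT195) (.leaf tT1219)) (.node (.leaf tT707) (.leaf tT1731)))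 (.node (.node (.leaf tT451) (.leaf tT1475)) (.leaf tT963))))) (.node (.node (.node (.node (.node (.leaf tT35) (.leaf tT1059)) (.node (.leaf tT547) (.leaf tT1571))) (.node (.node (.leaf tT291) (.leaf tT1315)) (.node (.leaf tT803) (.leaf tT1827)))) (.node (.node (.node (.leaf tT163) (.leaf tT1187)) (.node (.leaf tT675) (.leaf tT1699))) (.node (.node (.leaf tT419) (.leaf tT1443)) (.leaf tT931)))) (.node (.node (.node (.node (.leaf tT99) (.leaf tT1123)) (.node (.leaf tT611) (.leaf tT1635))) (.node (.node (.leaf tT355) (.leaf tT1379)) (.leaf tT867))) (.node (.node (.node (.leaf tT227) (.leaf tT1251)) (.node (.leaf tT739) (.leaf tT1763))) (.node (.node (.leaf tT483) (.leaf tT1507)) (.leaf tT995)))))) (.node (.node (.node (.node (.node (.node (.leaf tT19) (.leaf tT1043)) (.node (.leaf tT531) (.leaf tT1555))) (.node (.node (.leaf tT275) (.leaf tT1299)) (.node (.leaf tT787) (.leaf tT1811)))) (.node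 (.node (.node (.leaf tT147) (.leaf tT1171)) (.node (.leaf tT659) (.leaf tT1683))) (.node (.node (.leaf tT403) (.leaf tT1427)) (.leaf tT915)))) (.node (.node (.node (.node (.leaf tT83) (.leaf tT1107)) (.node (.leaf tT595) (.leaf tT1619))) (.node (.node (.leaf tT339) (.leaf tT1363)) (.node (.leaf tT851) (.leaf tT1875)))) (.node (.node (.node (.leaf tT211) (.leaf tT1235)) (.node (.leaf tT723) (.leaf tT1747))) (.node (.node (.leaf tT467) (.leaf tT1491)) (.leaf tT979))))) (.node (.node (.node (.node (.node (.leaf tT51) (.leaf tT1075)) (.node (.leaf tT563) (.leaf tT1587))) (.node (.node (.leaf tT307) (.leaf tT1331)) (.node (.leaf tT819) (.leaf tT1843)))) (.node (.node (.node (.leaf tT179) (.leaf tT1203)) (.node (.leaf tT691) (.leaf tT1715))) (.node (.node (.leaf tT435) (.leaf tT1459)) (.leaf tT947)))) (.node (.node (.node (.node (.leaf tT115) (.leaf tT1139)) (.node (.leaf tT627) (.leaf tT1651)))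 (.node (.node (.leaf tT371) (.leaf tT1395)) (.leaf tT883))) (.node (.node (.node (.leaf tT243) (.leaf tT1267)) (.node (.leaf tT755) (.leaf tT1779))) (.node (.node (.leaf tT499) (.leaf tT1523)) (.leaf tT1011))))))) (.node (.node (.node (.node (.node (.node (.node (.leaf tT11) (.leaf tT1035)) (.node (.leaf tT523) (.leaf tT1547))) (.node (.node (.leaf tT267) (.leaf tT1291)) (.node (.leaf tT779) (.leaf tT1803)))) (.node (.node (.node (.leaf tT139) (.leaf tT1163)) (.node (.leaf tT651) (.leaf tT1675))) (.node (.node (.leaf tT395) (.leaf tT1419)) (.leaf tT907)))) (.node (.node (.node (.node (.leaf tT75) (.leaf tT1099)) (.node (.leaf tT587) (.leaf tT1611))) (.node (.node (.leaf tT331) (.leaf tT1355)) (.node (.leaf tT843) (.leaf tT1867)))) (.node (.node (.node (.leaf tT203) (.leaf tT1227)) (.node (.leaf tT715) (.leaf tT1739))) (.node (.node (.leaf tT459) (.leaf tT1483)) (.leaf tT971))))) (.node (.node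 (.node (.node (.node (.leaf tT43) (.leaf tT1067)) (.node (.leaf tT555) (.leaf tT1579))) (.node (.node (.leaf tT299) (.leaf tT1323)) (.node (.leaf tT811) (.leaf tT1835)))) (.node (.node (.node (.leaf tT171) (.leaf tT1195)) (.node (.leaf tT683) (.leaf tT1707))) (.node (.node (.leaf tT427) (.leaf tT1451)) (.leaf tT939)))) (.node (.node (.node (.node (.leaf tT107) (.leaf tT1131)) (.node (.leaf tT619) (.leaf tT1643))) (.node (.node (.leaf tT363) (.leaf tT1387)) (.leaf tT875))) (.node (.node (.node (.leaf tT235) (.leaf tT1259)) (.node (.leaf tT747) (.leaf tT1771))) (.node (.node (.leaf tT491) (.leaf tT1515)) (.leaf tT1003)))))) (.node (.node (.node (.node (.node (.node (.leaf tT27) (.leaf tT1051)) (.node (.leaf tT539) (.leaf tT1563))) (.node (.node (.leaf tT283) (.leaf tT1307)) (.node (.leaf tT795) (.leaf tT1819)))) (.node (.node (.node (.leaf tT155) (.leaf tT1179)) (.node (.leaf tT667) (.leaf tT1691)))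 (.node (.node (.leaf tT411) (.leaf tT1435)) (.leaf tT923)))) (.node (.node (.node (.node (.leaf tT91) (.leaf tT1115)) (.node (.leaf tT603) (.leaf tT1627))) (.node (.node (.leaf tT347) (.leaf tT1371)) (.leaf tT859))) (.node (.node (.node (.leaf tT219) (.leaf tT1243)) (.node (.leaf tT731) (.leaf tT1755))) (.node (.node (.leaf tT475) (.leaf tT1499)) (.leaf tT987))))) (.node (.node (.node (.node (.node (.leaf tT59) (.leaf tT1083)) (.node (.leaf tT571) (.leaf tT1595))) (.node (.node (.leaf tT315) (.leaf tT1339)) (.node (.leaf tT827) (.leaf tT1851)))) (.node (.node (.node (.leaf tT187) (.leaf tT1211)) (.node (.leaf tT699) (.leaf tT1723))) (.node (.node (.leaf tT443) (.leaf tT1467)) (.leaf tT955)))) (.node (.node (.node (.node (.leaf tT123) (.leaf tT1147)) (.node (.leaf tT635) (.leaf tT1659))) (.node (.node (.leaf tT379) (.leaf tT1403)) (.leaf tT891))) (.node (.node (.node (.leaf tT251) (.leaf tT1275))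 (.node (.leaf tT763) (.leaf tT1787))) (.node (.node (.leaf tT507) (.leaf tT1531)) (.leaf tT1019)))))))) (.node (.node (.node (.node (.node (.node (.node (.node (.leaf tT7) (.leaf tT1031)) (.node (.leaf tT519) (.leaf tT1543))) (.node (.node (.leaf tT263) (.leaf tT1287)) (.node (.leaf tT775) (.leaf tT1799)))) (.node (.node (.node (.leaf tT135) (.leaf tT1159)) (.node (.leaf tT647) (.leaf tT1671))) (.node (.node (.leaf tT391) (.leaf tT1415)) (.leaf tT903)))) (.node (.node (.node (.node (.leaf tT71) (.leaf tT1095)) (.node (.leaf tT583) (.leaf tT1607))) (.node (.node (.leaf tT327) (.leaf tT1351)) (.node (.leaf tT839) (.leaf tT1863)))) (.node (.node (.node (.leaf tT199) (.leaf tT1223)) (.node (.leaf tT711) (.leaf tT1735))) (.node (.node (.leaf tT455) (.leaf tT1479)) (.leaf tT967))))) (.node (.node (.node (.node (.node (.leaf tT39) (.leaf tT1063)) (.node (.leaf tT551) (.leaf tT1575))) (.node (.node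 (.leaf tT295) (.leaf tT1319)) (.node (.leaf tT807) (.leaf tT1831)))) (.node (.node (.node (.leaf tT167) (.leaf tT1191)) (.node (.leaf tT679) (.leaf tT1703))) (.node (.node (.leaf tT423) (.leaf tT1447)) (.leaf tT935)))) (.node (.node (.node (.node (.leaf tT103) (.leaf tT1127)) (.node (.leaf tT615) (.leaf tT1639))) (.node (.node (.leaf tT359) (.leaf tT1383)) (.leaf tT871))) (.node (.node (.node (.leaf tT231) (.leaf tT1255)) (.node (.leaf tT743) (.leaf tT1767))) (.node (.node (.leaf tT487) (.leaf tT1511)) (.leaf tT999)))))) (.node (.node (.node (.node (.node (.node (.leaf tT23) (.leaf tT1047)) (.node (.leaf tT535) (.leaf tT1559))) (.node (.node (.leaf tT279) (.leaf tT1303)) (.node (.leaf tT791) (.leaf tT1815)))) (.node (.node (.node (.leaf tT151) (.leaf tT1175)) (.node (.leaf tT663) (.leaf tT1687))) (.node (.node (.leaf tT407) (.leaf tT1431)) (.leaf tT919)))) (.node (.node (.node (.node (.leaf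 tT87) (.leaf tT1111)) (.node (.leaf tT599) (.leaf tT1623))) (.node (.node (.leaf tT343) (.leaf tT1367)) (.node (.leaf tT855) (.leaf tT1879)))) (.node (.node (.node (.leaf tT215) (.leaf tT1239)) (.node (.leaf tT727) (.leaf tT1751))) (.node (.node (.leaf tT471) (.leaf tT1495)) (.leaf tT983))))) (.node (.node (.node (.node (.node (.leaf tT55) (.leaf tT1079)) (.node (.leaf tT567) (.leaf tT1591))) (.node (.node (.leaf tT311) (.leaf tT1335)) (.node (.leaf tT823) (.leaf tT1847)))) (.node (.node (.node (.leaf tT183) (.leaf tT1207)) (.node (.leaf tT695) (.leaf tT1719))) (.node (.node (.leaf tT439) (.leaf tT1463)) (.leaf tT951)))) (.node (.node (.node (.node (.leaf tT119) (.leaf tT1143)) (.node (.leaf tT631) (.leaf tT1655))) (.node (.node (.leaf tT375) (.leaf tT1399)) (.leaf tT887))) (.node (.node (.node (.leaf tT247) (.leaf tT1271)) (.node (.leaf tT759) (.leaf tT1783))) (.node (.node (.leaf tT503)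 (.leaf tT1527)) (.leaf tT1015))))))) (.node (.node (.node (.node (.node (.node (.node (.leaf tT15) (.leaf tT1039)) (.node (.leaf tT527) (.leaf tT1551))) (.node (.node (.leaf tT271) (.leaf tT1295)) (.node (.leaf tT783) (.leaf tT1807)))) (.node (.node (.node (.leaf tT143) (.leaf tT1167)) (.node (.leaf tT655) (.leaf tT1679))) (.node (.node (.leaf tT399) (.leaf tT1423)) (.leaf tT911)))) (.node (.node (.node (.node (.leaf tT79) (.leaf tT1103)) (.node (.leaf tT591) (.leaf tT1615))) (.node (.node (.leaf tT335) (.leaf tT1359)) (.node (.leaf tT847) (.leaf tT1871)))) (.node (.node (.node (.leaf tT207) (.leaf tT1231)) (.node (.leaf tT719) (.leaf tT1743))) (.node (.node (.leaf tT463) (.leaf tT1487)) (.leaf tT975))))) (.node (.node (.node (.node (.node (.leaf tT47) (.leaf tT1071)) (.node (.leaf tT559) (.leaf tT1583))) (.node (.node (.leaf tT303) (.leaf tT1327)) (.node (.leaf tT815) (.leaf tT1839)))) (.node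 (.node (.node (.leaf tT175) (.leaf tT1199)) (.node (.leaf tT687) (.leaf tT1711))) (.node (.node (.leaf tT431) (.leaf tT1455)) (.leaf tT943)))) (.node (.node (.node (.node (.leaf tT111) (.leaf tT1135)) (.node (.leaf tT623) (.leaf tT1647))) (.node (.node (.leaf tT367) (.leaf tT1391)) (.leaf tT879))) (.node (.node (.node (.leaf tT239) (.leaf tT1263)) (.node (.leaf tT751) (.leaf tT1775))) (.node (.node (.leaf tT495) (.leaf tT1519)) (.leaf tT1007)))))) (.node (.node (.node (.node (.node (.node (.leaf tT31) (.leaf tT1055)) (.node (.leaf tT543) (.leaf tT1567))) (.node (.node (.leaf tT287) (.leaf tT1311)) (.node (.leaf tT799) (.leaf tT1823)))) (.node (.node (.node (.leaf tT159) (.leaf tT1183)) (.node (.leaf tT671) (.leaf tT1695))) (.node (.node (.leaf tT415) (.leaf tT1439)) (.leaf tT927)))) (.node (.node (.node (.node (.leaf tT95) (.leaf tT1119)) (.node (.leaf tT607) (.leaf tT1631))) (.node (.node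 (.leaf tT351) (.leaf tT1375)) (.leaf tT863))) (.node (.node (.node (.leaf tT223) (.leaf tT1247)) (.node (.leaf tT735) (.leaf tT1759))) (.node (.node (.leaf tT479) (.leaf tT1503)) (.leaf tT991))))) (.node (.node (.node (.node (.node (.leaf tT63) (.leaf tT1087)) (.node (.leaf tT575) (.leaf tT1599))) (.node (.node (.leaf tT319) (.leaf tT1343)) (.node (.leaf tT831) (.leaf tT1855)))) (.node (.node (.node (.leaf tT191) (.leaf tT1215)) (.node (.leaf tT703) (.leaf tT1727))) (.node (.node (.leaf tT447) (.leaf tT1471)) (.leaf tT959)))) (.node (.node (.node (.node (.leaf tT127) (.leaf tT1151)) (.node (.leaf tT639) (.leaf tT1663))) (.node (.node (.leaf tT383) (.leaf tT1407)) (.leaf tT895))) (.node (.node (.node (.leaf tT255) (.leaf tT1279)) (.node (.leaf tT767) (.leaf tT1791))) (.node (.node (.leaf tT511) (.leaf tT1535)) (.leaf tT1023)))))))))))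
noncomputable def tJ : Tr := (.node (.node (.node (.node (.node (.node (.node (.node (.node (.node (.leaf tJ0) (.leaf tJ512)) (.node (.leaf tJ256) (.leaf tJ768))) (.node (.node (.leaf tJ128) (.leaf tJ640)) (.node (.leaf tJ384) (.leaf tJ896)))) (.node (.node (.node (.leaf tJ64) (.leaf tJ576)) (.node (.leaf tJ320) (.leaf tJ832))) (.node (.node (.leaf tJ192) (.leaf tJ704)) (.leaf tJ448)))) (.node (.node (.node (.node (.leaf tJ32) (.leaf tJ544)) (.node (.leaf tJ288) (.leaf tJ800))) (.node (.node (.leaf tJ160) (.leaf tJ672)) (.node (.leaf tJ416) (.leaf tJ928)))) (.node (.node (.node (.leaf tJ96) (.leaf tJ608)) (.node (.leaf tJ352) (.leaf tJ864))) (.node (.node (.leaf tJ224) (.leaf tJ736)) (.leaf tJ480))))) (.node (.node (.node (.node (.node (.leaf tJ16) (.leaf tJ528)) (.node (.leaf tJ272) (.leaf tJ784))) (.node (.node (.leaf tJ144) (.leaf tJ656)) (.node (.leaf tJ400) (.leaf tJ912)))) (.node (.node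 (.node (.leaf tJ80) (.leaf tJ592)) (.node (.leaf tJ336) (.leaf tJ848))) (.node (.node (.leaf tJ208) (.leaf tJ720)) (.leaf tJ464)))) (.node (.node (.node (.node (.leaf tJ48) (.leaf tJ560)) (.node (.leaf tJ304) (.leaf tJ816))) (.node (.node (.leaf tJ176) (.leaf tJ688)) (.leaf tJ432))) (.node (.node (.node (.leaf tJ112) (.leaf tJ624)) (.node (.leaf tJ368) (.leaf tJ880))) (.node (.node (.leaf tJ240) (.leaf tJ752)) (.leaf tJ496)))))) (.node (.node (.node (.node (.node (.node (.leaf tJ8) (.leaf tJ520)) (.node (.leaf tJ264) (.leaf tJ776))) (.node (.node (.leaf tJ136) (.leaf tJ648)) (.node (.leaf tJ392) (.leaf tJ904)))) (.node (.node (.node (.leaf tJ72) (.leaf tJ584)) (.node (.leaf tJ328) (.leaf tJ840))) (.node (.node (.leaf tJ200) (.leaf tJ712)) (.leaf tJ456)))) (.node (.node (.node (.node (.leaf tJ40) (.leaf tJ552)) (.node (.leaf tJ296) (.leaf tJ808))) (.node (.node (.leaf tJ168) (.leaf tJ680))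 (.node (.leaf tJ424) (.leaf tJ936)))) (.node (.node (.node (.leaf tJ104) (.leaf tJ616)) (.node (.leaf tJ360) (.leaf tJ872))) (.node (.node (.leaf tJ232) (.leaf tJ744)) (.leaf tJ488))))) (.node (.node (.node (.node (.node (.leaf tJ24) (.leaf tJ536)) (.node (.leaf tJ280) (.leaf tJ792))) (.node (.node (.leaf tJ152) (.leaf tJ664)) (.node (.leaf tJ408) (.leaf tJ920)))) (.node (.node (.node (.leaf tJ88) (.leaf tJ600)) (.node (.leaf tJ344) (.leaf tJ856))) (.node (.node (.leaf tJ216) (.leaf tJ728)) (.leaf tJ472)))) (.node (.node (.node (.node (.leaf tJ56) (.leaf tJ568)) (.node (.leaf tJ312) (.leaf tJ824))) (.node (.node (.leaf tJ184) (.leaf tJ696)) (.leaf tJ440))) (.node (.node (.node (.leaf tJ120) (.leaf tJ632)) (.node (.leaf tJ376) (.leaf tJ888))) (.node (.node (.leaf tJ248) (.leaf tJ760)) (.leaf tJ504))))))) (.node (.node (.node (.node (.node (.node (.node (.leaf tJ4) (.leaf tJ516)) (.node (.leaf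 tJ260) (.leaf tJ772))) (.node (.node (.leaf tJ132) (.leaf tJ644)) (.node (.leaf tJ388) (.leaf tJ900)))) (.node (.node (.node (.leaf tJ68) (.leaf tJ580)) (.node (.leaf tJ324) (.leaf tJ836))) (.node (.node (.leaf tJ196) (.leaf tJ708)) (.leaf tJ452)))) (.node (.node (.node (.node (.leaf tJ36) (.leaf tJ548)) (.node (.leaf tJ292) (.leaf tJ804))) (.node (.node (.leaf tJ164) (.leaf tJ676)) (.node (.leaf tJ420) (.leaf tJ932)))) (.node (.node (.node (.leaf tJ100) (.leaf tJ612)) (.node (.leaf tJ356) (.leaf tJ868))) (.node (.node (.leaf tJ228) (.leaf tJ740)) (.leaf tJ484))))) (.node (.node (.node (.node (.node (.leaf tJ20) (.leaf tJ532)) (.node (.leaf tJ276) (.leaf tJ788))) (.node (.node (.leaf tJ148) (.leaf tJ660)) (.node (.leaf tJ404) (.leaf tJ916)))) (.node (.node (.node (.leaf tJ84) (.leaf tJ596)) (.node (.leaf tJ340) (.leaf tJ852))) (.node (.node (.leaf tJ212) (.leaf tJ724)) (.leaf tJ468)))) (.node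 (.node (.node (.node (.leaf tJ52) (.leaf tJ564)) (.node (.leaf tJ308) (.leaf tJ820))) (.node (.node (.leaf tJ180) (.leaf tJ692)) (.leaf tJ436))) (.node (.node (.node (.leaf tJ116) (.leaf tJ628)) (.node (.leaf tJ372) (.leaf tJ884))) (.node (.node (.leaf tJ244) (.leaf tJ756)) (.leaf tJ500)))))) (.node (.node (.node (.node (.node (.node (.leaf tJ12) (.leaf tJ524)) (.node (.leaf tJ268) (.leaf tJ780))) (.node (.node (.leaf tJ140) (.leaf tJ652)) (.node (.leaf tJ396) (.leaf tJ908)))) (.node (.node (.node (.leaf tJ76) (.leaf tJ588)) (.node (.leaf tJ332) (.leaf tJ844))) (.node (.node (.leaf tJ204) (.leaf tJ716)) (.leaf tJ460)))) (.node (.node (.node (.node (.leaf tJ44) (.leaf tJ556)) (.node (.leaf tJ300) (.leaf tJ812))) (.node (.node (.leaf tJ172) (.leaf tJ684)) (.node (.leaf tJ428) (.leaf tJ940)))) (.node (.node (.node (.leaf tJ108) (.leaf tJ620)) (.node (.leaf tJ364) (.leaf tJ876))) (.node (.node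 (.leaf tJ236) (.leaf tJ748)) (.leaf tJ492))))) (.node (.node (.node (.node (.node (.leaf tJ28) (.leaf tJ540)) (.node (.leaf tJ284) (.leaf tJ796))) (.node (.node (.leaf tJ156) (.leaf tJ668)) (.node (.leaf tJ412) (.leaf tJ924)))) (.node (.node (.node (.leaf tJ92) (.leaf tJ604)) (.node (.leaf tJ348) (.leaf tJ860))) (.node (.node (.leaf tJ220) (.leaf tJ732)) (.leaf tJ476)))) (.node (.node (.node (.node (.leaf tJ60) (.leaf tJ572)) (.node (.leaf tJ316) (.leaf tJ828))) (.node (.node (.leaf tJ188) (.leaf tJ700)) (.leaf tJ444))) (.node (.node (.node (.leaf tJ124) (.leaf tJ636)) (.node (.leaf tJ380) (.leaf tJ892))) (.node (.node (.leaf tJ252) (.leaf tJ764)) (.leaf tJ508)))))))) (.node (.node (.node (.node (.node (.node (.node (.node (.leaf tJ2) (.leaf tJ514)) (.node (.leaf tJ258) (.leaf tJ770))) (.node (.node (.leaf tJ130) (.leaf tJ642)) (.node (.leaf tJ386) (.leaf tJ898)))) (.node (.node (.node (.leaf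 tJ66) (.leaf tJ578)) (.node (.leaf tJ322) (.leaf tJ834))) (.node (.node (.leaf tJ194) (.leaf tJ706)) (.leaf tJ450)))) (.node (.node (.node (.node (.leaf tJ34) (.leaf tJ546)) (.node (.leaf tJ290) (.leaf tJ802))) (.node (.node (.leaf tJ162) (.leaf tJ674)) (.node (.leaf tJ418) (.leaf tJ930)))) (.node (.node (.node (.leaf tJ98) (.leaf tJ610)) (.node (.leaf tJ354) (.leaf tJ866))) (.node (.node (.leaf tJ226) (.leaf tJ738)) (.leaf tJ482))))) (.node (.node (.node (.node (.node (.leaf tJ18) (.leaf tJ530)) (.node (.leaf tJ274) (.leaf tJ786))) (.node (.node (.leaf tJ146) (.leaf tJ658)) (.node (.leaf tJ402) (.leaf tJ914)))) (.node (.node (.node (.leaf tJ82) (.leaf tJ594)) (.node (.leaf tJ338) (.leaf tJ850))) (.node (.node (.leaf tJ210) (.leaf tJ722)) (.leaf tJ466)))) (.node (.node (.node (.node (.leaf tJ50) (.leaf tJ562)) (.node (.leaf tJ306) (.leaf tJ818))) (.node (.node (.leaf tJ178) (.leaf tJ690))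 (.leaf tJ434))) (.node (.node (.node (.leaf tJ114) (.leaf tJ626)) (.node (.leaf tJ370) (.leaf tJ882))) (.node (.node (.leaf tJ242) (.leaf tJ754)) (.leaf tJ498)))))) (.node (.node (.node (.node (.node (.node (.leaf tJ10) (.leaf tJ522)) (.node (.leaf tJ266) (.leaf tJ778))) (.node (.node (.leaf tJ138) (.leaf tJ650)) (.node (.leaf tJ394) (.leaf tJ906)))) (.node (.node (.node (.leaf tJ74) (.leaf tJ586)) (.node (.leaf tJ330) (.leaf tJ842))) (.node (.node (.leaf tJ202) (.leaf tJ714)) (.leaf tJ458)))) (.node (.node (.node (.node (.leaf tJ42) (.leaf tJ554)) (.node (.leaf tJ298) (.leaf tJ810))) (.node (.node (.leaf tJ170) (.leaf tJ682)) (.node (.leaf tJ426) (.leaf tJ938)))) (.node (.node (.node (.leaf tJ106) (.leaf tJ618)) (.node (.leaf tJ362) (.leaf tJ874))) (.node (.node (.leaf tJ234) (.leaf tJ746)) (.leaf tJ490))))) (.node (.node (.node (.node (.node (.leaf tJ26) (.leaf tJ538)) (.node (.leaf tJ282)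 (.leaf tJ794))) (.node (.node (.leaf tJ154) (.leaf tJ666)) (.node (.leaf tJ410) (.leaf tJ922)))) (.node (.node (.node (.leaf tJ90) (.leaf tJ602)) (.node (.leaf tJ346) (.leaf tJ858))) (.node (.node (.leaf tJ218) (.leaf tJ730)) (.leaf tJ474)))) (.node (.node (.node (.node (.leaf tJ58) (.leaf tJ570)) (.node (.leaf tJ314) (.leaf tJ826))) (.node (.node (.leaf tJ186) (.leaf tJ698)) (.leaf tJ442))) (.node (.node (.node (.leaf tJ122) (.leaf tJ634)) (.node (.leaf tJ378) (.leaf tJ890))) (.node (.node (.leaf tJ250) (.leaf tJ762)) (.leaf tJ506))))))) (.node (.node (.node (.node (.node (.node (.node (.leaf tJ6) (.leaf tJ518)) (.node (.leaf tJ262) (.leaf tJ774))) (.node (.node (.leaf tJ134) (.leaf tJ646)) (.node (.leaf tJ390) (.leaf tJ902)))) (.node (.node (.node (.leaf tJ70) (.leaf tJ582)) (.node (.leaf tJ326) (.leaf tJ838))) (.node (.node (.leaf tJ198) (.leaf tJ710)) (.leaf tJ454)))) (.node (.node (.node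 (.node (.leaf tJ38) (.leaf tJ550)) (.node (.leaf tJ294) (.leaf tJ806))) (.node (.node (.leaf tJ166) (.leaf tJ678)) (.node (.leaf tJ422) (.leaf tJ934)))) (.node (.node (.node (.leaf tJ102) (.leaf tJ614)) (.node (.leaf tJ358) (.leaf tJ870))) (.node (.node (.leaf tJ230) (.leaf tJ742)) (.leaf tJ486))))) (.node (.node (.node (.node (.node (.leaf tJ22) (.leaf tJ534)) (.node (.leaf tJ278) (.leaf tJ790))) (.node (.node (.leaf tJ150) (.leaf tJ662)) (.node (.leaf tJ406) (.leaf tJ918)))) (.node (.node (.node (.leaf tJ86) (.leaf tJ598)) (.node (.leaf tJ342) (.leaf tJ854))) (.node (.node (.leaf tJ214) (.leaf tJ726)) (.leaf tJ470)))) (.node (.node (.node (.node (.leaf tJ54) (.leaf tJ566)) (.node (.leaf tJ310) (.leaf tJ822))) (.node (.node (.leaf tJ182) (.leaf tJ694)) (.leaf tJ438))) (.node (.node (.node (.leaf tJ118) (.leaf tJ630)) (.node (.leaf tJ374) (.leaf tJ886))) (.node (.node (.leaf tJ246) (.leaf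 tJ758)) (.leaf tJ502)))))) (.node (.node (.node (.node (.node (.node (.leaf tJ14) (.leaf tJ526)) (.node (.leaf tJ270) (.leaf tJ782))) (.node (.node (.leaf tJ142) (.leaf tJ654)) (.node (.leaf tJ398) (.leaf tJ910)))) (.node (.node (.node (.leaf tJ78) (.leaf tJ590)) (.node (.leaf tJ334) (.leaf tJ846))) (.node (.node (.leaf tJ206) (.leaf tJ718)) (.leaf tJ462)))) (.node (.node (.node (.node (.leaf tJ46) (.leaf tJ558)) (.node (.leaf tJ302) (.leaf tJ814))) (.node (.node (.leaf tJ174) (.leaf tJ686)) (.leaf tJ430))) (.node (.node (.node (.leaf tJ110) (.leaf tJ622)) (.node (.leaf tJ366) (.leaf tJ878))) (.node (.node (.leaf tJ238) (.leaf tJ750)) (.leaf tJ494))))) (.node (.node (.node (.node (.node (.leaf tJ30) (.leaf tJ542)) (.node (.leaf tJ286) (.leaf tJ798))) (.node (.node (.leaf tJ158) (.leaf tJ670)) (.node (.leaf tJ414) (.leaf tJ926)))) (.node (.node (.node (.leaf tJ94) (.leaf tJ606)) (.node (.leaf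 tJ350) (.leaf tJ862))) (.node (.node (.leaf tJ222) (.leaf tJ734)) (.leaf tJ478)))) (.node (.node (.node (.node (.leaf tJ62) (.leaf tJ574)) (.node (.leaf tJ318) (.leaf tJ830))) (.node (.node (.leaf tJ190) (.leaf tJ702)) (.leaf tJ446))) (.node (.node (.node (.leaf tJ126) (.leaf tJ638)) (.node (.leaf tJ382) (.leaf tJ894))) (.node (.node (.leaf tJ254) (.leaf tJ766)) (.leaf tJ510))))))))) (.node (.node (.node (.node (.node (.node (.node (.node (.node (.leaf tJ1) (.leaf tJ513)) (.node (.leaf tJ257) (.leaf tJ769))) (.node (.node (.leaf tJ129) (.leaf tJ641)) (.node (.leaf tJ385) (.leaf tJ897)))) (.node (.node (.node (.leaf tJ65) (.leaf tJ577)) (.node (.leaf tJ321) (.leaf tJ833))) (.node (.node (.leaf tJ193) (.leaf tJ705)) (.leaf tJ449)))) (.node (.node (.node (.node (.leaf tJ33) (.leaf tJ545)) (.node (.leaf tJ289) (.leaf tJ801))) (.node (.node (.leaf tJ161) (.leaf tJ673)) (.node (.leaf tJ417) (.leaf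 tJ929)))) (.node (.node (.node (.leaf tJ97) (.leaf tJ609)) (.node (.leaf tJ353) (.leaf tJ865))) (.node (.node (.leaf tJ225) (.leaf tJ737)) (.leaf tJ481))))) (.node (.node (.node (.node (.node (.leaf tJ17) (.leaf tJ529)) (.node (.leaf tJ273) (.leaf tJ785))) (.node (.node (.leaf tJ145) (.leaf tJ657)) (.node (.leaf tJ401) (.leaf tJ913)))) (.node (.node (.node (.leaf tJ81) (.leaf tJ593)) (.node (.leaf tJ337) (.leaf tJ849))) (.node (.node (.leaf tJ209) (.leaf tJ721)) (.leaf tJ465)))) (.node (.node (.node (.node (.leaf tJ49) (.leaf tJ561)) (.node (.leaf tJ305) (.leaf tJ817))) (.node (.node (.leaf tJ177) (.leaf tJ689)) (.leaf tJ433))) (.node (.node (.node (.leaf tJ113) (.leaf tJ625)) (.node (.leaf tJ369) (.leaf tJ881))) (.node (.node (.leaf tJ241) (.leaf tJ753)) (.leaf tJ497)))))) (.node (.node (.node (.node (.node (.node (.leaf tJ9) (.leaf tJ521)) (.node (.leaf tJ265) (.leaf tJ777))) (.node (.node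 (.leaf tJ137) (.leaf tJ649)) (.node (.leaf tJ393) (.leaf tJ905)))) (.node (.node (.node (.leaf tJ73) (.leaf tJ585)) (.node (.leaf tJ329) (.leaf tJ841))) (.node (.node (.leaf tJ201) (.leaf tJ713)) (.leaf tJ457)))) (.node (.node (.node (.node (.leaf tJ41) (.leaf tJ553)) (.node (.leaf tJ297) (.leaf tJ809))) (.node (.node (.leaf tJ169) (.leaf tJ681)) (.node (.leaf tJ425) (.leaf tJ937)))) (.node (.node (.node (.leaf tJ105) (.leaf tJ617)) (.node (.leaf tJ361) (.leaf tJ873))) (.node (.node (.leaf tJ233) (.leaf tJ745)) (.leaf tJ489))))) (.node (.node (.node (.node (.node (.leaf tJ25) (.leaf tJ537)) (.node (.leaf tJ281) (.leaf tJ793))) (.node (.node (.leaf tJ153) (.leaf tJ665)) (.node (.leaf tJ409) (.leaf tJ921)))) (.node (.node (.node (.leaf tJ89) (.leaf tJ601)) (.node (.leaf tJ345) (.leaf tJ857))) (.node (.node (.leaf tJ217) (.leaf tJ729)) (.leaf tJ473)))) (.node (.node (.node (.node (.leaf tJ57)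 (.leaf tJ569)) (.node (.leaf tJ313) (.leaf tJ825))) (.node (.node (.leaf tJ185) (.leaf tJ697)) (.leaf tJ441))) (.node (.node (.node (.leaf tJ121) (.leaf tJ633)) (.node (.leaf tJ377) (.leaf tJ889))) (.node (.node (.leaf tJ249) (.leaf tJ761)) (.leaf tJ505))))))) (.node (.node (.node (.node (.node (.node (.node (.leaf tJ5) (.leaf tJ517)) (.node (.leaf tJ261) (.leaf tJ773))) (.node (.node (.leaf tJ133) (.leaf tJ645)) (.node (.leaf tJ389) (.leaf tJ901)))) (.node (.node (.node (.leaf tJ69) (.leaf tJ581)) (.node (.leaf tJ325) (.leaf tJ837))) (.node (.node (.leaf tJ197) (.leaf tJ709)) (.leaf tJ453)))) (.node (.node (.node (.node (.leaf tJ37) (.leaf tJ549)) (.node (.leaf tJ293) (.leaf tJ805))) (.node (.node (.leaf tJ165) (.leaf tJ677)) (.node (.leaf tJ421) (.leaf tJ933)))) (.node (.node (.node (.leaf tJ101) (.leaf tJ613)) (.node (.leaf tJ357) (.leaf tJ869))) (.node (.node (.leaf tJ229) (.leaf tJ741))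 (.leaf tJ485))))) (.node (.node (.node (.node (.node (.leaf tJ21) (.leaf tJ533)) (.node (.leaf tJ277) (.leaf tJ789))) (.node (.node (.leaf tJ149) (.leaf tJ661)) (.node (.leaf tJ405) (.leaf tJ917)))) (.node (.node (.node (.leaf tJ85) (.leaf tJ597)) (.node (.leaf tJ341) (.leaf tJ853))) (.node (.node (.leaf tJ213) (.leaf tJ725)) (.leaf tJ469)))) (.node (.node (.node (.node (.leaf tJ53) (.leaf tJ565)) (.node (.leaf tJ309) (.leaf tJ821))) (.node (.node (.leaf tJ181) (.leaf tJ693)) (.leaf tJ437))) (.node (.node (.node (.leaf tJ117) (.leaf tJ629)) (.node (.leaf tJ373) (.leaf tJ885))) (.node (.node (.leaf tJ245) (.leaf tJ757)) (.leaf tJ501)))))) (.node (.node (.node (.node (.node (.node (.leaf tJ13) (.leaf tJ525)) (.node (.leaf tJ269) (.leaf tJ781))) (.node (.node (.leaf tJ141) (.leaf tJ653)) (.node (.leaf tJ397) (.leaf tJ909)))) (.node (.node (.node (.leaf tJ77) (.leaf tJ589)) (.node (.leaf tJ333)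 (.leaf tJ845))) (.node (.node (.leaf tJ205) (.leaf tJ717)) (.leaf tJ461)))) (.node (.node (.node (.node (.leaf tJ45) (.leaf tJ557)) (.node (.leaf tJ301) (.leaf tJ813))) (.node (.node (.leaf tJ173) (.leaf tJ685)) (.node (.leaf tJ429) (.leaf tJ941)))) (.node (.node (.node (.leaf tJ109) (.leaf tJ621)) (.node (.leaf tJ365) (.leaf tJ877))) (.node (.node (.leaf tJ237) (.leaf tJ749)) (.leaf tJ493))))) (.node (.node (.node (.node (.node (.leaf tJ29) (.leaf tJ541)) (.node (.leaf tJ285) (.leaf tJ797))) (.node (.node (.leaf tJ157) (.leaf tJ669)) (.node (.leaf tJ413) (.leaf tJ925)))) (.node (.node (.node (.leaf tJ93) (.leaf tJ605)) (.node (.leaf tJ349) (.leaf tJ861))) (.node (.node (.leaf tJ221) (.leaf tJ733)) (.leaf tJ477)))) (.node (.node (.node (.node (.leaf tJ61) (.leaf tJ573)) (.node (.leaf tJ317) (.leaf tJ829))) (.node (.node (.leaf tJ189) (.leaf tJ701)) (.leaf tJ445))) (.node (.node (.node (.leaf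 tJ125) (.leaf tJ637)) (.node (.leaf tJ381) (.leaf tJ893))) (.node (.node (.leaf tJ253) (.leaf tJ765)) (.leaf tJ509)))))))) (.node (.node (.node (.node (.node (.node (.node (.node (.leaf tJ3) (.leaf tJ515)) (.node (.leaf tJ259) (.leaf tJ771))) (.node (.node (.leaf tJ131) (.leaf tJ643)) (.node (.leaf tJ387) (.leaf tJ899)))) (.node (.node (.node (.leaf tJ67) (.leaf tJ579)) (.node (.leaf tJ323) (.leaf tJ835))) (.node (.node (.leaf tJ195) (.leaf tJ707)) (.leaf tJ451)))) (.node (.node (.node (.node (.leaf tJ35) (.leaf tJ547)) (.node (.leaf tJ291) (.leaf tJ803))) (.node (.node (.leaf tJ163) (.leaf tJ675)) (.node (.leaf tJ419) (.leaf tJ931)))) (.node (.node (.node (.leaf tJ99) (.leaf tJ611)) (.node (.leaf tJ355) (.leaf tJ867))) (.node (.node (.leaf tJ227) (.leaf tJ739)) (.leaf tJ483))))) (.node (.node (.node (.node (.node (.leaf tJ19) (.leaf tJ531)) (.node (.leaf tJ275) (.leaf tJ787))) (.node (.node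 (.leaf tJ147) (.leaf tJ659)) (.node (.leaf tJ403) (.leaf tJ915)))) (.node (.node (.node (.leaf tJ83) (.leaf tJ595)) (.node (.leaf tJ339) (.leaf tJ851))) (.node (.node (.leaf tJ211) (.leaf tJ723)) (.leaf tJ467)))) (.node (.node (.node (.node (.leaf tJ51) (.leaf tJ563)) (.node (.leaf tJ307) (.leaf tJ819))) (.node (.node (.leaf tJ179) (.leaf tJ691)) (.leaf tJ435))) (.node (.node (.node (.leaf tJ115) (.leaf tJ627)) (.node (.leaf tJ371) (.leaf tJ883))) (.node (.node (.leaf tJ243) (.leaf tJ755)) (.leaf tJ499)))))) (.node (.node (.node (.node (.node (.node (.leaf tJ11) (.leaf tJ523)) (.node (.leaf tJ267) (.leaf tJ779))) (.node (.node (.leaf tJ139) (.leaf tJ651)) (.node (.leaf tJ395) (.leaf tJ907)))) (.node (.node (.node (.leaf tJ75) (.leaf tJ587)) (.node (.leaf tJ331) (.leaf tJ843))) (.node (.node (.leaf tJ203) (.leaf tJ715)) (.leaf tJ459)))) (.node (.node (.node (.node (.leaf tJ43) (.leaf tJ555))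 (.node (.leaf tJ299) (.leaf tJ811))) (.node (.node (.leaf tJ171) (.leaf tJ683)) (.node (.leaf tJ427) (.leaf tJ939)))) (.node (.node (.node (.leaf tJ107) (.leaf tJ619)) (.node (.leaf tJ363) (.leaf tJ875))) (.node (.node (.leaf tJ235) (.leaf tJ747)) (.leaf tJ491))))) (.node (.node (.node (.node (.node (.leaf tJ27) (.leaf tJ539)) (.node (.leaf tJ283) (.leaf tJ795))) (.node (.node (.leaf tJ155) (.leaf tJ667)) (.node (.leaf tJ411) (.leaf tJ923)))) (.node (.node (.node (.leaf tJ91) (.leaf tJ603)) (.node (.leaf tJ347) (.leaf tJ859))) (.node (.node (.leaf tJ219) (.leaf tJ731)) (.leaf tJ475)))) (.node (.node (.node (.node (.leaf tJ59) (.leaf tJ571)) (.node (.leaf tJ315) (.leaf tJ827))) (.node (.node (.leaf tJ187) (.leaf tJ699)) (.leaf tJ443))) (.node (.node (.node (.leaf tJ123) (.leaf tJ635)) (.node (.leaf tJ379) (.leaf tJ891))) (.node (.node (.leaf tJ251) (.leaf tJ763)) (.leaf tJ507))))))) (.node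 (.node (.node (.node (.node (.node (.node (.leaf tJ7) (.leaf tJ519)) (.node (.leaf tJ263) (.leaf tJ775))) (.node (.node (.leaf tJ135) (.leaf tJ647)) (.node (.leaf tJ391) (.leaf tJ903)))) (.node (.node (.node (.leaf tJ71) (.leaf tJ583)) (.node (.leaf tJ327) (.leaf tJ839))) (.node (.node (.leaf tJ199) (.leaf tJ711)) (.leaf tJ455)))) (.node (.node (.node (.node (.leaf tJ39) (.leaf tJ551)) (.node (.leaf tJ295) (.leaf tJ807))) (.node (.node (.leaf tJ167) (.leaf tJ679)) (.node (.leaf tJ423) (.leaf tJ935)))) (.node (.node (.node (.leaf tJ103) (.leaf tJ615)) (.node (.leaf tJ359) (.leaf tJ871))) (.node (.node (.leaf tJ231) (.leaf tJ743)) (.leaf tJ487))))) (.node (.node (.node (.node (.node (.leaf tJ23) (.leaf tJ535)) (.node (.leaf tJ279) (.leaf tJ791))) (.node (.node (.leaf tJ151) (.leaf tJ663)) (.node (.leaf tJ407) (.leaf tJ919)))) (.node (.node (.node (.leaf tJ87) (.leaf tJ599)) (.node (.leaf tJ343)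 (.leaf tJ855))) (.node (.node (.leaf tJ215) (.leaf tJ727)) (.leaf tJ471)))) (.node (.node (.node (.node (.leaf tJ55) (.leaf tJ567)) (.node (.leaf tJ311) (.leaf tJ823))) (.node (.node (.leaf tJ183) (.leaf tJ695)) (.leaf tJ439))) (.node (.node (.node (.leaf tJ119) (.leaf tJ631)) (.node (.leaf tJ375) (.leaf tJ887))) (.node (.node (.leaf tJ247) (.leaf tJ759)) (.leaf tJ503)))))) (.node (.node (.node (.node (.node (.node (.leaf tJ15) (.leaf tJ527)) (.node (.leaf tJ271) (.leaf tJ783))) (.node (.node (.leaf tJ143) (.leaf tJ655)) (.node (.leaf tJ399) (.leaf tJ911)))) (.node (.node (.node (.leaf tJ79) (.leaf tJ591)) (.node (.leaf tJ335) (.leaf tJ847))) (.node (.node (.leaf tJ207) (.leaf tJ719)) (.leaf tJ463)))) (.node (.node (.node (.node (.leaf tJ47) (.leaf tJ559)) (.node (.leaf tJ303) (.leaf tJ815))) (.node (.node (.leaf tJ175) (.leaf tJ687)) (.leaf tJ431))) (.node (.node (.node (.leaf tJ111) (.leaf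 tJ623)) (.node (.leaf tJ367) (.leaf tJ879))) (.node (.node (.leaf tJ239) (.leaf tJ751)) (.leaf tJ495))))) (.node (.node (.node (.node (.node (.leaf tJ31) (.leaf tJ543)) (.node (.leaf tJ287) (.leaf tJ799))) (.node (.node (.leaf tJ159) (.leaf tJ671)) (.node (.leaf tJ415) (.leaf tJ927)))) (.node (.node (.node (.leaf tJ95) (.leaf tJ607)) (.node (.leaf tJ351) (.leaf tJ863))) (.node (.node (.leaf tJ223) (.leaf tJ735)) (.leaf tJ479)))) (.node (.node (.node (.node (.leaf tJ63) (.leaf tJ575)) (.node (.leaf tJ319) (.leaf tJ831))) (.node (.node (.leaf tJ191) (.leaf tJ703)) (.leaf tJ447))) (.node (.node (.node (.leaf tJ127) (.leaf tJ639)) (.node (.leaf tJ383) (.leaf tJ895))) (.node (.node (.leaf tJ255) (.leaf tJ767)) (.leaf tJ511))))))))))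
noncomputable def tD : Tr := (.node (.node (.node (.node (.node (.node (.node (.node (.leaf tD0) (.leaf tD128)) (.node (.leaf tD64) (.leaf tD192))) (.node (.node (.leaf tD32) (.leaf tD160)) (.node (.leaf tD96) (.leaf tD224)))) (.node (.node (.node (.leaf tD16) (.leaf tD144)) (.node (.leaf tD80) (.leaf tD208))) (.node (.node (.leaf tD48) (.leaf tD176)) (.leaf tD112)))) (.node (.node (.node (.node (.leaf tD8) (.leaf tD136)) (.node (.leaf tD72) (.leaf tD200))) (.node (.node (.leaf tD40) (.leaf tD168)) (.node (.leaf tD104) (.leaf tD232)))) (.node (.node (.node (.leaf tD24) (.leaf tD152)) (.node (.leaf tD88) (.leaf tD216))) (.node (.node (.leaf tD56) (.leaf tD184)) (.leaf tD120))))) (.node (.node (.node (.node (.node (.leaf tD4) (.leaf tD132)) (.node (.leaf tD68) (.leaf tD196))) (.node (.node (.leaf tD36) (.leaf tD164)) (.node (.leaf tD100) (.leaf tD228)))) (.node (.node (.node (.leaf tD20) (.leaf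 tD148)) (.node (.leaf tD84) (.leaf tD212))) (.node (.node (.leaf tD52) (.leaf tD180)) (.leaf tD116)))) (.node (.node (.node (.node (.leaf tD12) (.leaf tD140)) (.node (.leaf tD76) (.leaf tD204))) (.node (.node (.leaf tD44) (.leaf tD172)) (.leaf tD108))) (.node (.node (.node (.leaf tD28) (.leaf tD156)) (.node (.leaf tD92) (.leaf tD220))) (.node (.node (.leaf tD60) (.leaf tD188)) (.leaf tD124)))))) (.node (.node (.node (.node (.node (.node (.leaf tD2) (.leaf tD130)) (.node (.leaf tD66) (.leaf tD194))) (.node (.node (.leaf tD34) (.leaf tD162)) (.node (.leaf tD98) (.leaf tD226)))) (.node (.node (.node (.leaf tD18) (.leaf tD146)) (.node (.leaf tD82) (.leaf tD210))) (.node (.node (.leaf tD50) (.leaf tD178)) (.leaf tD114)))) (.node (.node (.node (.node (.leaf tD10) (.leaf tD138)) (.node (.leaf tD74) (.leaf tD202))) (.node (.node (.leaf tD42) (.leaf tD170)) (.node (.leaf tD106) (.leaf tD234)))) (.node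 (.node (.node (.leaf tD26) (.leaf tD154)) (.node (.leaf tD90) (.leaf tD218))) (.node (.node (.leaf tD58) (.leaf tD186)) (.leaf tD122))))) (.node (.node (.node (.node (.node (.leaf tD6) (.leaf tD134)) (.node (.leaf tD70) (.leaf tD198))) (.node (.node (.leaf tD38) (.leaf tD166)) (.node (.leaf tD102) (.leaf tD230)))) (.node (.node (.node (.leaf tD22) (.leaf tD150)) (.node (.leaf tD86) (.leaf tD214))) (.node (.node (.leaf tD54) (.leaf tD182)) (.leaf tD118)))) (.node (.node (.node (.node (.leaf tD14) (.leaf tD142)) (.node (.leaf tD78) (.leaf tD206))) (.node (.node (.leaf tD46) (.leaf tD174)) (.leaf tD110))) (.node (.node (.node (.leaf tD30) (.leaf tD158)) (.node (.leaf tD94) (.leaf tD222))) (.node (.node (.leaf tD62) (.leaf tD190)) (.leaf tD126))))))) (.node (.node (.node (.node (.node (.node (.node (.leaf tD1) (.leaf tD129)) (.node (.leaf tD65) (.leaf tD193))) (.node (.node (.leaf tD33) (.leaf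 tD161)) (.node (.leaf tD97) (.leaf tD225)))) (.node (.node (.node (.leaf tD17) (.leaf tD145)) (.node (.leaf tD81) (.leaf tD209))) (.node (.node (.leaf tD49) (.leaf tD177)) (.leaf tD113)))) (.node (.node (.node (.node (.leaf tD9) (.leaf tD137)) (.node (.leaf tD73) (.leaf tD201))) (.node (.node (.leaf tD41) (.leaf tD169)) (.node (.leaf tD105) (.leaf tD233)))) (.node (.node (.node (.leaf tD25) (.leaf tD153)) (.node (.leaf tD89) (.leaf tD217))) (.node (.node (.leaf tD57) (.leaf tD185)) (.leaf tD121))))) (.node (.node (.node (.node (.node (.leaf tD5) (.leaf tD133)) (.node (.leaf tD69) (.leaf tD197))) (.node (.node (.leaf tD37) (.leaf tD165)) (.node (.leaf tD101) (.leaf tD229)))) (.node (.node (.node (.leaf tD21) (.leaf tD149)) (.node (.leaf tD85) (.leaf tD213))) (.node (.node (.leaf tD53) (.leaf tD181)) (.leaf tD117)))) (.node (.node (.node (.node (.leaf tD13) (.leaf tD141)) (.node (.leaf tD77)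 (.leaf tD205))) (.node (.node (.leaf tD45) (.leaf tD173)) (.leaf tD109))) (.node (.node (.node (.leaf tD29) (.leaf tD157)) (.node (.leaf tD93) (.leaf tD221))) (.node (.node (.leaf tD61) (.leaf tD189)) (.leaf tD125)))))) (.node (.node (.node (.node (.node (.node (.leaf tD3) (.leaf tD131)) (.node (.leaf tD67) (.leaf tD195))) (.node (.node (.leaf tD35) (.leaf tD163)) (.node (.leaf tD99) (.leaf tD227)))) (.node (.node (.node (.leaf tD19) (.leaf tD147)) (.node (.leaf tD83) (.leaf tD211))) (.node (.node (.leaf tD51) (.leaf tD179)) (.leaf tD115)))) (.node (.node (.node (.node (.leaf tD11) (.leaf tD139)) (.node (.leaf tD75) (.leaf tD203))) (.node (.node (.leaf tD43) (.leaf tD171)) (.node (.leaf tD107) (.leaf tD235)))) (.node (.node (.node (.leaf tD27) (.leaf tD155)) (.node (.leaf tD91) (.leaf tD219))) (.node (.node (.leaf tD59) (.leaf tD187)) (.leaf tD123))))) (.node (.node (.node (.node (.node (.leaf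 tD7) (.leaf tD135)) (.node (.leaf tD71) (.leaf tD199))) (.node (.node (.leaf tD39) (.leaf tD167)) (.node (.leaf tD103) (.leaf tD231)))) (.node (.node (.node (.leaf tD23) (.leaf tD151)) (.node (.leaf tD87) (.leaf tD215))) (.node (.node (.leaf tD55) (.leaf tD183)) (.leaf tD119)))) (.node (.node (.node (.node (.leaf tD15) (.leaf tD143)) (.node (.leaf tD79) (.leaf tD207))) (.node (.node (.leaf tD47) (.leaf tD175)) (.leaf tD111))) (.node (.node (.node (.leaf tD31) (.leaf tD159)) (.node (.leaf tD95) (.leaf tD223))) (.node (.node (.leaf tD63) (.leaf tD191)) (.leaf tD127))))))))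

def rels : List (List ℕ) := [[0,0],
  [1,1],
  [2,2],
  [3,3],
  [4,5],
  [5,4],
  [6,6],
  [7,7],
  [1,6,1,2],
  [5,2,7,0,4,7,2,1,0,1],
  [5,0,5,0,5,0],
  [3,2,3,1,3,2,3,1,3,2,3,1],
  [3,0,4,3,0,4,3,0,4,3,0,4,3,0,4],
  [1,5,1,4],
  [5,2,4,2],
  [7,3,2,3],
  [6,0,1,0,1,2,0,1,0,1],
  [3,4,3,4],
  [4,4,4],
  [5,0,7,1,4,0,1,7],
  [6,2,6,2],
  [1,0,1,5,3,2,3,0,3,2,3,4],
  [2,3,1,3,1,2,3,1,3,1,2,3,1,3,1,2,3,1,3,1],
  [6,2,3,2,3,2,3,2,3],
  [5,6,4,6],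
  [6,7,6,7],
  [5,3,5,3],
  [0,4,0,4,0,4],
  [2,7,1,7,2,1,7,1],
  [0,7,1,0,7,1,0,7,1],
  [2,0,2,0],
  [6,5,6,4],
  [2,3,0,4,2,3,0,4,2,3,0,4,2,3,0,4,2,3,0,4],
  [5,7,4,7],
  [5,0,7,1,0,1,7,4,0],
  [6,2,7,2,7],
  [5,1,4,1],
  [5,0,1,4,7,0,7,1,0],
  [2,5,2,4],
  [5,5,5],
  [3,0,7,0,3,0,7,0],
  [3,1,3,1,3,1,3,1,3,1,3,1,3,1,3,1,3,1,3,1],
  [5,0,1,5,7,0,5,7,1],
  [3,0,3,0,3,0],
  [6,1,2,1],
  [6,0,7,0,7,0,7,0,7],
  [6,0,6,0],
  [7,1,7,1,7,1],
  [2,3,7,3],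
  [6,2,0,1,0,1,0,1,0,1],
  [6,3,6,3],
  [5,1,2,7,0,7,2,1,4,0]]
def subs : List (List ℕ) := [[3],
  [6],
  [7],
  [2],
  [1],
  [4]]
def iv (a : ℕ) : ℕ := [0,1,2,3,5,4,6,7,8].getD a 0
noncomputable def RR0 : List Rule := [.bwd [0] 0 0 0,
  .bwd [2,0,2] 30 1 0,
  .bwd [6,0,6] 46 1 0,
  .bwd [3,0,3,0,3] 43 1 0,
  .bwd [5,1,7,0,4,7,1] 19 2 1,
  .bwd [4,0,4,0,4] 10 2 1,
  .bwd [5,0,5,0,5] 10 1 0,
  .bwd [4,7,1,0,5,1,7] 19 6 1,
  .bwd [3,0,7,0,3,0,7] 40 3 0,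
  .gen [8] [0] 0 0 0,
  .bwd [1,7,4,0,5,0,7,1] 34 4 0,
  .bwd [7,1,0,7,1,0,7,1] 29 3 0,
  .bwd [1,7,0,1,7,0,1,7] 29 2 1,
  .bwd [1,2,0,1,0,1,6,0,1] 16 3 0,
  .bwd [7,0,3,0,7,0,3] 40 1 0,
  .bwd [7,1,0,5,0,1,4,7] 37 5 0,
  .bwd [1,7,5,0,7,1,4] 19 5 0,
  .bwd [4,1,7,4,0,7,4,1] 42 7 1,
  .bwd [1,7,0,4,0,5,7,1] 34 4 1,
  .bwd [2,0,2] 30 3 0,
  .bwd [6,0,6] 46 3 0,
  .bwd [7,1,4,0,1,7,5] 19 1 0,
  .bwd [4,0,1,7,0,7,5,1] 37 7 1,
  .bwd [1,5,2,7,0,4,7,2,1] 9 8 0,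
  .bwd [7,0,7,0,7,6,0,7] 45 3 0,
  .bwd [5,0,1,4,7,0,7,1] 37 8 0,
  .bwd [5,0,7,1,0,1,7,4] 34 8 0,
  .bwd [3,0,3,0,3] 43 5 0,
  .bwd [4,3,0,4,3,0,4,3,0,4,3,0,4,3] 12 1 0,
  .bwd [3,5,0,3,5,0,3,5,0,3,5,0,3,5] 12 1 1,
  .bwd [4,0,5,7,1,0,1,7] 34 7 1,
  .bwd [5,0,5,0,5] 10 5 0,
  .bwd [5,7,1,5,0,1,5,7] 42 5 0,
  .bwd [1,2,7,5,0,7,2,4,1] 9 1 1,
  .bwd [4,2,3,0,4,2,3,0,4,2,3,0,4,2,3,0,4,2,3] 32 2 0,
  .bwd [1,5,7,0,5,7,1,5] 42 1 0,
  .bwd [1,4,7,0,7,1,0,5] 37 1 0,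
  .bwd [4,0,4,0,4] 10 0 1,
  .bwd [4,7,2,1,0,1,5,2,7] 9 3 0,
  .bwd [2,1,0,1,0,6,1,0,1] 16 3 1,
  .bwd [1,6,0,1,0,1,2,0,1] 16 8 0,
  .bwd [3,2,5,0,3,2,5,0,3,2,5,0,3,2,5,0,3,2,5] 32 1 1,
  .bwd [7,1,0,1,7,4,0,5] 34 1 0,
  .bwd [6,7,0,7,0,7,0,7] 45 7 1,
  .bwd [7,0,7,0,7,0,7,6] 45 1 0,
  .bwd [7,4,1,0,4,1,7,4] 42 3 1,
  .bwd [7,5,1,0,4,0,1,7] 37 3 1,
  .bwd [3,2,3,4,1,0,1,5,3,2,3] 21 7 0,
  .bwd [1,0,1,6,0,1,0,1,2] 16 6 0,
  .bwd [7,2,1,4,0,5,1,2,7] 51 4 0,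
  .bwd [5,7,1,0,1,7,0,4] 34 0 1,
  .bwd [4,2,3,0,4,2,3,0,4,2,3,0,4,2,3,0,4,2,3] 32 14 0,
  .bwd [1,0,1,2,0,1,0,1,6] 16 1 0,
  .bwd [7,0,7,6,0,7,0,7] 45 5 0,
  .bwd [3,0,7,0,3,0,7] 40 7 0,
  .bwd [1,5,3,2,3,0,3,2,3,4,1] 21 1 0,
  .bwd [3,0,3,0,3] 43 3 0,
  .bwd [1,7,0,7,5,1,0,4] 37 0 1,
  .bwd [7,6,0,7,0,7,0,7] 45 7 0,
  .bwd [1,0,6,1,0,1,0,2,1] 16 6 1,
  .bwd [1,0,2,1,0,1,0,6,1] 16 1 1,
  .bwd [1,0,1,0,1,6,2,0,1] 49 4 0,
  .bwd [5,0,5,0,5] 10 3 0,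
  .bwd [1,7,0,1,7,0,1,7] 29 8 1,
  .bwd [4,3,0,4,3,0,4,3,0,4,3,0,4,3] 12 10 0,
  .bwd [7,2,4,1,0,1,2,7,5] 9 6 1,
  .bwd [5,1,2,7,0,7,2,1,4] 51 9 0,
  .bwd [3,2,5,0,3,2,5,0,3,2,5,0,3,2,5,0,3,2,5] 32 5 1,
  .bwd [4,0,4,0,4] 10 4 1,
  .bwd [1,0,1,0,1,0,1,6,2] 49 2 0,
  .bwd [4,3,0,4,3,0,4,3,0,4,3,0,4,3] 12 7 0,
  .bwd [2,6,1,0,1,0,1,0,1] 49 7 1,
  .bwd [3,5,0,3,5,0,3,5,0,3,5,0,3,5] 12 4 1,
  .bwd [1,7,0,1,7,0,1,7] 29 5 1,
  .bwd [1,0,1,0,1,0,2,6,1] 49 1 1,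
  .bwd [7,1,0,7,1,0,7,1] 29 0 0,
  .bwd [7,1,0,7,1,0,7,1] 29 6 0,
  .bwd [7,0,7,0,6,7,0,7] 45 3 1,
  .bwd [4,2,3,0,4,2,3,0,4,2,3,0,4,2,3,0,4,2,3] 32 10 0,
  .bwd [6,1,0,1,0,2,1,0,1] 16 8 1,
  .bwd [1,0,1,6,2,0,1,0,1] 49 6 0,
  .bwd [4,2,3,0,4,2,3,0,4,2,3,0,4,2,3,0,4,2,3] 32 18 0,
  .bwd [7,0,3,0,7,0,3] 40 5 0,
  .bwd [3,5,0,3,5,0,3,5,0,3,5,0,3,5] 12 13 1,
  .bwd [4,3,0,4,3,0,4,3,0,4,3,0,4,3] 12 13 0,
  .bwd [1,6,2,0,1,0,1,0,1] 49 8 0]
noncomputable def RR1 : List Rule := [.bwd [1] 1 0 0,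
  .bwd [6,1,2] 8 0 0,
  .bwd [5,1,4] 13 0 0,
  .bwd [7,1,7,1,7] 47 1 0,
  .bwd [2,1,6] 8 2 0,
  .bwd [4,1,5] 13 2 0,
  .bwd [7,5,0,7,1,4,0] 19 6 0,
  .gen [8] [1] 1 0 0,
  .bwd [3,1,2,3,1,3,1,2,3,1,3,1,2,3,1,3,1,2,3] 22 2 0,
  .bwd [0,1,2,0,1,0,1,6,0] 16 2 0,
  .bwd [4,0,1,7,5,0,7] 19 3 0,
  .bwd [3,2,3,1,3,2,3,1,3,2,3] 11 3 0,
  .bwd [7,0,1,7,0,1,7,0] 29 3 1,
  .bwd [5,7,0,5,7,1,5,0] 42 2 0,
  .bwd [7,4,0,5,0,7,1,0] 34 5 0,
  .bwd [4,7,0,7,1,0,5,0] 37 2 0,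
  .bwd [2,3,1,3,1,2,3,1,3,1,2,3,1,3,1,2,3,1,3] 22 4 0,
  .bwd [0,5,1,7,0,4,7] 19 1 1,
  .bwd [7,0,4,7,1,0,5] 19 4 1,
  .bwd [3,2,1,3,1,3,2,1,3,1,3,2,1,3,1,3,2,1,3] 22 2 1,
  .bwd [7,1,2,7,1,7,2] 28 5 0,
  .bwd [0,4,1,7,4,0,7,4] 42 6 1,
  .bwd [2,3,1,3,1,2,3,1,3,1,2,3,1,3,1,2,3,1,3] 22 14 0,
  .bwd [2,7,5,0,7,2,4,1,0] 9 2 1,
  .bwd [3,1,3,1,3,1,3,1,3,1,3,1,3,1,3,1,3,1,3] 41 15 0,
  .bwd [5,2,7,0,4,7,2,1,0] 9 9 0,
  .bwd [0,4,0,1,7,0,7,5] 37 6 1,
  .bwd [2,0,1,0,1,6,0,1,0] 16 4 0,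
  .bwd [7,0,4,0,5,7,1,0] 34 5 1,
  .bwd [7,4,0,7,4,1,0,4] 42 0 1,
  .bwd [3,1,3,1,3,1,3,1,3,1,3,1,3,1,3,1,3,1,3] 41 1 0,
  .bwd [2,7,1,7,2,1,7] 28 7 0,
  .bwd [0,1,5,2,7,0,4,7,2] 9 7 0,
  .bwd [5,0,1,5,7,0,5,7] 42 8 0,
  .bwd [7,2,1,7,1,2,7] 28 2 0,
  .bwd [7,1,7,1,7] 47 5 0,
  .bwd [4,0,5,1,2,7,0,7,2] 51 7 0,
  .bwd [0,1,0,2,1,0,1,0,6] 16 0 1,
  .bwd [7,0,7,5,1,0,4,0] 37 1 1,
  .bwd [0,7,1,0,7,1,0,7] 29 2 0,
  .bwd [3,1,2,3,1,3,1,2,3,1,3,1,2,3,1,3,1,2,3] 22 12 0,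
  .bwd [0,1,6,0,1,0,1,2,0] 16 7 0,
  .bwd [0,1,0,6,1,0,1,0,2] 16 5 1,
  .bwd [0,7,1,0,7,1,0,7] 29 8 0,
  .bwd [3,1,3,2,1,3,1,3,2,1,3,1,3,2,1,3,1,3,2] 22 5 1,
  .bwd [0,1,0,1,0,1,6,2,0] 49 3 0,
  .bwd [0,1,7,0,4,0,5,7] 34 3 1,
  .bwd [0,5,0,1,4,7,0,7] 37 7 0,
  .bwd [0,1,2,7,5,0,7,2,4] 9 0 1,
  .bwd [2,7,0,7,2,1,4,0,5] 51 1 0,
  .bwd [3,1,3,1,3,1,3,1,3,1,3,1,3,1,3,1,3,1,3] 41 9 0,
  .bwd [3,1,3,1,3,1,3,1,3,1,3,1,3,1,3,1,3,1,3] 41 13 0,
  .bwd [6,0,1,0,1,2,0,1,0] 16 9 0,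
  .bwd [0,1,7,4,0,5,0,7] 34 3 0,
  .bwd [0,1,0,1,0,1,0,2,6] 49 0 1,
  .bwd [2,3,1,3,1,2,3,1,3,1,2,3,1,3,1,2,3,1,3] 22 9 0,
  .bwd [3,1,3,1,3,1,3,1,3,1,3,1,3,1,3,1,3,1,3] 41 11 0,
  .bwd [0,7,1,0,7,1,0,7] 29 5 0,
  .bwd [0,1,6,2,0,1,0,1,0] 49 7 0,
  .bwd [0,1,5,3,2,3,0,3,2,3,4] 21 0 0,
  .bwd [6,2,0,1,0,1,0,1,0] 49 9 0,
  .bwd [0,1,0,1,6,2,0,1,0] 49 5 0,
  .bwd [0,2,1,0,1,0,6,1,0] 16 2 1,
  .bwd [3,1,3,1,3,1,3,1,3,1,3,1,3,1,3,1,3,1,3] 41 3 0,
  .bwd [7,0,1,7,0,1,7,0] 29 6 1,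
  .bwd [2,3,1,3,1,2,3,1,3,1,2,3,1,3,1,2,3,1,3] 22 19 0,
  .bwd [3,1,2,3,1,3,1,2,3,1,3,1,2,3,1,3,1,2,3] 22 7 0,
  .bwd [3,1,3,1,3,1,3,1,3,1,3,1,3,1,3,1,3,1,3] 41 7 0,
  .bwd [7,1,7,1,7] 47 3 0,
  .bwd [3,2,1,3,1,3,2,1,3,1,3,2,1,3,1,3,2,1,3] 22 17 1,
  .bwd [3,1,3,2,1,3,1,3,2,1,3,1,3,2,1,3,1,3,2] 22 0 1,
  .bwd [3,2,3,1,3,2,3,1,3,2,3] 11 11 0,
  .bwd [0,1,0,2,6,1,0,1,0] 49 4 1,
  .bwd [3,1,3,2,1,3,1,3,2,1,3,1,3,2,1,3,1,3,2] 22 15 1,
  .bwd [7,0,1,7,0,1,7,0] 29 0 1,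
  .sub [] [] 4 0,
  .bwd [3,1,2,3,1,3,1,2,3,1,3,1,2,3,1,3,1,2,3] 22 17 0,
  .bwd [3,1,3,1,3,1,3,1,3,1,3,1,3,1,3,1,3,1,3] 41 19 0,
  .bwd [3,1,3,1,3,1,3,1,3,1,3,1,3,1,3,1,3,1,3] 41 5 0,
  .bwd [3,2,1,3,1,3,2,1,3,1,3,2,1,3,1,3,2,1,3] 22 7 1]
noncomputable def RR2 : List Rule := [.bwd [2] 2 0 0,
  .bwd [7,6,2,7] 35 3 0,
  .bwd [0,2,0] 30 2 0,
  .bwd [1,6,1] 8 3 0,
  .bwd [3,7,3] 15 2 0,
  .bwd [4,2,5] 14 1 0,
  .bwd [5,2,4] 14 3 0,
  .bwd [6,2,6] 20 1 0,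
  .bwd [6,7,2,7] 35 3 1,
  .bwd [7,2,7,6] 35 1 0,
  .bwd [7,2,6,7] 35 1 1,
  .bwd [1,7,1,2,7,1,7] 28 4 0,
  .bwd [7,1,7,2,1,7,1] 28 0 0,
  .bwd [0,2,0] 30 0 0,
  .bwd [5,0,3,2,5,0,3,2,5,0,3,2,5,0,3,2,5,0,3] 32 3 1,
  .bwd [6,3,2,3,2,3,2,3] 23 7 1,
  .bwd [1,0,1,0,6,1,0,1,0] 16 4 1,
  .bwd [1,0,1,5,2,7,0,4,7] 9 6 0,
  .bwd [4,1,0,1,2,7,5,0,7] 9 8 1,
  .bwd [1,3,1,3,2,1,3,1,3,2,1,3,1,3,2,1,3,1,3] 22 4 1,
  .bwd [7,5,0,7,2,4,1,0,1] 9 3 1,
  .bwd [0,1,0,1,6,0,1,0,1] 16 5 0,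
  .gen [8] [2] 2 0 0,
  .bwd [3,0,4,2,3,0,4,2,3,0,4,2,3,0,4,2,3,0,4] 32 4 0,
  .bwd [7,0,4,7,2,1,0,1,5] 9 1 0,
  .bwd [0,1,0,1,0,1,0,1,6] 49 1 0,
  .bwd [7,0,7,2,1,4,0,5,1] 51 2 0,
  .bwd [6,1,0,1,0,1,0,1,0] 49 8 1,
  .bwd [1,3,1,3,2,1,3,1,3,2,1,3,1,3,2,1,3,1,3] 22 19 1,
  .bwd [3,1,3,1,2,3,1,3,1,2,3,1,3,1,2,3,1,3,1] 22 5 0,
  .bwd [3,1,3,1,2,3,1,3,1,2,3,1,3,1,2,3,1,3,1] 22 0 0,
  .bwd [6,2,6] 20 3 0,
  .bwd [3,1,3,1,2,3,1,3,1,2,3,1,3,1,2,3,1,3,1] 22 10 0,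
  .bwd [1,4,0,5,1,2,7,0,7] 51 6 0,
  .bwd [3,1,3,2,3,1,3,2,3,1,3] 11 1 0,
  .bwd [3,2,3,2,3,2,3,6] 23 1 0,
  .bwd [3,1,3,2,3,1,3,2,3,1,3] 11 9 0,
  .bwd [3,1,3,2,3,1,3,2,3,1,3] 11 5 0]
noncomputable def RR3 : List Rule := [.bwd [3] 3 0 0,
  .bwd [2,3,7] 15 1 0,
  .bwd [7,3,2] 15 3 0,
  .bwd [4,3,4] 17 2 0,
  .bwd [5,3,5] 17 1 1,
  .bwd [0,3,0,3,0] 43 2 0,
  .bwd [6,3,6] 50 1 0,
  .gen [8] [3] 3 0 0,
  .bwd [2,3,1,3,2,3,1,3,2,3,1] 11 4 0,
  .bwd [1,2,3,1,3,1,2,3,1,3,1,2,3,1,3,1,2,3,1] 22 3 0,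
  .bwd [0,7,0,3,0,7,0] 40 4 0,
  .bwd [5,3,5] 17 3 1,
  .bwd [6,3,6] 50 3 0,
  .bwd [2,3,2,3,2,3,6,2] 23 2 0,
  .bwd [1,3,2,1,3,1,3,2,1,3,1,3,2,1,3,1,3,2,1] 22 1 1,
  .bwd [0,3,0,3,0] 43 0 0,
  .bwd [4,3,4] 17 0 0,
  .bwd [6,2,3,2,3,2,3,2] 23 8 0,
  .bwd [2,3,0,3,2,3,4,1,0,1,5] 21 4 0,
  .bwd [0,7,0,3,0,7,0] 40 0 0,
  .bwd [2,6,3,2,3,2,3,2] 23 6 1,
  .bwd [0,3,0,3,0] 43 4 0,
  .bwd [5,0,3,5,0,3,5,0,3,5,0,3,5,0] 12 2 1,
  .bwd [1,3,1,3,1,3,1,3,1,3,1,3,1,3,1,3,1,3,1] 41 2 0,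
  .bwd [2,1,3,1,3,2,1,3,1,3,2,1,3,1,3,2,1,3,1] 22 3 1,
  .bwd [2,3,6,2,3,2,3,2] 23 6 0,
  .bwd [4,1,0,1,5,3,2,3,0,3,2] 21 10 0,
  .bwd [2,3,4,1,0,1,5,3,2,3,0] 21 8 0,
  .bwd [1,3,1,2,3,1,3,1,2,3,1,3,1,2,3,1,3,1,2] 22 1 0,
  .bwd [0,4,3,0,4,3,0,4,3,0,4,3,0,4] 12 3 0,
  .bwd [2,5,0,3,2,5,0,3,2,5,0,3,2,5,0,3,2,5,0] 32 2 1,
  .bwd [1,2,3,1,3,1,2,3,1,3,1,2,3,1,3,1,2,3,1] 22 13 0,
  .bwd [0,4,2,3,0,4,2,3,0,4,2,3,0,4,2,3,0,4,2] 32 1 0,
  .bwd [1,3,1,3,1,3,1,3,1,3,1,3,1,3,1,3,1,3,1] 41 12 0,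
  .bwd [1,3,2,3,1,3,2,3,1,3,2] 11 2 0,
  .bwd [5,0,3,5,0,3,5,0,3,5,0,3,5,0] 12 14 1,
  .bwd [1,3,1,2,3,1,3,1,2,3,1,3,1,2,3,1,3,1,2] 22 11 0,
  .bwd [1,3,1,2,3,1,3,1,2,3,1,3,1,2,3,1,3,1,2] 22 6 0,
  .bwd [0,3,2,3,4,1,0,1,5,3,2] 21 6 0,
  .bwd [1,3,1,3,1,3,1,3,1,3,1,3,1,3,1,3,1,3,1] 41 14 0,
  .bwd [1,2,3,1,3,1,2,3,1,3,1,2,3,1,3,1,2,3,1] 22 18 0,
  .bwd [1,3,1,3,1,3,1,3,1,3,1,3,1,3,1,3,1,3,1] 41 10 0,
  .bwd [2,5,0,3,2,5,0,3,2,5,0,3,2,5,0,3,2,5,0] 32 18 1,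
  .bwd [2,3,2,3,2,3,2,6] 23 0 1,
  .bwd [1,3,2,1,3,1,3,2,1,3,1,3,2,1,3,1,3,2,1] 22 6 1,
  .bwd [1,3,1,2,3,1,3,1,2,3,1,3,1,2,3,1,3,1,2] 22 16 0,
  .bwd [0,4,2,3,0,4,2,3,0,4,2,3,0,4,2,3,0,4,2] 32 5 0,
  .bwd [0,4,3,0,4,3,0,4,3,0,4,3,0,4] 12 0 0,
  .bwd [2,5,0,3,2,5,0,3,2,5,0,3,2,5,0,3,2,5,0] 32 6 1,
  .bwd [5,0,3,5,0,3,5,0,3,5,0,3,5,0] 12 5 1,
  .bwd [5,0,3,5,0,3,5,0,3,5,0,3,5,0] 12 8 1,
  .bwd [0,4,3,0,4,3,0,4,3,0,4,3,0,4] 12 12 0,
  .bwd [1,3,2,1,3,1,3,2,1,3,1,3,2,1,3,1,3,2,1] 22 11 1,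
  .bwd [1,3,2,3,1,3,2,3,1,3,2] 11 10 0,
  .bwd [1,3,2,1,3,1,3,2,1,3,1,3,2,1,3,1,3,2,1] 22 16 1,
  .bwd [0,4,2,3,0,4,2,3,0,4,2,3,0,4,2,3,0,4,2] 32 9 0,
  .bwd [1,3,2,3,1,3,2,3,1,3,2] 11 6 0,
  .bwd [0,4,3,0,4,3,0,4,3,0,4,3,0,4] 12 9 0,
  .bwd [2,5,0,3,2,5,0,3,2,5,0,3,2,5,0,3,2,5,0] 32 14 1,
  .bwd [1,3,1,3,1,3,1,3,1,3,1,3,1,3,1,3,1,3,1] 41 8 0,
  .bwd [0,4,2,3,0,4,2,3,0,4,2,3,0,4,2,3,0,4,2] 32 17 0,
  .bwd [0,4,2,3,0,4,2,3,0,4,2,3,0,4,2,3,0,4,2] 32 13 0,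
  .bwd [5,0,3,5,0,3,5,0,3,5,0,3,5,0] 12 11 1,
  .bwd [1,2,3,1,3,1,2,3,1,3,1,2,3,1,3,1,2,3,1] 22 8 0,
  .bwd [2,1,3,1,3,2,1,3,1,3,2,1,3,1,3,2,1,3,1] 22 18 1,
  .bwd [2,3,1,3,2,3,1,3,2,3,1] 11 8 0,
  .bwd [0,4,3,0,4,3,0,4,3,0,4,3,0,4] 12 6 0,
  .bwd [2,1,3,1,3,2,1,3,1,3,2,1,3,1,3,2,1,3,1] 22 8 1,
  .bwd [1,3,1,3,1,3,1,3,1,3,1,3,1,3,1,3,1,3,1] 41 0 0,
  .bwd [2,1,3,1,3,2,1,3,1,3,2,1,3,1,3,2,1,3,1] 22 13 1,
  .bwd [1,3,1,3,1,3,1,3,1,3,1,3,1,3,1,3,1,3,1] 41 16 0,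
  .sub [] [] 0 0,
  .bwd [2,5,0,3,2,5,0,3,2,5,0,3,2,5,0,3,2,5,0] 32 10 1,
  .bwd [1,3,1,3,1,3,1,3,1,3,1,3,1,3,1,3,1,3,1] 41 6 0]
noncomputable def RR4 : List Rule := [.bwd [5] 4 0 0,
  .bwd [1,5,1] 13 3 0,
  .bwd [4,4] 18 1 0,
  .bwd [7,5,7] 33 2 0,
  .bwd [2,5,2] 14 2 0,
  .bwd [3,4,3] 17 1 0,
  .bwd [0,4,0,4,0] 10 1 1,
  .bwd [6,5,6] 24 2 0,
  .bwd [7,1,0,5,1,7,0] 19 7 1,
  .bwd [0,1,7,5,0,7,1] 19 4 0,
  .bwd [0,5,0,7,1,0,1,7] 34 7 0,
  .gen [8] [4] 4 0 0,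
  .bwd [1,7,4,0,7,4,1,0] 42 8 1,
  .bwd [1,0,4,1,7,4,0,7] 42 5 1,
  .bwd [3,4,3] 17 3 0,
  .bwd [3,0,4,3,0,4,3,0,4,3,0,4,3,0] 12 2 0,
  .bwd [4,4] 18 2 0,
  .bwd [7,0,7,1,0,5,0,1] 37 3 0,
  .bwd [0,4,0,4,0] 10 5 1,
  .bwd [1,0,1,2,7,5,0,7,2] 9 9 1,
  .bwd [0,1,7,0,7,5,1,0] 37 8 1,
  .bwd [1,0,1,5,3,2,3,0,3,2,3] 21 11 0,
  .bwd [0,5,7,1,0,1,7,0] 34 8 1,
  .bwd [0,7,4,1,0,4,1,7] 42 2 1,
  .bwd [2,3,0,4,2,3,0,4,2,3,0,4,2,3,0,4,2,3,0] 32 3 0,
  .bwd [7,2,1,0,1,5,2,7,0] 9 4 0,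
  .bwd [0,5,1,2,7,0,7,2,1] 51 8 0,
  .bwd [3,0,4,3,0,4,3,0,4,3,0,4,3,0] 12 14 0,
  .bwd [0,4,0,4,0] 10 3 1,
  .sub [] [] 5 0,
  .bwd [3,0,4,3,0,4,3,0,4,3,0,4,3,0] 12 8 0,
  .bwd [3,0,4,3,0,4,3,0,4,3,0,4,3,0] 12 5 0]
noncomputable def RR5 : List Rule := [.bwd [4] 5 0 0,
  .bwd [1,4,1] 13 1 0,
  .bwd [5,5] 18 1 1,
  .bwd [3,5,3] 17 2 1,
  .bwd [7,4,7] 33 0 0,
  .bwd [2,4,2] 14 0 0,
  .bwd [0,5,0,5,0] 10 2 0,
  .bwd [6,4,6] 24 0 0,
  .bwd [1,7,0,4,7,1,0] 19 3 1,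
  .bwd [0,7,1,4,0,1,7] 19 0 0,
  .bwd [7,0,5,7,1,5,0,1] 42 3 0,
  .gen [8] [5] 5 0 0,
  .bwd [7,1,0,1,7,0,4,0] 34 1 1,
  .bwd [1,0,4,0,1,7,0,7] 37 5 1,
  .bwd [0,1,5,7,0,5,7,1] 42 0 0,
  .bwd [3,5,3] 17 0 1,
  .bwd [0,5,0,5,0] 10 0 0,
  .bwd [0,3,5,0,3,5,0,3,5,0,3,5,0,3] 12 3 1,
  .bwd [5,5] 18 2 1,
  .bwd [7,1,5,0,1,5,7,0] 42 6 0,
  .bwd [0,7,1,0,1,7,4,0] 34 0 0,
  .bwd [0,3,2,5,0,3,2,5,0,3,2,5,0,3,2,5,0,3,2] 32 4 1,
  .bwd [0,1,4,7,0,7,1,0] 37 0 0,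
  .bwd [1,2,7,0,7,2,1,4,0] 51 0 0,
  .bwd [0,5,0,5,0] 10 4 0,
  .bwd [2,7,0,4,7,2,1,0,1] 9 0 0,
  .bwd [0,7,2,4,1,0,1,2,7] 9 5 1,
  .bwd [0,3,5,0,3,5,0,3,5,0,3,5,0,3] 12 0 1,
  .bwd [0,3,2,5,0,3,2,5,0,3,2,5,0,3,2,5,0,3,2] 32 12 1]
noncomputable def RR6 : List Rule := [.bwd [6] 6 0 0,
  .bwd [1,2,1] 8 1 0,
  .bwd [0,6,0] 46 2 0,
  .bwd [2,6,2] 20 2 0,
  .bwd [7,6,7] 25 2 0,
  .bwd [3,6,3] 50 2 0,
  .bwd [5,6,4] 24 3 0,
  .bwd [4,6,5] 24 1 0,
  .bwd [7,2,7,2] 35 4 1,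
  .bwd [0,6,0] 46 0 0,
  .bwd [2,7,2,7] 35 0 0,
  .bwd [7,6,7] 25 0 0,
  .bwd [1,0,1,0,1,0,1,0,2] 49 9 1,
  .bwd [0,1,0,1,2,0,1,0,1] 16 0 0,
  .bwd [3,6,3] 50 0 0,
  .bwd [7,0,7,0,7,0,7,0] 45 8 1,
  .bwd [0,7,0,7,0,7,0,7] 45 0 0,
  .bwd [2,3,2,3,2,3,2,3] 23 0 0,
  .bwd [1,0,1,0,2,1,0,1,0] 16 9 1,
  .bwd [2,6,2] 20 0 0,
  .bwd [2,0,1,0,1,0,1,0,1] 49 0 0,
  .bwd [3,2,3,2,3,2,3,2] 23 8 1,
  .gen [8] [6] 6 0 0,
  .sub [] [] 1 0]
noncomputable def RR7 : List Rule := [.bwd [7] 7 0 0,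
  .bwd [3,2,3] 15 0 0,
  .bwd [4,7,5] 33 1 0,
  .bwd [1,7,1,7,1] 47 2 0,
  .bwd [5,7,4] 33 3 0,
  .bwd [2,7,6,2] 35 2 0,
  .bwd [1,4,0,1,7,5,0] 19 2 0,
  .bwd [6,7,6] 25 1 0,
  .bwd [0,3,0,7,0,3,0] 40 2 0,
  .bwd [6,2,7,2] 35 4 0,
  .bwd [5,0,7,1,4,0,1] 19 7 0,
  .bwd [1,0,7,1,0,7,1,0] 29 1 0,
  .gen [8] [7] 7 0 0,
  .bwd [0,4,7,1,0,5,1] 19 5 1,
  .bwd [2,7,2,6] 35 0 1,
  .bwd [1,0,5,1,7,0,4] 19 0 1,
  .bwd [5,1,0,4,0,1,7,0] 37 4 1,
  .bwd [4,1,0,4,1,7,4,0] 42 4 1,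
  .bwd [1,7,2,1,7,1,2] 28 1 0,
  .bwd [1,0,1,7,0,4,0,5] 34 2 1,
  .bwd [0,7,0,7,0,7,6,0] 45 2 0,
  .bwd [2,6,7,2] 35 2 1,
  .bwd [0,5,7,1,5,0,1,5] 42 4 0,
  .bwd [4,0,7,4,1,0,4,1] 42 1 1,
  .bwd [2,1,7,1,2,7,1] 28 3 0,
  .bwd [1,0,5,0,1,4,7,0] 37 6 0,
  .bwd [0,4,7,2,1,0,1,5,2] 9 2 0,
  .bwd [5,0,7,2,4,1,0,1,2] 9 4 1,
  .bwd [0,7,1,0,5,0,1,4] 37 4 0,
  .bwd [1,2,7,1,7,2,1] 28 6 0,
  .bwd [6,7,6] 25 3 0,
  .bwd [4,0,5,0,7,1,0,1] 34 6 0,
  .bwd [1,0,1,7,4,0,5,0] 34 2 0,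
  .bwd [2,4,1,0,1,2,7,5,0] 9 7 1,
  .bwd [2,1,4,0,5,1,2,7,0] 51 5 0,
  .bwd [0,7,0,7,6,0,7,0] 45 4 0,
  .bwd [1,7,1,7,1] 47 0 0,
  .bwd [0,1,7,0,1,7,0,1] 29 1 1,
  .bwd [1,5,0,1,5,7,0,5] 42 7 0,
  .bwd [6,0,7,0,7,0,7,0] 45 8 0,
  .bwd [0,7,0,7,0,7,0,6] 45 0 1,
  .bwd [0,3,0,7,0,3,0] 40 6 0,
  .bwd [2,1,0,1,5,2,7,0,4] 9 5 0,
  .bwd [0,7,2,1,4,0,5,1,2] 51 3 0,
  .bwd [0,7,6,0,7,0,7,0] 45 6 0,
  .bwd [1,0,7,1,0,7,1,0] 29 7 0,
  .bwd [1,7,1,7,1] 47 4 0,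
  .bwd [0,7,0,6,7,0,7,0] 45 4 1,
  .sub [] [] 2 0,
  .bwd [0,4,0,5,7,1,0,1] 34 6 1,
  .bwd [0,1,7,0,1,7,0,1] 29 4 1]
noncomputable def RR8 : List Rule := [.gen [7] [8,7] 7 0 0,
  .gen [0] [8,0] 0 0 0,
  .gen [1] [8,1] 1 0 0,
  .gen [2] [8,2] 2 0 0,
  .gen [6] [8,6] 6 0 0,
  .gen [3] [8,3] 3 0 0,
  .gen [5] [8,5] 5 0 0,
  .gen [4] [8,4] 4 0 0,
  .gen [8,0] [0] 0 0 0,
  .gen [8,1] [1] 1 0 0,
  .gen [8,3] [3] 3 0 0,
  .gen [8,7] [7] 7 0 0,
  .gen [8,6] [6] 6 0 0,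
  .gen [8,2] [2] 2 0 0,
  .gen [8,5] [5] 5 0 0,
  .gen [8,4] [4] 4 0 0,
  .bwd [1,7,5,0,7,1,4,0] 19 6 0,
  .bwd [3,0,3,0,3,0] 43 4 0,
  .fwd [1,5,1,4] 13 0 1,
  .bwd [4,3,4,3] 17 3 0,
  .bwd [7,1,4,0,1,7,5,0] 19 2 0,
  .bwd [7,3,2,3] 15 0 0,
  .fwd [1,4,1,5] 13 2 1,
  .fwd [1,3,1,3,1,3,1,3,1,3,1,3,1,3,1,3,1,3,1,3] 41 1 1,
  .bwd [1,6,1,2] 8 0 0,
  .bwd [5,2,4,2] 14 0 0,
  .bwd [4,7,1,0,5,1,7,0] 19 7 1,
  .bwd [5,0,7,1,0,1,7,4,0] 34 0 0,
  .fwd [1,3,1,3,2,1,3,1,3,2,1,3,1,3,2,1,3,1,3,2] 22 0 0,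
  .fwd [2,3,7,3] 15 2 1,
  .bwd [7,0,3,0,7,0,3,0] 40 6 0,
  .fwd [1,6,1,2] 8 0 1,
  .bwd [3,0,7,0,3,0,7,0] 40 4 0,
  .bwd [4,0,5,7,1,0,1,7,0] 34 8 1,
  .bwd [1,5,3,2,3,0,3,2,3,4,1,0] 21 2 0,
  .bwd [4,3,0,4,3,0,4,3,0,4,3,0,4,3,0] 12 11 0,
  .bwd [1,7,4,0,5,0,7,1,0] 34 5 0,
  .fwd [0,5,0,7,1,0,1,7,4] 34 1 1,
  .bwd [3,1,3,1,3,1,3,1,3,1,3,1,3,1,3,1,3,1,3,1] 41 2 0,
  .fwd [3,0,3,0,3,0] 43 0 1,
  .bwd [0,1,5,3,2,3,0,3,2,3,4,1] 21 1 0,
  .bwd [0,5,0,7,1,0,1,7,4] 34 8 0,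
  .bwd [0,7,1,4,0,1,7,5] 19 1 0,
  .bwd [1,0,1,6,0,1,0,1,2,0] 16 7 0,
  .bwd [5,7,1,5,0,1,5,7,0] 42 6 0,
  .fwd [0,1,5,2,7,0,4,7,2,1] 9 2 1,
  .bwd [1,6,0,1,0,1,2,0,1,0] 16 9 0,
  .bwd [7,1,0,5,0,1,4,7,0] 37 6 0,
  .fwd [0,1,7,4,0,5,0,7,1] 34 5 1,
  .fwd [0,7,1,4,0,1,7,5] 19 7 1,
  .bwd [4,3,0,4,3,0,4,3,0,4,3,0,4,3,0] 12 14 0,
  .bwd [0,4,0,5,7,1,0,1,7] 34 7 1,
  .bwd [7,0,7,0,7,6,0,7,0] 45 4 0,
  .bwd [3,2,3,4,1,0,1,5,3,2,3,0] 21 8 0,
  .fwd [3,2,5,0,3,2,5,0,3,2,5,0,3,2,5,0,3,2,5,0] 32 10 0,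
  .fwd [0,1,2,0,1,0,1,6,0,1] 16 7 1,
  .fwd [7,0,3,0,7,0,3,0] 40 6 1,
  .bwd [5,0,5,0,5,0] 10 0 0,
  .bwd [4,3,0,4,3,0,4,3,0,4,3,0,4,3,0] 12 5 0,
  .bwd [1,5,2,7,0,4,7,2,1,0] 9 9 0,
  .bwd [5,7,1,0,1,7,0,4,0] 34 1 1,
  .bwd [5,0,5,0,5,0] 10 4 0,
  .fwd [0,3,0,3,0,3] 43 3 1,
  .fwd [2,3,1,3,2,3,1,3,2,3,1,3] 11 11 1,
  .fwd [3,2,3,7] 15 3 1,
  .fwd [2,1,3,1,3,2,1,3,1,3,2,1,3,1,3,2,1,3,1,3] 22 16 0,
  .fwd [1,3,2,1,3,1,3,2,1,3,1,3,2,1,3,1,3,2,1,3] 22 18 0,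
  .fwd [1,3,1,2,3,1,3,1,2,3,1,3,1,2,3,1,3,1,2,3] 22 18 1,
  .fwd [3,1,3,2,1,3,1,3,2,1,3,1,3,2,1,3,1,3,2,1] 22 19 0,
  .bwd [6,1,2,1] 8 1 0,
  .fwd [4,3,4,3] 17 1 1,
  .bwd [5,3,5,3] 17 2 1,
  .fwd [3,5,3,5] 17 1 0,
  .fwd [0,3,0,3,0,3] 43 1 1,
  .fwd [0,1,7,0,7,5,1,0,4] 37 0 0,
  .fwd [0,5,0,5,0,5] 10 1 1,
  .bwd [3,5,0,3,5,0,3,5,0,3,5,0,3,5,0] 12 14 1,
  .bwd [1,7,0,1,7,0,1,7,0] 29 0 1,
  .bwd [4,0,4,0,4,0] 10 5 1,
  .fwd [0,7,1,0,7,1,0,7,1] 29 6 1,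
  .fwd [0,5,0,5,0,5] 10 3 1,
  .fwd [1,5,3,2,3,0,3,2,3,4,1,0] 21 10 1,
  .fwd [0,3,0,3,0,3] 43 5 1,
  .fwd [1,3,1,2,3,1,3,1,2,3,1,3,1,2,3,1,3,1,2,3] 22 3 1,
  .bwd [4,2,3,0,4,2,3,0,4,2,3,0,4,2,3,0,4,2,3,0] 32 11 0,
  .fwd [4,0,5,7,1,0,1,7,0] 34 1 0,
  .fwd [7,0,3,0,7,0,3,0] 40 2 1,
  .fwd [3,0,7,0,3,0,7,0] 40 0 1,
  .bwd [4,3,4,3] 17 1 0,
  .fwd [7,1,4,0,1,7,5,0] 19 6 1,
  .bwd [0,4,2,3,0,4,2,3,0,4,2,3,0,4,2,3,0,4,2,3] 32 14 0,
  .bwd [0,3,0,7,0,3,0,7] 40 7 0,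
  .bwd [0,7,6,0,7,0,7,0,7] 45 7 0,
  .bwd [3,1,2,3,1,3,1,2,3,1,3,1,2,3,1,3,1,2,3,1] 22 13 0,
  .bwd [1,3,1,2,3,1,3,1,2,3,1,3,1,2,3,1,3,1,2,3] 22 12 0,
  .fwd [3,1,3,1,2,3,1,3,1,2,3,1,3,1,2,3,1,3,1,2] 22 4 1]
noncomputable def RR : List (List Rule) := [RR0, RR1, RR2, RR3, RR4, RR5, RR6, RR7, RR8]
noncomputable def rowp (j : ℕ) : ℕ := piece tT (nat_lit 3) (nat_lit 7) (nat_lit 2664) (Nat.pred (Nat.shiftLeft 1 (nat_lit 2664))) j
noncomputable def row (u : ℕ) : ℕ := rowOf rowp (nat_lit 3) (nat_lit 7) (nat_lit 333) u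
noncomputable def jrowp (j : ℕ) : ℕ := piece tJ (nat_lit 3) (nat_lit 7) (nat_lit 3456) (Nat.pred (Nat.shiftLeft 1 (nat_lit 3456))) j
noncomputable def jrow (u : ℕ) : ℕ := rowOf jrowp (nat_lit 4) (nat_lit 15) (nat_lit 216) u
noncomputable def drowp (j : ℕ) : ℕ := piece tD (nat_lit 3) (nat_lit 7) (nat_lit 2688) (Nat.pred (Nat.shiftLeft 1 (nat_lit 2688))) j
noncomputable def drow (u : ℕ) : ℕ := rowOf drowp (nat_lit 6) (nat_lit 63) (nat_lit 42) u
noncomputable def cert : PCert := ⟨(nat_lit 8), (nat_lit 9), (nat_lit 131071), (nat_lit 37), (nat_lit 137438953471), (nat_lit 137438953470), (nat_lit 69768), (nat_lit 69767), (nat_lit 120466), (nat_lit 7), (nat_lit 127), (nat_lit 24), (nat_lit 16777215), (nat_lit 4398046511103), (nat_lit 5), row, jrow, drow, RR⟩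
theorem params : cert.paramsOK = true := by decide +kernel
theorem rules : rulesOK rels subs iv cert.L cert.LL cert.RR = true := by decide +kernel

end CL.JC3.E
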