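/- The groups 2^(1+4)_- and A5 as tables (generated). -/
import Cfsg.Agent.SPOR.A10.Reg
set_option autoImplicit false
set_option maxRecDepth 100000

namespace CL.JQ.Ezpqrst
open CL.CE CL.K

noncomputable def tT0 : ℕ := nat_lit 0xbff5eeed85771b9adbbb03f664acd58cebd55b0a0154f29e14a9a3950ea77355d9624dd665b2f89335f7e47318c8f4c6be247098abf43d215945d9ee408e4b6f8a7f5bedde6f07a7733aa1d2331c7ac3609c5edf66d9bf65a6ac45676385d960c6a6ab2fd170339cbafaea15cec15545c46969eaa94c6a8853d365e6eba6ad08293147522be93a86c3f5a548f4b79f73c1e34d9c6e6a8e9d2d9ad5de32219b9cae8d259a476cd6068f2d197b4b1171f4b99430a4e60e9ae1dc49804ed68b45ee1b489240892014e873080ca74c8504074893de6c3cc961d28e214274dd90dab508943691a03b60adcbd558a0fa8a9a2821730a9653671078c080460e2241e4b0d8fa21a30c20b1cc5f69e95e05002ca2468ad4164b9c1c5070830a7fad77b5f899c1000a3419294d6ea1e6081810095846b19404900c4021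
noncomputable def tJ0 : ℕ := nat_lit 0x22122212122213244421122261516351033114115340451111333131613512111221111213811416241481a101171111151141019711017110101011110311311011711111101101101183111113101611010101111171000010010011000000
noncomputable def tD0 : ℕ := nat_lit 0x7c406f680dd102b84036d804d60119501311015c408b14115081a8b034da0a90415168020e053c80a72004d602180052c00851c109402100031c404304085200880020c40010004100000000
noncomputable def tT : Tr := (.leaf tT0)
noncomputable def tJ : Tr := (.leaf tJ0)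
noncomputable def tD : Tr := (.leaf tD0)

def rels : List (List ℕ) := [[0,0],
  [1,1],
  [2,2],
  [3,3],
  [4,4],
  [5,5],
  [0,1,0,1],
  [0,2,0,2],
  [0,3,0,3],
  [0,4,0,4],
  [0,5,0,5],
  [1,2,1,2,0],
  [1,3,1,3,0],
  [1,4,1,4,0],
  [1,5,1,5,0],
  [2,3,2,3,0],
  [2,4,2,4,0],
  [2,5,2,5,0],
  [3,4,3,4,0],
  [3,5,3,5,0],
  [4,5,4,5,0],
  [1,2,3,4,5]]
def subs : List (List ℕ) := []
def iv (a : ℕ) : ℕ := [0,1,2,3,4,5,6].getD a 0
noncomputable def RR0 : List Rule := [.bwd [0] 0 0 0,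
  .bwd [3,0,3] 8 2 0,
  .bwd [2,0,2] 7 2 0,
  .bwd [5,0,5] 10 2 0,
  .bwd [4,0,4] 9 2 0]
noncomputable def RR1 : List Rule := [.bwd [1] 1 0 0,
  .bwd [3,0,1,3] 12 2 0,
  .bwd [4,0,1,4] 13 2 0,
  .bwd [5,0,1,5] 14 2 0,
  .bwd [2,1,0,2] 11 2 1,
  .bwd [0,2,1,2] 11 4 1,
  .bwd [0,1,0] 6 1 0,
  .bwd [2,0,1,2] 11 2 0]
noncomputable def RR2 : List Rule := [.bwd [2] 2 0 0,
  .bwd [3,0,2,3] 15 2 0,
  .bwd [4,0,2,4] 16 2 0,
  .bwd [5,0,2,5] 17 2 0,
  .bwd [1,2,0,1] 11 1 0,
  .bwd [0,1,2,1] 11 3 0,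
  .bwd [3,4,5,1] 21 1 0]
noncomputable def RR3 : List Rule := [.bwd [3] 3 0 0,
  .bwd [5,3,0,5] 19 2 1,
  .bwd [4,3,0,4] 18 2 1,
  .bwd [1,3,0,1] 12 1 0,
  .bwd [2,3,0,2] 15 1 0,
  .bwd [4,0,3,4] 18 2 0,
  .bwd [2,1,5,4] 21 2 1,
  .bwd [5,0,3,5] 19 2 0,
  .bwd [0,1,3,1] 12 3 0,
  .bwd [0,3,0] 8 1 0]
noncomputable def RR4 : List Rule := [.bwd [4] 4 0 0,
  .bwd [3,4,0,3] 18 1 0,
  .bwd [5,0,4,5] 20 2 0,
  .bwd [2,4,0,2] 16 1 0,
  .bwd [3,2,1,5] 21 1 1,
  .bwd [5,4,0,5] 20 2 1,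
  .bwd [0,5,4,5] 20 4 1]
noncomputable def RR5 : List Rule := [.bwd [5] 5 0 0,
  .bwd [3,5,0,3] 19 1 0,
  .bwd [4,5,0,4] 20 1 0,
  .bwd [1,5,0,1] 14 1 0,
  .bwd [0,4,5,4] 20 3 0,
  .bwd [2,5,0,2] 17 1 0,
  .bwd [1,2,3,4] 21 4 0,
  .bwd [2,5,2,0] 17 1 1]
noncomputable def RR : List (List Rule) := [RR0, RR1, RR2, RR3, RR4, RR5]
noncomputable def rowp (j : ℕ) : ℕ := piece tT (nat_lit 3) (nat_lit 7) (nat_lit 2496) (Nat.pred (Nat.shiftLeft 1 (nat_lit 2496))) j
noncomputable def row (u : ℕ) : ℕ := rowOf rowp (nat_lit 5) (nat_lit 31) (nat_lit 78) u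
noncomputable def jrowp (j : ℕ) : ℕ := piece tJ (nat_lit 3) (nat_lit 7) (nat_lit 3072) (Nat.pred (Nat.shiftLeft 1 (nat_lit 3072))) j
noncomputable def jrow (u : ℕ) : ℕ := rowOf jrowp (nat_lit 7) (nat_lit 127) (nat_lit 24) u
noncomputable def drowp (j : ℕ) : ℕ := piece tD (nat_lit 3) (nat_lit 7) (nat_lit 2432) (Nat.pred (Nat.shiftLeft 1 (nat_lit 2432))) j
noncomputable def drow (u : ℕ) : ℕ := rowOf drowp (nat_lit 7) (nat_lit 127) (nat_lit 19) u
noncomputable def cert : PCert := ⟨(nat_lit 6), (nat_lit 6), (nat_lit 31), (nat_lit 13), (nat_lit 8191), (nat_lit 8190), (nat_lit 32), (nat_lit 31), (nat_lit 31), (nat_lit 4), (nat_lit 15), (nat_lit 4), (nat_lit 15), (nat_lit 524287), (nat_lit 0), row, jrow, drow, RR⟩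
theorem params : cert.paramsOK = true := by decide +kernel
theorem rules : rulesOK rels subs iv cert.L cert.LL cert.RR = true := by decide +kernel
theorem blk0 : cert.alive (nat_lit 0) (nat_lit 1) (nat_lit 32) = 0 := by decide +kernel
theorem up0 : cert.Upto 0 := PCert.upto_zero _
theorem up1 : cert.Upto 32 := up0.alive params blk0 (by decide)

theorem covers {G : Type*} [Group G] {g : ℕ → G} {H : Subgroup G}
    (h : Sat g H 6 iv rels subs) : Covers g 6 H 32 :=
  PCert.covers (p := cert) params rules (by decide +kernel) up1 h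

end CL.JQ.Ezpqrst

namespace CL.JQ
open CL.CE CL.K CL.Reg

def iv (a : ℕ) : ℕ := [0,1,2,3,4,5].getD a a
def Rels : List (List ℕ) := [[0,0], [1,1], [2,2], [3,3], [4,4], [5,5], [0,1,0,1], [0,2,0,2], [0,3,0,3], [0,4,0,4], [0,5,0,5], [1,2,1,2,0], [1,3,1,3,0], [1,4,1,4,0], [1,5,1,5,0], [2,3,2,3,0], [2,4,2,4,0], [2,5,2,5,0], [3,4,3,4,0], [3,5,3,5,0], [4,5,4,5,0], [1,2,3,4,5]]

theorem idx_zpqrst {G : Type*} [Group G] {g : ℕ → G} (h : Pres g iv Rels) :
    IdxLe (gen g []) (gen g [[0], [1], [2], [3], [4], [5]]) 32 :=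
  h.idxLe _ _ CL.JQ.Ezpqrst.covers (by decide +kernel)

theorem le_zpqrst {G : Type*} [Group G] {g : ℕ → G} (h : Pres g iv Rels) :
    CardLe (gen g [[0], [1], [2], [3], [4], [5]]) 32 :=
  (idx_zpqrst h).cardLe (cardLe_nil g) (by norm_num)

noncomputable def Q_T : ℕ := nat_lit 0x519948ed3033b3743706b4cf5968cf2ae0dafd892f276a21e5f4a27edcae2317897a0453fba77104dc7333fc8d1d1cbd75a3e2af9c3c69fd6ded9c6c147365f2a29f9589745b4d357f89100eef379be1b49c5f6831693b9a8583e62900881ff778bd8359c2af6056899ca20821ee6b0075a928380c520c41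
noncomputable def Q_W : ℕ := nat_lit 0x5646362665453525645434246353432362524232615141312106050403020100
noncomputable def Q_I : ℕ := nat_lit 0xdde6ffda4ef6a2dee6ace62905a928398a418820
noncomputable def Q_dat : Dat := ⟨nat_lit 32, nat_lit 6, nat_lit 2, [0,1,2,3,4,5], tb (nat_lit 6) (nat_lit 5) (nat_lit 31) Q_T,
  fld (nat_lit 8) (nat_lit 255) Q_W, fld (nat_lit 5) (nat_lit 31) Q_I⟩
theorem Q_chk : Q_dat.Chk Rels :=
  Dat.chk_of (a := 4) (b := 8) (by decide +kernel) rfl (by decide +kernel)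
theorem Q_good : Q_dat.Good Rels := Q_chk.good fun _ hg => le_zpqrst hg
/-- the group of the table -/
abbrev Q : Type := RG Q_dat Q_good
theorem Q_hom {G : Type*} [Group G] {g : ℕ → G} (hg : Pres g iv Rels) :
    ∃ φ : Q →* G, φ.range = gen g [[0], [1], [2], [3], [4], [5]] ∧
      ∀ w : List ℕ, ltAll 6 w = true → φ (RG.wd Q_good w) = ev g w :=
  RG.exists_hom hg fun _ hg' => le_zpqrst hg'

end CL.JQ

namespace CL.JA.Eabc
open CL.CE CL.K

noncomputable def tT0 : ℕ := nat_lit 0xb1decfab0b6b79b4eeb28aeeaa78a8a6976aae6935b2ee836a1869b89fde79f9b7e6b4a3e25a099d65f393ca4a798d25338ec63e08bc23728aaa331869a1ef82aa0ee88c1feb84bdfa27a85eecafedde27cb5dab80b9d1e75b206f72762716ea1be5a7e5b696c72afa689a47369919e785c19976365c29628d7d75e8daa75c597646195e2c5a55f6e79b5614a2de574564e4329cd55129dd941d73ad45b4f79c6a4e452d86ba129a474519a5279110456d25c6495018415931c3f64f906090f0f65996e33a3109936516623738d555784d0b30495603128bd3537cb89486cb084d750da2a18f582730ed726348cb2234e15201484e253ca0f395878524387043350609191cc9317285832d484c62b44487100868a112050829403821f343011d302411b2c203060054907103c704003460a102c502001430308041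
noncomputable def tJ0 : ℕ := nat_lit 0x4ca24b2892590590426492d024b28a24a10924020a0082100512c920120120924108028164900964124024840121004900840b248041241441081241041081200208200
noncomputable def tD0 : ℕ := nat_lit 0xeed00ea800e6900e3500df601d9f00d7401d2002ce701cb101c6a00c2601bea02ba200b6102b2b00ade01a9d01a6802a1c019e6029970096300923018d6028950185401813017d20179d027510071a006da016900265801610005cf0158c015540250b004d2024890044801406013cd0038d0134502305002c4012890224301207001c2021820014101103000c002080010400000000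
noncomputable def tT : Tr := (.leaf tT0)
noncomputable def tJ : Tr := (.leaf tJ0)
noncomputable def tD : Tr := (.leaf tD0)

def rels : List (List ℕ) := [[0,0],
  [1,1],
  [2,2],
  [0,2,0,2],
  [0,1,0,1,0,1,0,1,0,1],
  [1,2,1,2,1,2],
  [0,1,2,0,1,2,0,1,2,0,1,2,0,1,2]]
def subs : List (List ℕ) := []
def iv (a : ℕ) : ℕ := [0,1,2,3].getD a 0
noncomputable def RR0 : List Rule := [.bwd [0] 0 0 0,
  .bwd [2,0,2] 3 2 0,
  .bwd [1,0,1,0,1,0,1,0,1] 4 2 0]
noncomputable def RR1 : List Rule := [.bwd [1] 1 0 0,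
  .bwd [2,1,2,1,2] 5 2 0,
  .bwd [0,1,0,1,0,1,0,1,0] 4 1 0]
noncomputable def RR2 : List Rule := [.bwd [2] 2 0 0,
  .bwd [0,2,0] 3 1 0,
  .bwd [1,2,1,2,1] 5 1 0,
  .bwd [1,0,2,1,0,2,1,0,2,1,0,2,1,0] 6 3 1]
noncomputable def RR : List (List Rule) := [RR0, RR1, RR2]
noncomputable def rowp (j : ℕ) : ℕ := piece tT (nat_lit 3) (nat_lit 7) (nat_lit 2688) (Nat.pred (Nat.shiftLeft 1 (nat_lit 2688))) j
noncomputable def row (u : ℕ) : ℕ := rowOf rowp (nat_lit 6) (nat_lit 63) (nat_lit 42) u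
noncomputable def jrowp (j : ℕ) : ℕ := piece tJ (nat_lit 3) (nat_lit 7) (nat_lit 2304) (Nat.pred (Nat.shiftLeft 1 (nat_lit 2304))) j
noncomputable def jrow (u : ℕ) : ℕ := rowOf jrowp (nat_lit 8) (nat_lit 255) (nat_lit 9) u
noncomputable def drowp (j : ℕ) : ℕ := piece tD (nat_lit 3) (nat_lit 7) (nat_lit 2560) (Nat.pred (Nat.shiftLeft 1 (nat_lit 2560))) j
noncomputable def drow (u : ℕ) : ℕ := rowOf drowp (nat_lit 7) (nat_lit 127) (nat_lit 20) u
noncomputable def cert : PCert := ⟨(nat_lit 3), (nat_lit 3), (nat_lit 63), (nat_lit 14), (nat_lit 16383), (nat_lit 16382), (nat_lit 60), (nat_lit 59), (nat_lit 59), (nat_lit 3), (nat_lit 7), (nat_lit 3), (nat_lit 7), (nat_lit 1048575), (nat_lit 0), row, jrow, drow, RR⟩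
theorem params : cert.paramsOK = true := by decide +kernel
theorem rules : rulesOK rels subs iv cert.L cert.LL cert.RR = true := by decide +kernel
theorem blk0 : cert.alive (nat_lit 0) (nat_lit 1) (nat_lit 60) = 0 := by decide +kernel
theorem up0 : cert.Upto 0 := PCert.upto_zero _
theorem up1 : cert.Upto 60 := up0.alive params blk0 (by decide)

theorem covers {G : Type*} [Group G] {g : ℕ → G} {H : Subgroup G}
    (h : Sat g H 3 iv rels subs) : Covers g 3 H 60 :=
  PCert.covers (p := cert) params rules (by decide +kernel) up1 h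

end CL.JA.Eabc

namespace CL.JA
open CL.CE CL.K CL.Reg

def iv (a : ℕ) : ℕ := [0,1,2].getD a a
def Rels : List (List ℕ) := [[0,0], [1,1], [2,2], [0,2,0,2], [0,1,0,1,0,1,0,1,0,1], [1,2,1,2,1,2], [0,1,2,0,1,2,0,1,2,0,1,2,0,1,2]]

theorem idx_abc {G : Type*} [Group G] {g : ℕ → G} (h : Pres g iv Rels) :
    IdxLe (gen g []) (gen g [[0], [1], [2]]) 60 :=
  h.idxLe _ _ CL.JA.Eabc.covers (by decide +kernel)

theorem le_abc {G : Type*} [Group G] {g : ℕ → G} (h : Pres g iv Rels) :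
    CardLe (gen g [[0], [1], [2]]) 60 :=
  (idx_abc h).cardLe (cardLe_nil g) (by norm_num)

noncomputable def A_T : ℕ := nat_lit 0xdafc2dc6eb33cb2b6ccebd3bd6aa36a67a77df99f89b99ba96a93b8bb8e18faeb88798388377f07b6774d7589dd1ccf1c9b6dac59c1a62ebefa18b97b6bb16595ad4a95a53a139d29519909649144233e23e139f36031f79e64c71d2cb29c25b29a2595d82081d71961d51944854c449145010e0cf08e34d30204b0ca049008147006144003081
noncomputable def A_W : ℕ := nat_lit 0x231212331212323212312121231221232121231212312123132123211212321212312112321212312121031212303212320121232021231201232120231212032123101212310212321012312102321210312121003212300121230021232001231200232120031212002123100123210023121003212100121210002123000123200023120003212000121200012310002321000312100021210000123000023200003120000212000023100003210000121000002300000320000012000003100000210000003000000200000010000000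
noncomputable def A_I : ℕ := nat_lit 0xe74ef0df2d7ac76cf8a6e96a9ecbe4ae6b688da7db85d79c8226554966104574d428e2cc34f2472041460c2040
noncomputable def A_dat : Dat := ⟨nat_lit 60, nat_lit 3, nat_lit 7, [0,1,2], tb (nat_lit 3) (nat_lit 6) (nat_lit 63) A_T,
  fld (nat_lit 28) (nat_lit 268435455) A_W, fld (nat_lit 6) (nat_lit 63) A_I⟩
theorem A_chk : A_dat.Chk Rels :=
  Dat.chk_of (a := 6) (b := 10) (by decide +kernel) rfl (by decide +kernel)
theorem A_good : A_dat.Good Rels := A_chk.good fun _ hg => le_abc hg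
/-- the group of the table -/
abbrev A : Type := RG A_dat A_good
theorem A_hom {G : Type*} [Group G] {g : ℕ → G} (hg : Pres g iv Rels) :
    ∃ φ : A →* G, φ.range = gen g [[0], [1], [2]] ∧
      ∀ w : List ℕ, ltAll 3 w = true → φ (RG.wd A_good w) = ev g w :=
  RG.exists_hom hg fun _ hg' => le_abc hg'

end CL.JA
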